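import Mathlib.AlgebraicGeometry.QuasiAffine
import Mathlib.AlgebraicGeometry.Morphisms.QuasiSeparated
import Mathlib.AlgebraicGeometry.Morphisms.Affine
import Groth.Prelude.Def_Mor2

set_option autoImplicit false
universe u
open CategoryTheory CategoryTheory.Limits AlgebraicGeometry TopologicalSpace

namespace Groth.Agent.Lib.Helper7.QA

/-- Quasi-affineness is invariant under isomorphism. -/
lemma isQuasiAffine_of_iso {X Y : Scheme.{u}} (e : X ≅ Y) [Y.IsQuasiAffine] : X.IsQuasiAffine :=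
  Scheme.IsQuasiAffine.of_isAffineHom e.hom

/-- Key lemma: a quasi-compact scheme covered by quasi-affine basic opens of global sections is
quasi-affine. -/
lemma isQuasiAffine_of_forall_exists_basicOpen (X : Scheme.{u}) [CompactSpace X]
    (H : ∀ x : X, ∃ b : Γ(X, ⊤), x ∈ X.basicOpen b ∧
      Scheme.IsQuasiAffine (X.basicOpen b : Scheme.{u})) :
    X.IsQuasiAffine := by
  have : QuasiSeparatedSpace X := by
    choose b hxb hb using H
    exact .of_isOpenCover (U := (X.basicOpen <| b ·))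
      (eq_top_iff.mpr fun x _ ↦ Opens.mem_iSup.mpr ⟨x, hxb x⟩)
      (fun _ ↦ isRetrocompact_basicOpen _) (fun x ↦ by
        have := hb x
        refine (isQuasiSeparated_iff_quasiSeparatedSpace _ (X.basicOpen (b x)).2).mpr ?_
        show QuasiSeparatedSpace (X.basicOpen (b x)).toScheme
        infer_instance)
  refine Scheme.IsQuasiAffine.of_forall_exists_mem_basicOpen X fun x => ?_
  obtain ⟨b, hxb, hqa⟩ := H x
  obtain ⟨_, ⟨_, ⟨r', hr', rfl⟩, rfl⟩, hxr', -⟩ :=
    (Scheme.IsQuasiAffine.isBasis_basicOpen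
      (Scheme.Opens.toScheme (X.basicOpen b))).exists_subset_of_mem_open
      (Set.mem_univ (⟨x, hxb⟩ : Scheme.Opens.toScheme (X.basicOpen b))) isOpen_univ
  set r'' : Γ(X, X.basicOpen b) := (X.basicOpen b).topIso.hom r' with hr''
  have hr'eq : r' = (X.basicOpen b).topIso.inv r'' := by
    rw [hr'', ← CommRingCat.comp_apply, Iso.hom_inv_id, CommRingCat.id_apply]
  have himg : (X.basicOpen b).ι ''ᵁ (Scheme.Opens.toScheme (X.basicOpen b)).basicOpen r' =
      X.basicOpen r'' := by
    rw [hr'eq]; exact Scheme.Opens.ι_image_basicOpen_topIso_inv _ r''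
  have haff : IsAffineOpen (X.basicOpen r'') := by
    rw [← himg]; exact hr'.image_of_isOpenImmersion _
  have hxr'' : x ∈ X.basicOpen r'' := by
    rw [← himg]; exact ⟨⟨x, hxb⟩, hxr', rfl⟩
  obtain ⟨n, s, hs⟩ := exists_eq_pow_mul_of_isCompact_of_isQuasiSeparated X ⊤
    isCompact_univ isQuasiSeparated_univ b r''
  refine ⟨s * b, ?_⟩
  have key : X.basicOpen (s * b) = X.basicOpen r'' := by
    have hunit : IsUnit (b |_ X.basicOpen b) := RingedSpace.isUnit_res_basicOpen _ b
    have h1 : X.basicOpen (s |_ X.basicOpen b) = X.basicOpen b ⊓ X.basicOpen s :=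
      Scheme.basicOpen_res X s _
    have h2 : X.basicOpen ((b |_ X.basicOpen b) ^ n * r'') = X.basicOpen r'' := by
      rw [Scheme.basicOpen_mul, Scheme.basicOpen_of_isUnit X (hunit.pow n)]
      exact inf_eq_right.mpr (X.basicOpen_le r'')
    rw [Scheme.basicOpen_mul, inf_comm, ← h1, hs, h2]
  rw [key]
  exact ⟨haff, hxr''⟩


/-- The affine-target property: the source is a quasi-affine scheme. -/
def qaff : AffineTargetMorphismProperty := fun X _ _ _ => X.IsQuasiAffine

/-- Quasi-affine morphisms as a morphism property. -/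
def QAffHom : MorphismProperty Scheme.{u} := fun _ _ f => Mor2.IsQuasiAffine f

lemma qaff_to_basicOpen {X Y : Scheme.{u}} [IsAffine Y] (f : X ⟶ Y) (r : Γ(Y, ⊤))
    (h : X.IsQuasiAffine) : (f ⁻¹ᵁ Y.basicOpen r : Scheme.{u}).IsQuasiAffine := by
  have : CompactSpace ↥(f ⁻¹ᵁ Y.basicOpen r : Scheme.{u}) := by
    rw [Scheme.preimage_basicOpen f r]
    exact isCompact_iff_compactSpace.mp (isCompact_basicOpen _ isCompact_univ _)
  exact Scheme.IsQuasiAffine.of_isImmersion (f ⁻¹ᵁ Y.basicOpen r).ι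

lemma qaff_of_basicOpenCover {X Y : Scheme.{u}} [IsAffine Y] (f : X ⟶ Y) (s : Finset Γ(Y, ⊤))
    (hs : Ideal.span (s : Set Γ(Y, ⊤)) = ⊤)
    (H : ∀ r : s, (f ⁻¹ᵁ Y.basicOpen r.1 : Scheme.{u}).IsQuasiAffine) : X.IsQuasiAffine := by
  have hS := hs
  rw [← (isAffineOpen_top _).iSup_basicOpen_eq_self_iff] at hS
  have hcov : ∀ x : X, ∃ r : s, x ∈ f ⁻¹ᵁ Y.basicOpen r.1 := by
    intro x
    have : f x ∈ (⊤ : Y.Opens) := trivial
    rw [← hS] at this
    obtain ⟨r, hr⟩ := Opens.mem_iSup.mp this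
    exact ⟨r, hr⟩
  have : CompactSpace X := by
    rw [← isCompact_univ_iff, ← Opens.coe_top, ← f.preimage_top, ← hS, Scheme.Hom.preimage_iSup,
      Opens.iSup_mk, Opens.coe_mk]
    exact isCompact_iUnion fun i => isCompact_iff_compactSpace.mpr (H i).toCompactSpace
  refine isQuasiAffine_of_forall_exists_basicOpen X fun x => ?_
  obtain ⟨r, hr⟩ := hcov x
  refine ⟨f.appTop r.1, ?_, ?_⟩
  · rw [← Scheme.preimage_basicOpen_top]; exact hr
  · have := H r
    rw [← Scheme.preimage_basicOpen_top]; exact this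

instance qaff_isLocal : qaff.{u}.IsLocal where
  respectsIso := by
    apply AffineTargetMorphismProperty.respectsIso_mk
    · intro X Y Z e f _ (h : Y.IsQuasiAffine)
      exact isQuasiAffine_of_iso e
    · intro X Y Z e f _ h
      exact h
  to_basicOpen f r h := qaff_to_basicOpen f r h
  of_basicOpenCover f s hs H := qaff_of_basicOpenCover f s hs H

lemma QAffHom_eq : QAffHom.{u} = targetAffineLocally qaff := by
  ext X Y f
  constructor
  · intro h U
    exact h.2 U.1 U.2
  · intro h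
    refine ⟨?_, fun V hV => h ⟨V, hV⟩⟩
    rw [quasiCompact_iff_forall_isAffineOpen]
    intro U hU
    exact isCompact_iff_compactSpace.mpr (h ⟨U, hU⟩).toCompactSpace

instance : HasAffineProperty QAffHom.{u} qaff where
  isLocal_affineProperty := inferInstance
  eq_targetAffineLocally' := QAffHom_eq


lemma qaff_isStableUnderBaseChange : qaff.{u}.IsStableUnderBaseChange := by
  apply AffineTargetMorphismProperty.IsStableUnderBaseChange.mk
  intro X Y S _ _ f g (h : Y.IsQuasiAffine)
  show (pullback f g).IsQuasiAffine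
  have : IsAffineHom (pullback.snd f g) :=
    (MorphismProperty.IsStableUnderBaseChange.of_isPullback (P := @IsAffineHom)
      (IsPullback.of_hasPullback f g) (inferInstance : IsAffineHom f))
  exact Scheme.IsQuasiAffine.of_isAffineHom (pullback.snd f g)

instance : QAffHom.{u}.IsStableUnderBaseChange :=
  HasAffineProperty.isStableUnderBaseChange qaff_isStableUnderBaseChange

/-- A quasi-affine morphism into a quasi-affine scheme has quasi-affine source. -/
lemma isQuasiAffine_of_QAffHom {X Y : Scheme.{u}} (f : X ⟶ Y) (hf : Mor2.IsQuasiAffine f)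
    [Y.IsQuasiAffine] : X.IsQuasiAffine := by
  have := hf.1
  have : CompactSpace X := QuasiCompact.compactSpace_of_compactSpace f
  refine isQuasiAffine_of_forall_exists_basicOpen X fun x => ?_
  obtain ⟨_, ⟨_, ⟨r, hr, rfl⟩, rfl⟩, hxr, -⟩ := (Scheme.IsQuasiAffine.isBasis_basicOpen
    Y).exists_subset_of_mem_open (Set.mem_univ (f x)) isOpen_univ
  refine ⟨f.appTop r, ?_, ?_⟩
  · rw [← Scheme.preimage_basicOpen_top]; exact hxr
  · have := hf.2 _ hr
    rw [← Scheme.preimage_basicOpen_top]; exact this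

lemma QAffHom_comp {X Y Z : Scheme.{u}} (f : X ⟶ Y) (g : Y ⟶ Z) (hf : Mor2.IsQuasiAffine f)
    (hg : Mor2.IsQuasiAffine g) : Mor2.IsQuasiAffine (f ≫ g) := by
  have := hf.1
  have := hg.1
  refine ⟨inferInstance, fun W hW => ?_⟩
  have hY : (g ⁻¹ᵁ W : Scheme.{u}).IsQuasiAffine := hg.2 W hW
  have hres : QAffHom (f ∣_ (g ⁻¹ᵁ W)) := IsZariskiLocalAtTarget.restrict (P := QAffHom) hf _
  exact isQuasiAffine_of_QAffHom (f ∣_ (g ⁻¹ᵁ W)) hres

lemma QAffHom_of_isAffineHom {X Y : Scheme.{u}} (f : X ⟶ Y) [IsAffineHom f] :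
    Mor2.IsQuasiAffine f := by
  refine ⟨inferInstance, fun V hV => ?_⟩
  have : IsAffine (f ⁻¹ᵁ V : Scheme.{u}) := IsAffineHom.isAffine_preimage V hV
  infer_instance

instance : QAffHom.{u}.IsMultiplicative where
  id_mem X := QAffHom_of_isAffineHom (𝟙 X)
  comp_mem f g hf hg := QAffHom_comp f g hf hg


/-- A quasi-compact scheme with an inducing map to an affine scheme is quasi-affine. -/
lemma isQuasiAffine_of_isInducing {X Y : Scheme.{u}} [IsAffine Y] [CompactSpace X] (f : X ⟶ Y)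
    (hf : Topology.IsInducing f) : X.IsQuasiAffine := by
  refine Scheme.IsQuasiAffine.of_forall_exists_mem_basicOpen X fun x => ?_
  obtain ⟨_, ⟨V, hV, rfl⟩, hxV, -⟩ :=
    X.isBasis_affineOpens.exists_subset_of_mem_open (Set.mem_univ x) isOpen_univ
  obtain ⟨U', rfl⟩ : ∃ U' : Y.Opens, f ⁻¹ᵁ U' = V := by
    obtain ⟨U', hU', e⟩ := hf.isOpen_iff.mp V.2
    exact ⟨⟨U', hU'⟩, Opens.ext e⟩
  obtain ⟨r, hrU', hxr⟩ := (isAffineOpen_top Y).exists_basicOpen_le ⟨f x, hxV⟩ trivial
  refine ⟨f.appTop r, ?_, ?_⟩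
  · have hle : X.basicOpen (f.appTop r) ≤ f ⁻¹ᵁ U' := by
      rw [← Scheme.preimage_basicOpen_top]
      exact fun z hz => hrU' hz
    have := hV.basicOpen (X.presheaf.map (homOfLE (le_top : f ⁻¹ᵁ U' ≤ ⊤)).op (f.appTop r))
    rw [Scheme.basicOpen_res] at this
    rwa [inf_eq_right.mpr hle] at this
  · rw [← Scheme.preimage_basicOpen_top]; exact hxr

lemma QAffHom_of_isInducing {X Y : Scheme.{u}} (f : X ⟶ Y) [QuasiCompact f]
    (hf : Topology.IsInducing f) : Mor2.IsQuasiAffine f := by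
  refine ⟨inferInstance, fun V hV => ?_⟩
  have : IsAffine (V : Scheme.{u}) := hV
  have : CompactSpace ↥(f ⁻¹ᵁ V : Scheme.{u}) :=
    isCompact_iff_compactSpace.mp (f.isCompact_preimage hV.isCompact)
  refine isQuasiAffine_of_isInducing (f ∣_ V) ?_
  rw [morphismRestrict_base]
  exact hf.restrictPreimage _

/-- Quasi-compact immersions are quasi-affine. -/
lemma QAffHom_of_isImmersion {X Y : Scheme.{u}} (f : X ⟶ Y) [QuasiCompact f] [IsImmersion f] :
    Mor2.IsQuasiAffine f :=
  QAffHom_of_isInducing f f.isEmbedding.isInducing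

instance : MorphismProperty.HasOfPostcompProperty QAffHom.{u} @QuasiSeparated :=
  MorphismProperty.hasOfPostcompProperty_iff_le_diagonal.mpr (by
    intro X Y f (hf : QuasiSeparated f)
    exact QAffHom_of_isImmersion (pullback.diagonal f))

lemma QAffHom_of_comp {X Y Z : Scheme.{u}} (f : X ⟶ Y) (g : Y ⟶ Z) [QuasiSeparated g]
    (h : Mor2.IsQuasiAffine (f ≫ g)) : Mor2.IsQuasiAffine f :=
  MorphismProperty.of_postcomp (W := QAffHom) (W' := @QuasiSeparated) f g inferInstance h

end Groth.Agent.Lib.Helper7.QA
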