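import Groth.Agent.Lib.Helper2.FreeModAff
import Groth.Prelude.Def_DCoh2

/-!
# Finite locally free `O_X`-modules: isomorphism invariance and direct sums (helper7)
-/

set_option autoImplicit false
universe u

open CategoryTheory CategoryTheory.Limits AlgebraicGeometry

namespace Groth.Agent.Lib.Helper7.FinLocFree

variable {X : Scheme.{u}}

/-- `O^n ⊞ O^m ≅ O^(n+m)` -/
noncomputable def freeModBiprodIso (n m : ℕ) :
    FlatMod.freeMod X n ⊞ FlatMod.freeMod X m ≅ FlatMod.freeMod X (n + m) where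
  hom := biprod.desc
    (Sigma.desc fun i => Sigma.ι (fun _ : Fin (n + m) => Coh.structureModule X) (Fin.castAdd m i))
    (Sigma.desc fun j => Sigma.ι (fun _ : Fin (n + m) => Coh.structureModule X) (Fin.natAdd n j))
  inv := Sigma.desc fun k => Fin.addCases
    (fun i => Sigma.ι (fun _ : Fin n => Coh.structureModule X) i ≫ biprod.inl)
    (fun j => Sigma.ι (fun _ : Fin m => Coh.structureModule X) j ≫ biprod.inr) k
  hom_inv_id := by
    apply biprod.hom_ext'
    · apply Sigma.hom_ext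
      intro i
      simp
    · apply Sigma.hom_ext
      intro j
      simp
  inv_hom_id := by
    apply Sigma.hom_ext
    intro k
    refine Fin.addCases (fun i => ?_) (fun j => ?_) k
    · simp
    · simp

theorem isFinLocFree_of_iso {M N : X.Modules} (e : M ≅ N) (h : FlatMod.IsFinLocFree M) :
    FlatMod.IsFinLocFree N := by
  intro x
  obtain ⟨U, n, hx, ⟨e'⟩⟩ := h x
  exact ⟨U, n, hx, ⟨(Scheme.Modules.restrictFunctor U.ι).mapIso e.symm ≪≫ e'⟩⟩

theorem isFinLocFree_biprod {M N : X.Modules} (hM : FlatMod.IsFinLocFree M)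
    (hN : FlatMod.IsFinLocFree N) : FlatMod.IsFinLocFree (M ⊞ N) := by
  intro x
  obtain ⟨U₁, n₁, hx₁, h₁⟩ := hM x
  obtain ⟨U₂, n₂, hx₂, h₂⟩ := hN x
  obtain ⟨e₁⟩ := Groth.Agent.Lib.Helper2.FreeModAff.nonempty_iso_freeMod_of_le M
    (inf_le_left : U₁ ⊓ U₂ ≤ U₁) n₁ h₁
  obtain ⟨e₂⟩ := Groth.Agent.Lib.Helper2.FreeModAff.nonempty_iso_freeMod_of_le N
    (inf_le_right : U₁ ⊓ U₂ ≤ U₂) n₂ h₂
  refine ⟨U₁ ⊓ U₂, n₁ + n₂, ⟨hx₁, hx₂⟩, ⟨?_⟩⟩
  haveI : PreservesBinaryBiproducts (Scheme.Modules.restrictFunctor (U₁ ⊓ U₂).ι) :=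
    preservesBinaryBiproducts_of_preservesBinaryCoproducts _
  exact (Scheme.Modules.restrictFunctor (U₁ ⊓ U₂).ι).mapBiprod M N ≪≫ biprod.mapIso e₁ e₂ ≪≫
    freeModBiprodIso n₁ n₂

theorem isZero_biprod {C : Type*} [Category C] [HasZeroMorphisms C] {A B : C}
    [HasBinaryBiproduct A B] (hA : IsZero A) (hB : IsZero B) : IsZero (A ⊞ B) := by
  rw [IsZero.iff_id_eq_zero]
  apply biprod.hom_ext
  · exact hA.eq_of_tgt _ _
  · exact hB.eq_of_tgt _ _

end Groth.Agent.Lib.Helper7.FinLocFree
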