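import Groth.Agent.Lib.Helper7.FinLocFree
import Groth.Agent.Lib.Helper40.NisGen

/-!
# Pullback of finite locally free modules is finite locally free (helper7)
-/

set_option autoImplicit false
universe u

open CategoryTheory CategoryTheory.Limits AlgebraicGeometry

namespace Groth.Agent.Lib.Helper7.FinLocFree

/-- the pullback of a free module of rank `N` is free of rank `N` -/
noncomputable def pullbackFreeModIso {X Y : Scheme.{u}} (h : Y ⟶ X) (N : ℕ) :
    (Scheme.Modules.pullback h).obj (FlatMod.freeMod X N) ≅ FlatMod.freeMod Y N :=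
  (asIso (sigmaComparison (Scheme.Modules.pullback h) _)).symm ≪≫
    Sigma.mapIso (fun _ => Groth.Agent.Lib.Helper40.NisGen.pullbackUnitIso h)

/-- restriction of a pullback to the preimage of an open is the pullback of the restriction -/
noncomputable def restrictPullbackIso {X Y : Scheme.{u}} (f : X ⟶ Y) (M : Y.Modules) (U : Y.Opens) :
    ((Scheme.Modules.pullback f).obj M).restrict (f ⁻¹ᵁ U).ι ≅
      (Scheme.Modules.pullback (f ∣_ U)).obj (M.restrict U.ι) :=
  (Scheme.Modules.restrictFunctorIsoPullback (f ⁻¹ᵁ U).ι).app _ ≪≫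
    (Scheme.Modules.pullbackComp (f ⁻¹ᵁ U).ι f).app M ≪≫
    (Scheme.Modules.pullbackCongr (morphismRestrict_ι f U).symm).app M ≪≫
    ((Scheme.Modules.pullbackComp (f ∣_ U) U.ι).app M).symm ≪≫
    (Scheme.Modules.pullback (f ∣_ U)).mapIso ((Scheme.Modules.restrictFunctorIsoPullback U.ι).app M).symm

theorem isFinLocFree_pullback {X Y : Scheme.{u}} (f : X ⟶ Y) {M : Y.Modules}
    (hM : FlatMod.IsFinLocFree M) : FlatMod.IsFinLocFree ((Scheme.Modules.pullback f).obj M) := by
  intro x
  obtain ⟨U, n, hU, ⟨e⟩⟩ := hM (f x)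
  refine ⟨f ⁻¹ᵁ U, n, hU, ⟨?_⟩⟩
  exact restrictPullbackIso f M U ≪≫ (Scheme.Modules.pullback (f ∣_ U)).mapIso e ≪≫
    pullbackFreeModIso (f ∣_ U) n

end Groth.Agent.Lib.Helper7.FinLocFree
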