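import Mathlib
import Groth.Prelude.Def_CohB1
import Groth.Agent.Lib.Lead.FinTypeTop

set_option autoImplicit false
universe u
open CategoryTheory CategoryTheory.Limits AlgebraicGeometry Opposite TopologicalSpace

namespace Groth.Agent.Lib.Helper7.FTPushT2

open Groth.Agent.Lib.Lead.FinTypeTop

section Lift

variable {U P : Scheme.{u}} (i : U ⟶ P) [IsClosedImmersion i]

omit [IsClosedImmersion i] in
theorem map_map_eq {X : Scheme.{u}} {A B C : X.Opens} (f : A ⟶ B) (g : B ⟶ C) (h : A ⟶ C)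
    (z : Γ(X, C)) : X.presheaf.map f.op (X.presheaf.map g.op z) = X.presheaf.map h.op z := by
  have : h = f ≫ g := Subsingleton.elim _ _
  rw [this, op_comp, Functor.map_comp]
  rfl

theorem exists_opens_preimage_eq (WU : U.Opens) : ∃ W : P.Opens, i ⁻¹ᵁ W = WU := by
  obtain ⟨t, ht, htW⟩ := i.isClosedEmbedding.isEmbedding.isInducing.isOpen_iff.mp WU.isOpen
  exact ⟨⟨t, ht⟩, Opens.ext htW⟩

theorem exists_lift_section (WU : U.Opens) (r : Γ(U, WU)) (x : U) (hx : x ∈ WU) :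
    ∃ (W' : P.Opens) (hle : i ⁻¹ᵁ W' ≤ WU) (r' : Γ(P, W')), i x ∈ W' ∧
      (i.app W' r' : Γ(U, i ⁻¹ᵁ W')) = U.presheaf.map (homOfLE hle).op r := by
  obtain ⟨g, hg⟩ := i.stalkMap_surjective x (U.presheaf.germ WU x hx r)
  obtain ⟨W₁, hW₁, r₁, rfl⟩ := P.presheaf.exists_germ_eq g
  rw [Scheme.Hom.germ_stalkMap_apply] at hg
  obtain ⟨W₃, hxW₃, i₁, i₂, heq⟩ := TopCat.Presheaf.germ_eq U.presheaf x _ _ _ _ hg
  obtain ⟨W₂, hW₂⟩ := exists_opens_preimage_eq i W₃
  have hle3 : i ⁻¹ᵁ (W₁ ⊓ W₂) ≤ W₃ := by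
    intro z hz
    have : z ∈ i ⁻¹ᵁ W₂ := hz.2
    rwa [hW₂] at this
  have hxW₂ : i x ∈ W₂ := by
    have : x ∈ i ⁻¹ᵁ W₂ := by rw [hW₂]; exact hxW₃
    exact this
  refine ⟨W₁ ⊓ W₂, hle3.trans (leOfHom i₂), P.presheaf.map (homOfLE inf_le_left).op r₁,
    ⟨hW₁, hxW₂⟩, ?_⟩
  have hnat := i.naturality (homOfLE (inf_le_left : W₁ ⊓ W₂ ≤ W₁)).op
  have h1 : (i.app (W₁ ⊓ W₂)) (P.presheaf.map (homOfLE (inf_le_left : W₁ ⊓ W₂ ≤ W₁)).op r₁) =
      U.presheaf.map ((Opens.map i.base).map (homOfLE (inf_le_left : W₁ ⊓ W₂ ≤ W₁))).op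
        (i.app W₁ r₁) := by
    have := congrArg (fun φ => φ.hom r₁) hnat
    simpa using this
  rw [h1]
  have h2 : U.presheaf.map ((Opens.map i.base).map (homOfLE (inf_le_left : W₁ ⊓ W₂ ≤ W₁))).op
      (i.app W₁ r₁) = U.presheaf.map (homOfLE hle3).op (U.presheaf.map i₁.op (i.app W₁ r₁)) :=
    (map_map_eq (homOfLE hle3) i₁ _ _).symm
  rw [h2, heq]
  exact map_map_eq _ _ _ _

omit [IsClosedImmersion i] in
theorem app_map {W'' W' : P.Opens} (h : W'' ≤ W') (r' : Γ(P, W')) :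
    i.app W'' (P.presheaf.map (homOfLE h).op r') =
      U.presheaf.map (homOfLE (show i ⁻¹ᵁ W'' ≤ i ⁻¹ᵁ W' from fun _ hz => h hz)).op
        (i.app W' r') := by
  have hnat := i.naturality (homOfLE h).op
  have := congrArg (fun φ => φ.hom r') hnat
  simpa using this

theorem exists_lift_section' (WU : U.Opens) (r : Γ(U, WU)) (x : U) (hx : x ∈ WU) :
    ∃ (W' : P.Opens) (hle : i ⁻¹ᵁ W' ≤ WU) (r' : Γ(P, W')), i x ∈ W' ∧
      ∀ (W'' : P.Opens) (h : W'' ≤ W'),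
        i.app W'' (P.presheaf.map (homOfLE h).op r') =
          U.presheaf.map (homOfLE (show i ⁻¹ᵁ W'' ≤ WU from
            (show i ⁻¹ᵁ W'' ≤ i ⁻¹ᵁ W' from fun _ hz => h hz).trans hle)).op r := by
  obtain ⟨W', hle, r', hx', hr'⟩ := exists_lift_section i WU r x hx
  refine ⟨W', hle, r', hx', fun W'' h => ?_⟩
  rw [app_map, hr']
  exact map_map_eq _ _ _ _

end Lift

section Spec

variable {X : Scheme.{u}} (M : X.Modules)

theorem rs_rs' {V W W' : X.Opens} (h : W ≤ V) (h' : W' ≤ W) (m : M.val.obj (op V)) :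
    rs M h' (rs M h m) = rs M (h'.trans h) m := rs_rs M h h' m

theorem rs_add' {V W : X.Opens} (h : W ≤ V) (m m' : M.val.obj (op V)) :
    rs M h (m + m') = rs M h m + rs M h m' := rs_add M h m m'

theorem rs_zero' {V W : X.Opens} (h : W ≤ V) : rs M h (0 : M.val.obj (op V)) = 0 := rs_zero M h

theorem rs_smul' {V W : X.Opens} (h : W ≤ V) (r : X.ringCatSheaf.obj.obj (op V))
    (m : M.val.obj (op V)) :
    rs M h (r • m) = (show X.ringCatSheaf.obj.obj (op W) from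
      X.presheaf.map (homOfLE h).op (show Γ(X, V) from r)) • rs M h m := rs_smul M h r m

theorem rs_mem_span' {W W' : X.Opens} (h : W' ≤ W) {I : Type*} (u : I → M.val.obj (op W))
    (z : M.val.obj (op W))
    (hz : z ∈ Submodule.span (X.ringCatSheaf.obj.obj (op W)) (Set.range u)) :
    rs M h z ∈ Submodule.span (X.ringCatSheaf.obj.obj (op W')) (Set.range fun i => rs M h (u i)) :=
  rs_mem_span M h u z hz

end Spec

section Main

variable {U P : Scheme.{u}} (i : U ⟶ P) (N : U.Modules)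

/-- sections of the pushforward are sections of `N` over the preimage -/
abbrev toN {W : P.Opens} (m : ((Scheme.Modules.pushforward i).obj N).val.obj (op W)) :
    N.val.obj (op (i ⁻¹ᵁ W)) := m

abbrev toM {W : P.Opens} (m : N.val.obj (op (i ⁻¹ᵁ W))) :
    ((Scheme.Modules.pushforward i).obj N).val.obj (op W) := m

theorem rs_push {W W' : P.Opens} (h : W' ≤ W)
    (m : ((Scheme.Modules.pushforward i).obj N).val.obj (op W)) :
    rs ((Scheme.Modules.pushforward i).obj N) h m =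
      toM i N (rs N (show i ⁻¹ᵁ W' ≤ i ⁻¹ᵁ W from fun _ hz => h hz) (toN i N m)) := rfl

theorem smul_push {W : P.Opens} (a : P.ringCatSheaf.obj.obj (op W))
    (m : ((Scheme.Modules.pushforward i).obj N).val.obj (op W)) :
    a • m = toM i N ((show U.ringCatSheaf.obj.obj (op (i ⁻¹ᵁ W)) from
      (i.app W).hom (show Γ(P, W) from a)) • toN i N m) := rfl

variable [IsClosedImmersion i]

theorem span_lift {V : P.Opens} {I : Type u}
    (s : I → ((Scheme.Modules.pushforward i).obj N).val.obj (op V))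
    (W : P.Opens) (hWV : W ≤ V) (WU : U.Opens) (hWUW : WU ≤ i ⁻¹ᵁ W) (x' : U) (hx' : x' ∈ WU)
    (z : N.val.obj (op WU))
    (hz : z ∈ Submodule.span (U.ringCatSheaf.obj.obj (op WU))
      (Set.range fun j => rs N (hWUW.trans (show i ⁻¹ᵁ W ≤ i ⁻¹ᵁ V from fun _ h => hWV h))
        (toN i N (s j)))) :
    ∃ (W' : P.Opens) (hW' : W' ≤ W) (hle : i ⁻¹ᵁ W' ≤ WU), i x' ∈ W' ∧
      toM i N (rs N hle z) ∈ Submodule.span (P.ringCatSheaf.obj.obj (op W'))
        (Set.range fun j => rs ((Scheme.Modules.pushforward i).obj N) (hW'.trans hWV) (s j)) := by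
  induction hz using Submodule.span_induction with
  | mem z hz =>
    obtain ⟨j, rfl⟩ := hz
    obtain ⟨W'', hW''⟩ := exists_opens_preimage_eq i WU
    have hx'' : i x' ∈ W'' := by
      have : x' ∈ i ⁻¹ᵁ W'' := by rw [hW'']; exact hx'
      exact this
    have hle : i ⁻¹ᵁ (W ⊓ W'') ≤ WU := by
      intro y hy
      have : y ∈ i ⁻¹ᵁ W'' := hy.2
      rwa [hW''] at this
    refine ⟨W ⊓ W'', inf_le_left, hle, ⟨hWUW hx', hx''⟩, ?_⟩
    refine Submodule.subset_span ⟨j, ?_⟩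
    change toM i N (rs N _ (toN i N (s j))) = toM i N (rs N hle (rs N _ (toN i N (s j))))
    rw [rs_rs']
  | zero =>
    obtain ⟨W'', hW''⟩ := exists_opens_preimage_eq i WU
    have hx'' : i x' ∈ W'' := by
      have : x' ∈ i ⁻¹ᵁ W'' := by rw [hW'']; exact hx'
      exact this
    have hle : i ⁻¹ᵁ (W ⊓ W'') ≤ WU := by
      intro y hy
      have : y ∈ i ⁻¹ᵁ W'' := hy.2
      rwa [hW''] at this
    refine ⟨W ⊓ W'', inf_le_left, hle, ⟨hWUW hx', hx''⟩, ?_⟩
    rw [rs_zero']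
    exact Submodule.zero_mem _
  | add a b _ _ ha hb =>
    obtain ⟨Wa, hWa, hlea, hxa, hma⟩ := ha
    obtain ⟨Wb, hWb, hleb, hxb, hmb⟩ := hb
    have hle : i ⁻¹ᵁ (Wa ⊓ Wb) ≤ WU := fun y hy => hlea hy.1
    refine ⟨Wa ⊓ Wb, inf_le_left.trans hWa, hle, ⟨hxa, hxb⟩, ?_⟩
    have h1 := rs_mem_span' ((Scheme.Modules.pushforward i).obj N)
      (inf_le_left : Wa ⊓ Wb ≤ Wa) _ _ hma
    have h2 := rs_mem_span' ((Scheme.Modules.pushforward i).obj N)
      (inf_le_right : Wa ⊓ Wb ≤ Wb) _ _ hmb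
    simp only [rs_rs'] at h1 h2
    have e1 : rs N hle (a + b) =
        rs N (show i ⁻¹ᵁ (Wa ⊓ Wb) ≤ i ⁻¹ᵁ Wa from fun _ h => h.1) (rs N hlea a) +
        rs N (show i ⁻¹ᵁ (Wa ⊓ Wb) ≤ i ⁻¹ᵁ Wb from fun _ h => h.2) (rs N hleb b) := by
      rw [rs_rs', rs_rs', rs_add']
    have e : toM i N (rs N hle (a + b)) =
        rs ((Scheme.Modules.pushforward i).obj N) (inf_le_left : Wa ⊓ Wb ≤ Wa)
          (toM i N (rs N hlea a)) +
        rs ((Scheme.Modules.pushforward i).obj N) (inf_le_right : Wa ⊓ Wb ≤ Wb)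
          (toM i N (rs N hleb b)) := congrArg (toM i N) e1
    rw [e]
    exact Submodule.add_mem _ h1 h2
  | smul r z _ hz =>
    obtain ⟨Wz, hWz, hlez, hxz, hmz⟩ := hz
    obtain ⟨Wr, hler, r', hxr, hr'⟩ := exists_lift_section' i WU (show Γ(U, WU) from r) x' hx'
    have hle : i ⁻¹ᵁ (Wz ⊓ Wr) ≤ WU := fun y hy => hlez hy.1
    refine ⟨Wz ⊓ Wr, inf_le_left.trans hWz, hle, ⟨hxz, hxr⟩, ?_⟩
    have h1 := rs_mem_span' ((Scheme.Modules.pushforward i).obj N)
      (inf_le_left : Wz ⊓ Wr ≤ Wz) _ _ hmz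
    simp only [rs_rs'] at h1
    have e1 : rs N hle (r • z) =
        (show U.ringCatSheaf.obj.obj (op (i ⁻¹ᵁ (Wz ⊓ Wr))) from
          U.presheaf.map (homOfLE hle).op (show Γ(U, WU) from r)) •
        rs N (show i ⁻¹ᵁ (Wz ⊓ Wr) ≤ i ⁻¹ᵁ Wz from fun _ h => h.1) (rs N hlez z) := by
      rw [rs_rs', rs_smul']
    have e2 : (show U.ringCatSheaf.obj.obj (op (i ⁻¹ᵁ (Wz ⊓ Wr))) from
          U.presheaf.map (homOfLE hle).op (show Γ(U, WU) from r)) =
        (show U.ringCatSheaf.obj.obj (op (i ⁻¹ᵁ (Wz ⊓ Wr))) from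
          (i.app (Wz ⊓ Wr)).hom (P.presheaf.map (homOfLE (inf_le_right : Wz ⊓ Wr ≤ Wr)).op r')) :=
      (hr' (Wz ⊓ Wr) inf_le_right).symm
    have e : toM i N (rs N hle (r • z)) =
        (show P.ringCatSheaf.obj.obj (op (Wz ⊓ Wr)) from
          P.presheaf.map (homOfLE (inf_le_right : Wz ⊓ Wr ≤ Wr)).op r') •
        rs ((Scheme.Modules.pushforward i).obj N) (inf_le_left : Wz ⊓ Wr ≤ Wz)
          (toM i N (rs N hlez z)) :=
      congrArg (toM i N) (e1.trans (congrArg (fun ρ => ρ •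
        rs N (show i ⁻¹ᵁ (Wz ⊓ Wr) ≤ i ⁻¹ᵁ Wz from fun _ h => h.1) (rs N hlez z)) e2))
    rw [e]
    exact Submodule.smul_mem _ _ h1

omit [IsClosedImmersion i] in
theorem eq_zero_of_preimage_eq_bot {W' : P.Opens} (hbot : i ⁻¹ᵁ W' = ⊥)
    (m : ((Scheme.Modules.pushforward i).obj N).val.obj (op W')) : m = 0 := by
  have hsub : Subsingleton (U.ringCatSheaf.obj.obj (op (i ⁻¹ᵁ W'))) := by
    have : Subsingleton Γ(U, i ⁻¹ᵁ W') := by rw [hbot]; infer_instance
    exact this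
  exact (Module.subsingleton (U.ringCatSheaf.obj.obj (op (i ⁻¹ᵁ W')))
    (N.val.obj (op (i ⁻¹ᵁ W')))).elim (toN i N m) 0

/-- T2: pushforward along a closed immersion preserves finite type (arbitrary modules). -/
theorem isFT_pushforward {U P : Scheme.{u}} (i : U ⟶ P) [IsClosedImmersion i] (N : U.Modules)
    (h : CohB1.IsFT N) : CohB1.IsFT ((Scheme.Modules.pushforward i).obj N) := by
  apply isFiniteType_of_locSpan
  intro y
  let C : P.Opens := ⟨(Set.range i)ᶜ, i.isClosedEmbedding.isClosed_range.isOpen_compl⟩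
  have hC : ∀ W' : P.Opens, W' ≤ C → i ⁻¹ᵁ W' = ⊥ := by
    intro W' hW'
    ext z
    simp only [Opens.coe_bot, Set.mem_empty_iff_false, iff_false]
    intro hz
    exact hW' hz ⟨z, rfl⟩
  have hzero : ∀ (W' : P.Opens), W' ≤ C →
      ∀ m : ((Scheme.Modules.pushforward i).obj N).val.obj (op W'), m = 0 :=
    fun W' hW' m => eq_zero_of_preimage_eq_bot i N (hC W' hW') m
  by_cases hy : y ∈ Set.range i
  · obtain ⟨x, rfl⟩ := hy
    obtain ⟨VU, hxV, n, s, hs⟩ := exists_locSpan_of_isFiniteType N h x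
    obtain ⟨V, rfl⟩ := exists_opens_preimage_eq i VU
    refine ⟨V, hxV, n, fun k => toM i N (s k), ?_⟩
    intro W hW m y' hy'
    by_cases hy'r : y' ∈ Set.range i
    · obtain ⟨x', rfl⟩ := hy'r
      obtain ⟨WU', hWU', hx'W, hmem⟩ :=
        hs (i ⁻¹ᵁ W) (fun _ hz => hW hz) (toN i N m) x' hy'
      obtain ⟨W', hW', hle, hxW', hspan⟩ := span_lift i N
        (fun k : ULift.{u} (Fin n) => toM i N (s k.down)) W hW WU' hWU' x' hx'W _ hmem
      refine ⟨W', hW', hxW', ?_⟩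
      have e : rs ((Scheme.Modules.pushforward i).obj N) hW' m =
          toM i N (rs N hle (rs N hWU' (toN i N m))) :=
        congrArg (toM i N) (rs_rs' N hWU' hle (toN i N m)).symm
      rw [e]
      exact hspan
    · refine ⟨W ⊓ C, inf_le_left, ⟨hy', hy'r⟩, ?_⟩
      rw [hzero _ inf_le_right (rs ((Scheme.Modules.pushforward i).obj N) _ m)]
      exact Submodule.zero_mem _
  · refine ⟨C, hy, 0, Fin.elim0, ?_⟩
    intro W hW m y' hy'
    refine ⟨W, le_rfl, hy', ?_⟩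
    rw [hzero W hW (rs ((Scheme.Modules.pushforward i).obj N) _ m)]
    exact Submodule.zero_mem _

end Main

end Groth.Agent.Lib.Helper7.FTPushT2
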