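import Groth.Prelude.Def_RelProj
import Mathlib.AlgebraicGeometry.ProjectiveSpectrum.Proper

set_option autoImplicit false
universe u
open CategoryTheory CategoryTheory.Limits AlgebraicGeometry

namespace Groth.Agent.Lib.Helper7.ProjSpaceProper

variable (n : ℕ) (R : Type u) [CommRing R]

theorem algebraMap_zero_bijective :
    Function.Bijective (algebraMap R (CohB1.polyGrading n R 0)) := by
  constructor
  · intro a b hab
    have := congrArg Subtype.val hab
    exact MvPolynomial.C_injective _ _ this
  · rintro ⟨p, hp⟩
    have hp' : p ∈ MvPolynomial.homogeneousSubmodule (Fin (n + 1)) R 0 := hp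
    rw [MvPolynomial.homogeneousSubmodule_zero, Submodule.mem_one] at hp'
    obtain ⟨r, hr⟩ := hp'
    exact ⟨r, Subtype.ext hr⟩

instance : IsIso (Spec.map (CommRingCat.ofHom (algebraMap R (CohB1.polyGrading n R 0)))) := by
  have : IsIso (CommRingCat.ofHom (algebraMap R (CohB1.polyGrading n R 0))) :=
    (ConcreteCategory.isIso_iff_bijective _).mpr (algebraMap_zero_bijective n R)
  infer_instance

instance : IsScalarTower R (CohB1.polyGrading n R 0) (MvPolynomial (Fin (n + 1)) R) :=
  IsScalarTower.of_algebraMap_eq (R := R) (S := ↥(CohB1.polyGrading n R 0))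
    (A := MvPolynomial (Fin (n + 1)) R) (fun _ => rfl)

instance finiteType_zero :
    Algebra.FiniteType (CohB1.polyGrading n R 0) (MvPolynomial (Fin (n + 1)) R) := by
  have : Algebra.FiniteType R (MvPolynomial (Fin (n + 1)) R) := inferInstance
  exact Algebra.FiniteType.of_restrictScalars_finiteType R _ _

instance : IsProper (CohB1.ProjSpace.toSpec n R) := by
  unfold CohB1.ProjSpace.toSpec
  have : IsProper (Proj.toSpecZero (CohB1.polyGrading n R)) := inferInstance
  exact MorphismProperty.comp_mem _ _ _ this inferInstance

instance (S : Scheme.{u}) : IsProper (CohB1.ProjSpaceOver.toBase n S) := by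
  unfold CohB1.ProjSpaceOver.toBase
  exact MorphismProperty.IsStableUnderBaseChange.of_isPullback (P := @IsProper)
    (IsPullback.of_hasPullback _ _) (inferInstance : IsProper (CohB1.ProjSpace.toSpec n (ULift.{u} ℤ)))

end Groth.Agent.Lib.Helper7.ProjSpaceProper
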