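import Groth.Prelude.Def_AlgSpInf

/-!
# Formal lifting properties of morphisms of fppf sheaves: basic formal lemmas (helper7)
-/

set_option autoImplicit false
universe u
open CategoryTheory CategoryTheory.Limits AlgebraicGeometry
open AlgSp

namespace Groth.Agent.Lib.Helper7.FormalLift

theorem uniqLift_iff {S : Scheme.{u}} {F G : AlgSp.Sp S} {f : F ⟶ G} (sq : AlgSp.InfSq f) :
    sq.HasUniqLift ↔ sq.HasLift ∧ sq.HasUniq := by
  constructor
  · rintro ⟨l, ⟨h1, h2⟩, hu⟩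
    refine ⟨⟨l, h1, h2⟩, ?_⟩
    intro m m' a1 a2 b1 b2
    rw [hu m ⟨a1, a2⟩, hu m' ⟨b1, b2⟩]
  · rintro ⟨⟨l, h1, h2⟩, hu⟩
    exact ⟨l, ⟨h1, h2⟩, fun m hm => hu m l hm.1 hm.2 h1 h2⟩

theorem etale_iff {S : Scheme.{u}} {F G : AlgSp.Sp S} (f : F ⟶ G) :
    AlgSp.IsFormallyEtaleMor f ↔ AlgSp.IsFormallySmoothMor f ∧ AlgSp.IsFormallyUnramifiedMor f := by
  constructor
  · intro h
    exact ⟨fun sq => ((uniqLift_iff sq).1 (h sq)).1, fun sq => ((uniqLift_iff sq).1 (h sq)).2⟩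
  · rintro ⟨h1, h2⟩ sq
    exact (uniqLift_iff sq).2 ⟨h1 sq, h2 sq⟩

/-- Change the morphism of an infinitesimal square, keeping the thickening. -/
noncomputable def reSq {S : Scheme.{u}} {F G F' G' : AlgSp.Sp S} {f : F ⟶ G} (sq : AlgSp.InfSq f)
    (f' : F' ⟶ G') (top : (AlgSp.yon S).obj sq.ptT ⟶ F') (bot : (AlgSp.yon S).obj sq.ptT' ⟶ G')
    (comm : top ≫ f' = (AlgSp.yon S).map sq.j ≫ bot) : AlgSp.InfSq f' where
  A := sq.A
  I := sq.I
  sq_zero := sq.sq_zero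
  str := sq.str
  top := top
  bot := bot
  comm := comm

end Groth.Agent.Lib.Helper7.FormalLift
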