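import Mathlib.RingTheory.Idempotents
import Mathlib.RingTheory.LocalRing.Basic
import Mathlib.RingTheory.LocalRing.MaximalIdeal.Basic
import Mathlib.RingTheory.Spectrum.Maximal.Localization
import Mathlib.RingTheory.Jacobson.Ideal
import Mathlib.RingTheory.Artinian.Ring
import Mathlib.RingTheory.Ideal.GoingUp
import Mathlib.RingTheory.IntegralClosure.IsIntegralClosure.Basic
import Mathlib.RingTheory.LocalRing.ResidueField.Basic

set_option autoImplicit false
universe u

namespace Groth.Agent.Lib.Helper7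

open Classical in
theorem exists_idem_of_pi_local {ι : Type*} (C : ι → Type*) [∀ j, CommRing (C j)]
    [∀ j, IsLocalRing (C j)] (b : ∀ j, C j) :
    ∃ e w : ∀ j, C j, IsIdempotentElem e ∧ e - b = (b * b - b) * w := by
  have hu : ∀ j, ¬ IsUnit (b j) → IsUnit (1 - b j) := fun j h =>
    (IsLocalRing.isUnit_or_isUnit_one_sub_self (b j)).resolve_left h
  refine ⟨fun j => if IsUnit (b j) then 1 else 0,
    fun j => if h : IsUnit (b j) then -((h.unit⁻¹ : (C j)ˣ) : C j)
      else (((hu j h).unit⁻¹ : (C j)ˣ) : C j), ?_, ?_⟩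
  · funext j
    by_cases h : IsUnit (b j) <;> simp [h]
  · funext j
    by_cases h : IsUnit (b j)
    · simp only [Pi.sub_apply, Pi.mul_apply, h, if_true, dif_pos]
      have : b j * ((h.unit⁻¹ : (C j)ˣ) : C j) = 1 := h.mul_val_inv
      linear_combination (b j - 1) * this
    · simp only [Pi.sub_apply, Pi.mul_apply, h, if_false, dif_neg, not_false_eq_true]
      have : (1 - b j) * (((hu j h).unit⁻¹ : (C j)ˣ) : C j) = 1 := (hu j h).mul_val_inv
      linear_combination (b j) * this


theorem isLocalRing_quot_of_idem {B : Type*} [CommRing B] (n : Ideal B) [hn : n.IsMaximal] (e : B)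
    (h1 : 1 - e ∈ n) (h2 : ∀ n' : Ideal B, n'.IsMaximal → n' ≠ n → e ∈ n') :
    IsLocalRing (B ⧸ Ideal.span {1 - e}) := by
  have hJ : Ideal.span {1 - e} ≤ n := (Ideal.span_singleton_le_iff_mem _).mpr h1
  have hsurj := Ideal.Quotient.mk_surjective (I := Ideal.span {1 - e})
  have hne : Ideal.span {1 - e} ≠ ⊤ := fun h => hn.ne_top (top_le_iff.mp (h ▸ hJ))
  have : Nontrivial (B ⧸ Ideal.span {1 - e}) := Ideal.Quotient.nontrivial_iff.mpr hne
  have key : ∀ M : Ideal (B ⧸ Ideal.span {1 - e}), M.IsMaximal →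
      M = n.map (Ideal.Quotient.mk _) := by
    intro M hM
    have hc : (M.comap (Ideal.Quotient.mk (Ideal.span {1 - e}))).IsMaximal :=
      Ideal.comap_isMaximal_of_surjective _ hsurj
    have : M.comap (Ideal.Quotient.mk (Ideal.span {1 - e})) = n := by
      by_contra hne'
      have he := h2 _ hc hne'
      have h1' : 1 - e ∈ M.comap (Ideal.Quotient.mk (Ideal.span {1 - e})) := by
        rw [Ideal.mem_comap]
        have : Ideal.Quotient.mk (Ideal.span {1 - e}) (1 - e) = 0 :=
          Ideal.Quotient.eq_zero_iff_mem.mpr (Ideal.mem_span_singleton_self _)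
        rw [this]; exact M.zero_mem
      have : (1 : B) ∈ M.comap (Ideal.Quotient.mk (Ideal.span {1 - e})) := by
        have := Ideal.add_mem _ h1' he
        simpa using this
      exact hc.ne_top ((Ideal.eq_top_iff_one _).mpr this)
    rw [← this, Ideal.map_comap_of_surjective _ hsurj]
  obtain ⟨M, hM⟩ := Ideal.exists_maximal (B ⧸ Ideal.span {1 - e})
  exact IsLocalRing.of_unique_max_ideal
    ⟨M, hM, fun M' hM' => (key M' hM').trans (key M hM).symm⟩

theorem exists_decomp_of_idem (B : Type u) [CommRing B] [Finite (MaximalSpectrum B)]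
    (h : ∀ n : MaximalSpectrum B, ∃ e : B, IsIdempotentElem e ∧ 1 - e ∈ n.asIdeal ∧
      ∀ n' : MaximalSpectrum B, n' ≠ n → e ∈ n'.asIdeal) :
    ∃ (ι : Type u) (_ : Fintype ι) (C : ι → Type u) (_ : ∀ j, CommRing (C j)),
        (∀ j, IsLocalRing (C j)) ∧ Nonempty (B ≃+* (∀ j, C j)) := by
  classical
  have : Fintype (MaximalSpectrum B) := Fintype.ofFinite _
  choose e he h1 h2 using h
  have hjac : ∀ x : B, IsIdempotentElem x → (∀ n : MaximalSpectrum B, x ∈ n.asIdeal) → x = 0 := by
    intro x hx hmem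
    have hxj : x ∈ Ideal.jacobson (⊥ : Ideal B) := by
      rw [Ideal.jacobson, Ideal.mem_sInf]
      rintro n ⟨_, hn⟩
      exact hmem ⟨n, hn⟩
    have hu : IsUnit (x * (-1) + 1) := Ideal.mem_jacobson_bot.mp hxj (-1)
    have h0 : x * (x * (-1) + 1) = 0 := by
      have : x * x = x := hx
      linear_combination (-1 : B) * this
    exact (hu.mul_left_eq_zero).mp h0
  have hortho : OrthogonalIdempotents e := by
    refine ⟨he, ?_⟩
    intro i j hij
    apply hjac
    · exact (he i).mul (he j)
    · intro n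
      by_cases hni : n = i
      · subst hni
        exact Ideal.mul_mem_left _ (e n) (h2 j n hij)
      · exact Ideal.mul_mem_right (e j) _ (h2 i n hni)
  have hcomplete : CompleteOrthogonalIdempotents e := by
    refine ⟨hortho, ?_⟩
    have hidem : IsIdempotentElem (1 - ∑ i, e i) :=
      (hortho.isIdempotentElem_sum (s := Finset.univ)).one_sub
    have hz : 1 - ∑ i, e i = 0 := by
      apply hjac _ hidem
      intro n
      rw [← Finset.add_sum_erase Finset.univ e (Finset.mem_univ n)]
      have : 1 - (e n + ∑ x ∈ Finset.univ.erase n, e x) =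
          (1 - e n) - ∑ x ∈ Finset.univ.erase n, e x := by ring
      rw [this]
      refine Ideal.sub_mem _ (h1 n) (Submodule.sum_mem _ fun i hi => h2 i n ?_)
      exact (Finset.ne_of_mem_erase hi).symm
    exact (sub_eq_zero.mp hz).symm
  refine ⟨MaximalSpectrum B, inferInstance, fun n => B ⧸ Ideal.span {1 - e n},
    fun _ => inferInstance, ?_, ?_⟩
  · intro n
    have := n.isMaximal
    exact isLocalRing_quot_of_idem n.asIdeal (e n) (h1 n)
      (fun n' hn' hne => h2 n ⟨n', hn'⟩ (fun h => hne (congrArg MaximalSpectrum.asIdeal h)))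
  · exact ⟨RingEquiv.ofBijective _ hcomplete.bijective_pi⟩


theorem exists_idem_artinian (R : Type*) [CommRing R] [IsArtinianRing R] (n : MaximalSpectrum R) :
    ∃ ε : R, IsIdempotentElem ε ∧ 1 - ε ∈ n.asIdeal ∧
      ∀ n' : MaximalSpectrum R, n' ≠ n → ε ∈ n'.asIdeal := by
  classical
  let f : R →+* (∀ I : MaximalSpectrum R, R ⧸ I.asIdeal) :=
    RingHom.pi (fun I => Ideal.Quotient.mk I.asIdeal)
  have hker : ∀ x ∈ RingHom.ker f, IsNilpotent x := by
    intro x hx
    rw [← mem_nilradical, IsArtinianRing.nilradical_eq_iInf, Submodule.mem_iInf]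
    intro I
    have := congrFun hx I
    exact Ideal.Quotient.eq_zero_iff_mem.mp this
  have hsurj : Function.Surjective f := by
    intro y
    obtain ⟨x', hx'⟩ := (IsArtinianRing.quotNilradicalEquivPi R).surjective y
    obtain ⟨x, rfl⟩ := Ideal.Quotient.mk_surjective x'
    exact ⟨x, hx'⟩
  have hid : IsIdempotentElem (Pi.single n 1 : ∀ I : MaximalSpectrum R, R ⧸ I.asIdeal) := by
    rw [IsIdempotentElem, ← Pi.single_mul, one_mul]
  obtain ⟨ε, hε, hfε⟩ := exists_isIdempotentElem_eq_of_ker_isNilpotent f hker _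
    (RingHom.mem_range.mpr (hsurj _)) hid
  refine ⟨ε, hε, ?_, ?_⟩
  · rw [← Ideal.Quotient.eq_zero_iff_mem, map_sub, map_one]
    have := congrFun hfε n
    simp only [f, RingHom.pi_apply, Pi.single_eq_same] at this
    rw [this, sub_self]
  · intro n' hn'
    rw [← Ideal.Quotient.eq_zero_iff_mem]
    have := congrFun hfε n'
    simp only [f, RingHom.pi_apply, Pi.single_eq_of_ne hn'] at this
    exact this

theorem map_le_of_isMaximal (A : Type*) [CommRing A] (I : Ideal A)
    (hI : I ≤ Ideal.jacobson ⊥) (B : Type*) [CommRing B] [Algebra A B] [Module.Finite A B]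
    (n : Ideal B) [hn : n.IsMaximal] :
    Ideal.map (algebraMap A B) I ≤ n := by
  rw [Ideal.map_le_iff_le_comap]
  intro a ha
  have hmax : (n.comap (algebraMap A B)).IsMaximal :=
    Ideal.isMaximal_comap_of_isIntegral_of_isMaximal n
  have h1 := hI ha
  rw [Ideal.jacobson, Ideal.mem_sInf] at h1
  exact h1 ⟨bot_le, hmax⟩

set_option backward.inferInstanceAs.wrap.data false in
theorem isArtinianRing_quot (A : Type*) [CommRing A] [IsLocalRing A] (B : Type*) [CommRing B]
    [Algebra A B] [Module.Finite A B] :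
    IsArtinianRing (B ⧸ Ideal.map (algebraMap A B) (IsLocalRing.maximalIdeal A)) := by
  let mB := Ideal.map (algebraMap A B) (IsLocalRing.maximalIdeal A)
  let : Algebra (IsLocalRing.ResidueField A) (B ⧸ mB) := (inferInstanceAs <| Algebra (A ⧸ _) _)
  have : IsScalarTower A (IsLocalRing.ResidueField A) (B ⧸ mB) :=
    (inferInstanceAs <| IsScalarTower A (A ⧸ _) _)
  have : Module.Finite (IsLocalRing.ResidueField A) (B ⧸ mB) :=
    Module.Finite.of_restrictScalars_finite A _ _
  exact isArtinian_of_tower (IsLocalRing.ResidueField A) inferInstance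

theorem exists_decomp_of_lift (A : Type u) [CommRing A] [IsLocalRing A] (B : Type u) [CommRing B]
    [Algebra A B] [Module.Finite A B]
    (hlift : Set.SurjOn
      (Ideal.Quotient.mk (Ideal.map (algebraMap A B) (IsLocalRing.maximalIdeal A)))
      {e : B | IsIdempotentElem e} {e | IsIdempotentElem e}) :
    ∃ (ι : Type u) (_ : Fintype ι) (C : ι → Type u) (_ : ∀ j, CommRing (C j)),
        (∀ j, IsLocalRing (C j)) ∧ Nonempty (B ≃+* (∀ j, C j)) := by
  set mB := Ideal.map (algebraMap A B) (IsLocalRing.maximalIdeal A) with hmBdef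
  have hmB : ∀ n : Ideal B, n.IsMaximal → mB ≤ n := fun n hn =>
    map_le_of_isMaximal A _ (IsLocalRing.maximalIdeal_le_jacobson ⊥) B n
  have hart : IsArtinianRing (B ⧸ mB) := isArtinianRing_quot A B
  have hsurj := Ideal.Quotient.mk_surjective (I := mB)
  let φ : MaximalSpectrum (B ⧸ mB) → MaximalSpectrum B := fun n =>
    ⟨n.asIdeal.comap (Ideal.Quotient.mk mB),
      Ideal.comap_isMaximal_of_surjective _ hsurj (H := n.isMaximal)⟩
  have hφ : Function.Surjective φ := by
    intro n
    have hcm : (n.asIdeal.map (Ideal.Quotient.mk mB)).comap (Ideal.Quotient.mk mB) = n.asIdeal := by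
      rw [Ideal.comap_map_of_surjective _ hsurj, sup_eq_left, ← RingHom.ker_eq_comap_bot,
        Ideal.mk_ker]
      exact hmB _ n.isMaximal
    rcases Ideal.map_eq_top_or_isMaximal_of_surjective _ hsurj n.isMaximal with h | h
    · exfalso
      rw [h, Ideal.comap_top] at hcm
      exact n.isMaximal.ne_top hcm.symm
    · exact ⟨⟨_, h⟩, MaximalSpectrum.ext hcm⟩
  have hfin : Finite (MaximalSpectrum B) := Finite.of_surjective φ hφ
  apply exists_decomp_of_idem
  intro n
  obtain ⟨nb, rfl⟩ := hφ n
  obtain ⟨ε, hε, h1, h2⟩ := exists_idem_artinian (B ⧸ mB) nb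
  obtain ⟨e, he, rfl⟩ := hlift hε
  refine ⟨e, he, ?_, ?_⟩
  · change Ideal.Quotient.mk mB (1 - e) ∈ nb.asIdeal
    rw [map_sub, map_one]
    exact h1
  · intro n' hn'
    obtain ⟨nb', rfl⟩ := hφ n'
    have : nb' ≠ nb := fun h => hn' (h ▸ rfl)
    exact h2 nb' this


theorem toPiLocalization_pi_surjective {ι : Type*} [Finite ι] (C : ι → Type*)
    [∀ j, CommRing (C j)] [∀ j, IsLocalRing (C j)] :
    Function.Surjective (MaximalSpectrum.toPiLocalization (∀ j, C j)) := by
  classical
  intro y
  have hmax : ∀ j, (Ideal.comap (Pi.evalRingHom C j)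
      (IsLocalRing.maximalIdeal (C j))).IsMaximal := fun j =>
    Ideal.comap_isMaximal_of_surjective _ (Function.surjective_eval j)
  have hall : ∀ I : MaximalSpectrum (∀ j, C j), ∃ j, I = ⟨_, hmax j⟩ := by
    intro I
    obtain ⟨j, q, hq⟩ := PrimeSpectrum.exists_comap_evalRingHom_eq (I.toPrimeSpectrum)
    refine ⟨j, MaximalSpectrum.ext ?_⟩
    have h1 : I.asIdeal = Ideal.comap (Pi.evalRingHom C j) q.asIdeal :=
      congrArg PrimeSpectrum.asIdeal hq.symm
    have h2 : I.asIdeal ≤ Ideal.comap (Pi.evalRingHom C j) (IsLocalRing.maximalIdeal (C j)) := by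
      rw [h1]; exact Ideal.comap_mono (IsLocalRing.le_maximalIdeal q.isPrime.ne_top)
    exact I.isMaximal.eq_of_le (hmax j).ne_top h2
  have hbij1 : ∀ j, Function.Bijective
      (Localization.AtPrime.mapPiEvalRingHom (IsLocalRing.maximalIdeal (C j))) := fun j =>
    Localization.AtPrime.mapPiEvalRingHom_bijective _
  have hbij2 : ∀ j, Function.Bijective
      (algebraMap (C j) (Localization.AtPrime (IsLocalRing.maximalIdeal (C j)))) := fun j =>
    (IsLocalization.atUnits (C j) (IsLocalRing.maximalIdeal (C j)).primeCompl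
      (fun x hx => by
        rw [IsUnit.mem_submonoid_iff]
        exact IsLocalRing.notMem_maximalIdeal.mp hx)).bijective
  choose c hc using fun j => (hbij2 j).surjective
    (Localization.AtPrime.mapPiEvalRingHom (IsLocalRing.maximalIdeal (C j)) (y ⟨_, hmax j⟩))
  refine ⟨c, funext fun I => ?_⟩
  obtain ⟨j, rfl⟩ := hall I
  apply (hbij1 j).injective
  rw [MaximalSpectrum.toPiLocalization_apply_apply]
  erw [Localization.AtPrime.mapPiEvalRingHom_algebraMap_apply]
  exact hc j

end Groth.Agent.Lib.Helper7
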