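import Mathlib
import Groth.Agent.Lib.Helper6.ThickIsAffine

set_option autoImplicit false
set_option linter.style.haveILetI false
universe u v
open CategoryTheory AlgebraicGeometry TopologicalSpace Opposite

namespace Groth.Agent.Lib.Helper7.ClosedCover

theorem app_res {Z X : Scheme.{u}} (f : Z ⟶ X) {U V : X.Opens} (h : V ≤ U) (a : Γ(X, U)) :
    f.app V (X.presheaf.map (homOfLE h).op a) =
      Z.presheaf.map (homOfLE (f.preimage_mono h)).op (f.app U a) := by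
  have := ConcreteCategory.congr_hom (f.naturality (homOfLE h).op) a
  exact this

theorem app_eq_zero_of_eq {P X : Scheme.{u}} {f f' : P ⟶ X} (h : f = f') (U : X.Opens)
    (a : Γ(X, U)) (ha : f.app U a = 0) : f'.app U a = 0 := by
  subst h; exact ha

/-- if `a` restricts to the restriction of the global section `s` along `ι`, then along `q = r ≫ ι`
it restricts to the restriction of `r.appTop s`. -/
theorem app_comp_res {P Z X : Scheme.{u}} (r : P ⟶ Z) (ι : Z ⟶ X) (q : P ⟶ X) (h : r ≫ ι = q)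
    (U : X.Opens) (a : Γ(X, U)) (s : Γ(Z, ⊤))
    (ha : ι.app U a = Z.presheaf.map (homOfLE (le_top : ι ⁻¹ᵁ U ≤ ⊤)).op s) :
    q.app U a = P.presheaf.map (homOfLE (le_top : q ⁻¹ᵁ U ≤ ⊤)).op (r.appTop s) := by
  subst h
  change r.app (ι ⁻¹ᵁ U) (ι.app U a) = _
  rw [ha]
  exact app_res r le_top s

section TwoPiece
open Scheme IdealSheafData
variable {X : Scheme.{u}} (I₁ I₂ : X.IdealSheafData)

/-- local uniqueness on affine opens -/
theorem eq_zero_of_affine (hI : I₁ ⊓ I₂ = ⊥) (U : X.affineOpens) (s : Γ(X, U.1))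
    (h₁ : I₁.subschemeι.app U.1 s = 0) (h₂ : I₂.subschemeι.app U.1 s = 0) : s = 0 := by
  have m₁ : s ∈ I₁.ideal U := by rw [← I₁.ker_subschemeι_app U]; exact h₁
  have m₂ : s ∈ I₂.ideal U := by rw [← I₂.ker_subschemeι_app U]; exact h₂
  have : s ∈ (I₁ ⊓ I₂).ideal U := ⟨m₁, m₂⟩
  rw [hI] at this
  simpa using this

theorem eq_zero_of_app_eq_zero (hI : I₁ ⊓ I₂ = ⊥) (U : X.Opens) (s : Γ(X, U))
    (h₁ : I₁.subschemeι.app U s = 0) (h₂ : I₂.subschemeι.app U s = 0) : s = 0 := by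
  refine X.sheaf.eq_of_locally_eq' (fun V : {V : X.affineOpens // V.1 ≤ U} => V.1.1) U
    (fun V => homOfLE V.2) ?_ s 0 ?_
  · intro x hx
    obtain ⟨V, hV, hxV, hVU⟩ := Opens.isBasis_iff_nbhd.mp X.isBasis_affineOpens hx
    exact Opens.mem_iSup.mpr ⟨⟨⟨V, hV⟩, hVU⟩, hxV⟩
  · intro V
    rw [map_zero]
    apply eq_zero_of_affine I₁ I₂ hI V.1
    · erw [app_res, h₁, map_zero]
    · erw [app_res, h₂, map_zero]

theorem exists_local_glue (U : X.affineOpens) (f₁ : Γ(I₁.subscheme, ⊤)) (f₂ : Γ(I₂.subscheme, ⊤))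
    (h : (inclusion (le_sup_left : I₁ ≤ I₁ ⊔ I₂)).appTop f₁ =
      (inclusion (le_sup_right : I₂ ≤ I₁ ⊔ I₂)).appTop f₂) :
    ∃ c : Γ(X, U.1),
      I₁.subschemeι.app U.1 c = I₁.subscheme.presheaf.map (homOfLE le_top).op f₁ ∧
      I₂.subschemeι.app U.1 c = I₂.subscheme.presheaf.map (homOfLE le_top).op f₂ := by
  obtain ⟨a₁, ha₁⟩ := I₁.subschemeι_app_surjective U
    (I₁.subscheme.presheaf.map (homOfLE le_top).op f₁)
  obtain ⟨a₂, ha₂⟩ := I₂.subschemeι_app_surjective U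
    (I₂.subscheme.presheaf.map (homOfLE le_top).op f₂)
  have e₁ := app_comp_res (inclusion (le_sup_left : I₁ ≤ I₁ ⊔ I₂)) I₁.subschemeι
    (I₁ ⊔ I₂).subschemeι (inclusion_subschemeι _) U.1 a₁ f₁ ha₁
  have e₂ := app_comp_res (inclusion (le_sup_right : I₂ ≤ I₁ ⊔ I₂)) I₂.subschemeι
    (I₁ ⊔ I₂).subschemeι (inclusion_subschemeι _) U.1 a₂ f₂ ha₂
  have hmem : a₁ - a₂ ∈ (I₁ ⊔ I₂).ideal U := by
    rw [← ker_subschemeι_app]
    change ((I₁ ⊔ I₂).subschemeι.app U.1).hom (a₁ - a₂) = 0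
    rw [map_sub]
    erw [e₁, e₂, h]
    rw [sub_self]
  rw [ideal_sup] at hmem
  obtain ⟨i₁, hi₁, i₂, hi₂, e⟩ := Submodule.mem_sup.mp hmem
  have k₁ : (I₁.subschemeι.app U.1).hom i₁ = 0 := by
    rw [← I₁.ker_subschemeι_app U] at hi₁; exact hi₁
  have k₂ : (I₂.subschemeι.app U.1).hom i₂ = 0 := by
    rw [← I₂.ker_subschemeι_app U] at hi₂; exact hi₂
  refine ⟨a₁ - i₁, ?_, ?_⟩
  · rw [← ha₁]
    change (I₁.subschemeι.app U.1).hom (a₁ - i₁) = (I₁.subschemeι.app U.1).hom a₁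
    rw [map_sub, k₁, sub_zero]
  · have : a₁ - i₁ = a₂ + i₂ := by linear_combination (-1 : ↑Γ(X, U.1)) * e
    rw [this, ← ha₂]
    change (I₂.subschemeι.app U.1).hom (a₂ + i₂) = (I₂.subschemeι.app U.1).hom a₂
    rw [map_add, k₂, add_zero]

theorem app_res_of_eq {Z X : Scheme.{u}} (ι : Z ⟶ X) {U V : X.Opens} (c : Γ(X, U))
    (f : Γ(Z, ⊤)) (hc : ι.app U c = Z.presheaf.map (homOfLE le_top).op f) (i : V ⟶ U) :
    ι.app V (X.presheaf.map i.op c) = Z.presheaf.map (homOfLE le_top).op f := by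
  have hi : i = homOfLE i.le := Subsingleton.elim _ _
  rw [hi, app_res, hc, ← CommRingCat.comp_apply, ← Functor.map_comp]
  rfl

theorem exists_glue (hI : I₁ ⊓ I₂ = ⊥) (f₁ : Γ(I₁.subscheme, ⊤)) (f₂ : Γ(I₂.subscheme, ⊤))
    (h : (inclusion (le_sup_left : I₁ ≤ I₁ ⊔ I₂)).appTop f₁ =
      (inclusion (le_sup_right : I₂ ≤ I₁ ⊔ I₂)).appTop f₂) :
    ∃ f : Γ(X, ⊤), I₁.subschemeι.appTop f = f₁ ∧ I₂.subschemeι.appTop f = f₂ := by
  choose c hc₁ hc₂ using fun U : X.affineOpens => exists_local_glue I₁ I₂ U f₁ f₂ h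
  have hcompat : TopCat.Presheaf.IsCompatible X.presheaf (fun U : X.affineOpens => U.1) c := by
    intro U V
    rw [← sub_eq_zero]
    apply eq_zero_of_app_eq_zero I₁ I₂ hI
    · change (I₁.subschemeι.app (U.1 ⊓ V.1)).hom _ = 0
      rw [map_sub]
      erw [app_res_of_eq I₁.subschemeι (c U) f₁ (hc₁ U), app_res_of_eq I₁.subschemeι (c V) f₁ (hc₁ V)]
      rw [sub_self]
    · change (I₂.subschemeι.app (U.1 ⊓ V.1)).hom _ = 0
      rw [map_sub]
      erw [app_res_of_eq I₂.subschemeι (c U) f₂ (hc₂ U), app_res_of_eq I₂.subschemeι (c V) f₂ (hc₂ V)]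
      rw [sub_self]
  obtain ⟨f, hf, -⟩ := X.sheaf.existsUnique_gluing' (fun U : X.affineOpens => U.1) ⊤
    (fun U => homOfLE le_top) (by rw [iSup_affineOpens_eq_top X]) c hcompat
  have key : ∀ (I : X.IdealSheafData) (g : Γ(I.subscheme, ⊤)),
      (∀ U : X.affineOpens, I.subschemeι.app U.1 (c U) =
        I.subscheme.presheaf.map (homOfLE le_top).op g) → I.subschemeι.appTop f = g := by
    intro I g hg
    refine I.subscheme.sheaf.eq_of_locally_eq' (fun U : X.affineOpens => I.subschemeι ⁻¹ᵁ U.1) ⊤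
      (fun U => homOfLE le_top) ?_ _ _ ?_
    · intro x _
      have : I.subschemeι x ∈ (⨆ U : X.affineOpens, U.1) := by
        rw [iSup_affineOpens_eq_top X]; trivial
      obtain ⟨U, hU⟩ := Opens.mem_iSup.mp this
      exact Opens.mem_iSup.mpr ⟨U, hU⟩
    · intro U
      have := app_res I.subschemeι (le_top : U.1 ≤ ⊤) f
      erw [← this, hf U]
      exact hg U
  exact ⟨f, key I₁ f₁ hc₁, key I₂ f₂ hc₂⟩

theorem mem_basicOpen_appTop {Z X : Scheme.{u}} (ι : Z ⟶ X) (f : Γ(X, ⊤)) (z : Z) :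
    z ∈ Z.basicOpen (ι.appTop f) ↔ ι z ∈ X.basicOpen f := by
  have := Scheme.preimage_basicOpen ι f
  change z ∈ Z.basicOpen (ι.app ⊤ f) ↔ _
  rw [← this]
  rfl

theorem cover_of_inf_eq_bot (hI : I₁ ⊓ I₂ = ⊥) (x : X) : x ∈ I₁.support ∨ x ∈ I₂.support := by
  have h1 : I₁ * I₂ ≤ I₁ ⊓ I₂ := by
    intro U
    simp only [ideal_mul, ideal_inf]
    exact Ideal.mul_le_inf
  have h2 := support_antitone h1
  rw [hI, support_bot, support_mul] at h2
  have : x ∈ (I₁.support ⊔ I₂.support : Closeds X) := h2 trivial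
  exact this

theorem exists_preimage_of_mem_support (I : X.IdealSheafData) (x : X) (hx : x ∈ I.support) :
    ∃ z : I.subscheme, I.subschemeι z = x := by
  have : x ∈ Set.range I.subschemeι := by rw [range_subschemeι]; exact hx
  exact this

theorem isAffineOpen_basicOpen_of_le (hI : I₁ ⊓ I₂ = ⊥) (U : X.Opens) (hU : IsAffineOpen U)
    (f : Γ(X, ⊤))
    (h1 : I₁.subscheme.basicOpen (I₁.subschemeι.appTop f) ≤ I₁.subschemeι ⁻¹ᵁ U)
    (h2 : I₂.subscheme.basicOpen (I₂.subschemeι.appTop f) ≤ I₂.subschemeι ⁻¹ᵁ U) :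
    IsAffineOpen (X.basicOpen f) := by
  have hle : X.basicOpen f ≤ U := by
    intro y hy
    rcases cover_of_inf_eq_bot I₁ I₂ hI y with hy1 | hy2
    · obtain ⟨z, rfl⟩ := exists_preimage_of_mem_support I₁ y hy1
      exact h1 ((mem_basicOpen_appTop _ f z).mpr hy)
    · obtain ⟨z, rfl⟩ := exists_preimage_of_mem_support I₂ y hy2
      exact h2 ((mem_basicOpen_appTop _ f z).mpr hy)
  have : X.basicOpen f = X.basicOpen (X.presheaf.map (homOfLE (le_top : U ≤ ⊤)).op f) := by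
    rw [Scheme.basicOpen_res]
    exact (inf_eq_right.mpr hle).symm
  rw [this]
  exact hU.basicOpen _

theorem surj_incl_left [IsAffine I₁.subscheme] :
    Function.Surjective (inclusion (le_sup_left : I₁ ≤ I₁ ⊔ I₂)).appTop :=
  (IsClosedImmersion.isAffine_surjective_of_isAffine _).2

theorem surj_incl_right [IsAffine I₂.subscheme] :
    Function.Surjective (inclusion (le_sup_right : I₂ ≤ I₁ ⊔ I₂)).appTop :=
  (IsClosedImmersion.isAffine_surjective_of_isAffine _).2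

variable [IsAffine I₁.subscheme] [IsAffine I₂.subscheme]

theorem exists_affine_basicOpen_of_mem_support (hI : I₁ ⊓ I₂ = ⊥) (x : X)
    (hx : x ∈ I₁.support) :
    ∃ f : Γ(X, ⊤), IsAffineOpen (X.basicOpen f) ∧ x ∈ X.basicOpen f := by
  have hr₁ : inclusion (le_sup_left : I₁ ≤ I₁ ⊔ I₂) ≫ I₁.subschemeι = (I₁ ⊔ I₂).subschemeι :=
    inclusion_subschemeι _
  have hr₂ : inclusion (le_sup_right : I₂ ≤ I₁ ⊔ I₂) ≫ I₂.subschemeι = (I₁ ⊔ I₂).subschemeι :=
    inclusion_subschemeι _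
  by_cases hx2 : x ∈ I₂.support
  · obtain ⟨w, hw⟩ := exists_preimage_of_mem_support (I₁ ⊔ I₂) x
      (by rw [support_sup]; exact ⟨hx, hx2⟩)
    have hz₁ : I₁.subschemeι (inclusion (le_sup_left : I₁ ≤ I₁ ⊔ I₂) w) = x := by
      rw [← hw, ← hr₁]; rfl
    have hz₂ : I₂.subschemeι (inclusion (le_sup_right : I₂ ≤ I₁ ⊔ I₂) w) = x := by
      rw [← hw, ← hr₂]; rfl
    obtain ⟨U, hU, hxU, -⟩ := Opens.isBasis_iff_nbhd.mp X.isBasis_affineOpens (Opens.mem_top x)
    obtain ⟨g₁, hg₁le, hg₁x⟩ := (isAffineOpen_top I₁.subscheme).exists_basicOpen_le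
      (V := I₁.subschemeι ⁻¹ᵁ U) ⟨inclusion (le_sup_left : I₁ ≤ I₁ ⊔ I₂) w, by
        change I₁.subschemeι _ ∈ U; rw [hz₁]; exact hxU⟩ (Opens.mem_top _)
    obtain ⟨g₂, hg₂le, hg₂x⟩ := (isAffineOpen_top I₂.subscheme).exists_basicOpen_le
      (V := I₂.subschemeι ⁻¹ᵁ U) ⟨inclusion (le_sup_right : I₂ ≤ I₁ ⊔ I₂) w, by
        change I₂.subschemeι _ ∈ U; rw [hz₂]; exact hxU⟩ (Opens.mem_top _)
    obtain ⟨l₁, hl₁⟩ := surj_incl_left I₁ I₂
      ((inclusion (le_sup_right : I₂ ≤ I₁ ⊔ I₂)).appTop g₂)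
    obtain ⟨l₂, hl₂⟩ := surj_incl_right I₁ I₂
      ((inclusion (le_sup_left : I₁ ≤ I₁ ⊔ I₂)).appTop g₁)
    obtain ⟨f, hf₁, hf₂⟩ := exists_glue I₁ I₂ hI (g₁ * l₁) (l₂ * g₂) (by
      rw [map_mul, map_mul, hl₁, hl₂])
    refine ⟨f, isAffineOpen_basicOpen_of_le I₁ I₂ hI U hU f ?_ ?_, ?_⟩
    · rw [hf₁, Scheme.basicOpen_mul]; exact inf_le_left.trans hg₁le
    · rw [hf₂, Scheme.basicOpen_mul]; exact inf_le_right.trans hg₂le
    · rw [← hz₁, ← mem_basicOpen_appTop, hf₁, Scheme.basicOpen_mul]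
      refine ⟨hg₁x, ?_⟩
      apply (mem_basicOpen_appTop _ l₁ w).mp
      rw [hl₁]
      exact (mem_basicOpen_appTop _ g₂ w).mpr hg₂x
  · obtain ⟨z₁, hz₁⟩ := exists_preimage_of_mem_support I₁ x hx
    obtain ⟨U, hU, hxU, hUle⟩ := Opens.isBasis_iff_nbhd.mp X.isBasis_affineOpens
      (U := I₂.support.compl) (show x ∈ I₂.support.compl from hx2)
    obtain ⟨g₁, hg₁le, hg₁x⟩ := (isAffineOpen_top I₁.subscheme).exists_basicOpen_le
      (V := I₁.subschemeι ⁻¹ᵁ U) ⟨z₁, by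
        change I₁.subschemeι _ ∈ U; rw [hz₁]; exact hxU⟩ (Opens.mem_top _)
    have hP : IsAffine (I₁ ⊔ I₂).subscheme :=
      (IsClosedImmersion.isAffine_surjective_of_isAffine
        (inclusion (le_sup_left : I₁ ≤ I₁ ⊔ I₂))).1
    have hbot : (I₁ ⊔ I₂).subscheme.basicOpen
        ((inclusion (le_sup_left : I₁ ≤ I₁ ⊔ I₂)).appTop g₁) = ⊥ := by
      rw [eq_bot_iff]
      intro w hw
      exfalso
      have h1 := hg₁le ((mem_basicOpen_appTop _ g₁ w).mp hw)
      have h2 : I₁.subschemeι (inclusion (le_sup_left : I₁ ≤ I₁ ⊔ I₂) w) =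
          I₂.subschemeι (inclusion (le_sup_right : I₂ ≤ I₁ ⊔ I₂) w) := by
        change (inclusion (le_sup_left : I₁ ≤ I₁ ⊔ I₂) ≫ I₁.subschemeι) w =
          (inclusion (le_sup_right : I₂ ≤ I₁ ⊔ I₂) ≫ I₂.subschemeι) w
        rw [hr₁, hr₂]
      have h3 : I₁.subschemeι (inclusion (le_sup_left : I₁ ≤ I₁ ⊔ I₂) w) ∈ U := h1
      rw [h2] at h3
      have h4 := hUle h3
      apply h4
      change _ ∈ (I₂.support : Set X)
      rw [← range_subschemeι]
      exact ⟨_, rfl⟩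
    obtain ⟨n, hn⟩ := (Scheme.isNilpotent_iff_basicOpen_eq_bot _).mpr hbot
    obtain ⟨f, hf₁, hf₂⟩ := exists_glue I₁ I₂ hI (g₁ ^ (n + 1)) 0 (by
      rw [map_pow, map_zero, pow_succ, hn, zero_mul])
    refine ⟨f, isAffineOpen_basicOpen_of_le I₁ I₂ hI U hU f ?_ ?_, ?_⟩
    · rw [hf₁, Scheme.basicOpen_pow _ _ (Nat.succ_pos n)]; exact hg₁le
    · rw [hf₂, Scheme.basicOpen_zero]; exact bot_le
    · rw [← hz₁, ← mem_basicOpen_appTop, hf₁, Scheme.basicOpen_pow _ _ (Nat.succ_pos n)]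
      exact hg₁x

/-- **Two-piece lemma**: a scheme with two affine closed subschemes whose ideal sheaves meet
in zero is affine. -/
theorem isAffine_of_inf_eq_bot (hI : I₁ ⊓ I₂ = ⊥) : IsAffine X := by
  let S : Set Γ(X, ⊤) := {f | IsAffineOpen (X.basicOpen f)}
  have hI' : I₂ ⊓ I₁ = ⊥ := by rw [inf_comm]; exact hI
  have hA : ∀ x : X, ∃ f ∈ S, x ∈ X.basicOpen f := by
    intro x
    rcases cover_of_inf_eq_bot I₁ I₂ hI x with h | h
    · obtain ⟨f, hf, hxf⟩ := exists_affine_basicOpen_of_mem_support I₁ I₂ hI x h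
      exact ⟨f, hf, hxf⟩
    · obtain ⟨f, hf, hxf⟩ := exists_affine_basicOpen_of_mem_support I₂ I₁ hI' x h
      exact ⟨f, hf, hxf⟩
  have hρ₁ : Function.Surjective I₁.subschemeι.appTop := by
    intro f₁
    obtain ⟨f₂, hf₂⟩ := surj_incl_right I₁ I₂
      ((inclusion (le_sup_left : I₁ ≤ I₁ ⊔ I₂)).appTop f₁)
    obtain ⟨f, h1, -⟩ := exists_glue I₁ I₂ hI f₁ f₂ hf₂.symm
    exact ⟨f, h1⟩
  have hρ₂ : Function.Surjective I₂.subschemeι.appTop := by
    intro f₂
    obtain ⟨f₁, hf₁⟩ := surj_incl_left I₁ I₂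
      ((inclusion (le_sup_right : I₂ ≤ I₁ ⊔ I₂)).appTop f₂)
    obtain ⟨f, -, h2⟩ := exists_glue I₁ I₂ hI f₁ f₂ hf₁
    exact ⟨f, h2⟩
  have key : ∀ (I : X.IdealSheafData) [IsAffine I.subscheme],
      Function.Surjective I.subschemeι.appTop →
      ∃ a ∈ Ideal.span S, I.subschemeι.appTop a = 1 := by
    intro I _ hρ
    have hs : Ideal.span (I.subschemeι.appTop '' S) = ⊤ := by
      rw [← (isAffineOpen_top I.subscheme).self_le_iSup_basicOpen_iff]
      intro z _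
      obtain ⟨f, hfS, hzf⟩ := hA (I.subschemeι z)
      exact Opens.mem_iSup.mpr ⟨⟨_, f, hfS, rfl⟩, (mem_basicOpen_appTop _ f z).mpr hzf⟩
    have h1 : (1 : Γ(I.subscheme, ⊤)) ∈ Ideal.map I.subschemeι.appTop.hom (Ideal.span S) := by
      rw [Ideal.map_span]
      erw [hs]
      trivial
    exact (Ideal.mem_map_iff_of_surjective _ hρ).mp h1
  obtain ⟨a, haS, ha1⟩ := key I₁ hρ₁
  obtain ⟨b, hbS, hb1⟩ := key I₂ hρ₂
  have h0 : (1 - a) * (1 - b) = 0 := by
    apply eq_zero_of_app_eq_zero I₁ I₂ hI ⊤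
    · change I₁.subschemeι.appTop.hom _ = 0
      rw [map_mul, map_sub, map_one]
      erw [ha1]
      rw [sub_self, zero_mul]
    · change I₂.subschemeι.appTop.hom _ = 0
      rw [map_mul, map_sub, map_sub, map_one]
      erw [hb1]
      rw [sub_self, mul_zero]
  have h1 : (1 : Γ(X, ⊤)) ∈ Ideal.span S := by
    have e : (1 : Γ(X, ⊤)) = a + b - a * b + (1 - a) * (1 - b) := by ring
    rw [e, h0, add_zero]
    exact sub_mem (add_mem haS hbS) (Ideal.mul_mem_left _ a hbS)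
  exact isAffine_of_isAffineOpen_basicOpen S ((Ideal.eq_top_iff_one _).mpr h1) (fun f hf => hf)

end TwoPiece

open Scheme IdealSheafData in
/-- morphism form of the two-piece lemma. -/
theorem isAffine_of_ker_inf_eq_bot {X Z₁ Z₂ : Scheme.{u}} (ι₁ : Z₁ ⟶ X) (ι₂ : Z₂ ⟶ X)
    [IsClosedImmersion ι₁] [IsClosedImmersion ι₂] [IsAffine Z₁] [IsAffine Z₂]
    (h : ι₁.ker ⊓ ι₂.ker = ⊥) : IsAffine X := by
  have : IsAffine ι₁.ker.subscheme := .of_isIso (inv ι₁.toImage)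
  have : IsAffine ι₂.ker.subscheme := .of_isIso (inv ι₂.toImage)
  exact isAffine_of_inf_eq_bot ι₁.ker ι₂.ker h

open Scheme IdealSheafData in
theorem isAffine_subscheme_inf {X : Scheme.{u}} (I J : X.IdealSheafData)
    [IsAffine I.subscheme] [IsAffine J.subscheme] : IsAffine (I ⊓ J).subscheme := by
  apply isAffine_of_ker_inf_eq_bot (inclusion (inf_le_left : I ⊓ J ≤ I))
    (inclusion (inf_le_right : I ⊓ J ≤ J))
  rw [eq_bot_iff]
  refine le_of_iSup_eq_top
    (fun U : X.affineOpens => ⟨(I ⊓ J).subschemeι ⁻¹ᵁ U.1, U.2.preimage _⟩) ?_ ?_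
  · rw [eq_top_iff]
    intro x _
    have : (I ⊓ J).subschemeι x ∈ (⨆ U : X.affineOpens, U.1) := by
      rw [iSup_affineOpens_eq_top X]; trivial
    obtain ⟨U, hU⟩ := Opens.mem_iSup.mp this
    exact Opens.mem_iSup.mpr ⟨U, hU⟩
  · intro U s hs
    obtain ⟨hs₁, hs₂⟩ := hs
    rw [Hom.ker_apply] at hs₁ hs₂
    obtain ⟨a, rfl⟩ := (I ⊓ J).subschemeι_app_surjective U s
    have ha₁ : a ∈ I.ideal U := by
      rw [← I.ker_subschemeι_app U]
      exact app_eq_zero_of_eq (inclusion_subschemeι (inf_le_left : I ⊓ J ≤ I)) U.1 a hs₁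
    have ha₂ : a ∈ J.ideal U := by
      rw [← J.ker_subschemeι_app U]
      exact app_eq_zero_of_eq (inclusion_subschemeι (inf_le_right : I ⊓ J ≤ J)) U.1 a hs₂
    have : a ∈ (I ⊓ J).ideal U := ⟨ha₁, ha₂⟩
    rw [← (I ⊓ J).ker_subschemeι_app U] at this
    have h0 : (I ⊓ J).subschemeι.app U.1 a = 0 := this
    rw [h0]
    exact Ideal.zero_mem _

open Scheme IdealSheafData in
/-- A scheme covered by finitely many affine closed subschemes is affine. -/
theorem isAffine_of_finite_closed_cover (X : Scheme.{u}) {κ : Type v} [Finite κ]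
    (Z : κ → Scheme.{u}) (ι : ∀ k, Z k ⟶ X) [∀ k, IsClosedImmersion (ι k)] [∀ k, IsAffine (Z k)]
    (hcov : ∀ x : X, ∃ k, x ∈ Set.range (ι k).base) : IsAffine X := by
  classical
  haveI := Fintype.ofFinite κ
  let I : κ → X.IdealSheafData := fun k => (ι k).ker
  have hI : ∀ k, IsAffine (I k).subscheme := fun k => .of_isIso (inv (ι k).toImage)
  have hs : ∀ s : Finset κ, IsAffine (s.inf I).subscheme := by
    intro s
    induction s using Finset.induction_on with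
    | empty => rw [Finset.inf_empty]; infer_instance
    | insert a s _ ih =>
      rw [Finset.inf_insert]
      haveI := hI a
      haveI := ih
      exact isAffine_subscheme_inf _ _
  haveI := hs Finset.univ
  refine Groth.Agent.Lib.Helper6.ThickIsAffine.isAffine_of_thickening
    (Finset.univ.inf I).subschemeι ?_
  intro x
  obtain ⟨k, hk⟩ := hcov x
  have : x ∈ (Finset.univ.inf I).support := by
    have h1 : (I k).support ≤ (Finset.univ.inf I).support :=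
      support_antitone (Finset.inf_le (Finset.mem_univ k))
    apply h1
    exact (ι k).range_subset_ker_support hk
  exact exists_preimage_of_mem_support _ x this

open Scheme IdealSheafData in
/-- two-piece version: a scheme covered by two affine closed subschemes is affine. -/
theorem isAffine_of_two_closed_cover {X Z₁ Z₂ : Scheme.{u}} (ι₁ : Z₁ ⟶ X) (ι₂ : Z₂ ⟶ X)
    [IsClosedImmersion ι₁] [IsClosedImmersion ι₂] [IsAffine Z₁] [IsAffine Z₂]
    (hcov : ∀ x : X, x ∈ Set.range ι₁ ∨ x ∈ Set.range ι₂) : IsAffine X := by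
  have : IsAffine ι₁.ker.subscheme := .of_isIso (inv ι₁.toImage)
  have : IsAffine ι₂.ker.subscheme := .of_isIso (inv ι₂.toImage)
  have := isAffine_subscheme_inf ι₁.ker ι₂.ker
  refine Groth.Agent.Lib.Helper6.ThickIsAffine.isAffine_of_thickening
    (ι₁.ker ⊓ ι₂.ker).subschemeι ?_
  intro x
  have : x ∈ (ι₁.ker ⊓ ι₂.ker).support := by
    rcases hcov x with h | h
    · exact support_antitone inf_le_left (ι₁.range_subset_ker_support h)
    · exact support_antitone inf_le_right (ι₂.range_subset_ker_support h)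
  exact exists_preimage_of_mem_support _ x this

end Groth.Agent.Lib.Helper7.ClosedCover
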