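import Mathlib

set_option autoImplicit false
set_option linter.style.haveILetI false
universe u v

namespace Groth.Agent.Lib.Helper7.CosetAvoid

/-- **Coset prime avoidance.** -/
theorem exists_add_notMem_of_primes {R : Type*} [CommRing R] (K : Ideal R) (a : R) :
    ∀ (s : Finset (Ideal R)), (∀ p ∈ s, p.IsPrime) → (∀ p ∈ s, a ∈ p → ¬ K ≤ p) →
      ∃ k ∈ K, ∀ p ∈ s, a + k ∉ p := by
  classical
  intro s
  induction s using Finset.strongInduction with
  | H s ih =>
    intro hs h
    rcases s.eq_empty_or_nonempty with rfl | hne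
    · exact ⟨0, K.zero_mem, by simp⟩
    · obtain ⟨p₀, hp₀, hmin⟩ := s.exists_minimal hne
      obtain ⟨k, hkK, hk⟩ := ih (s.erase p₀) (Finset.erase_ssubset hp₀)
        (fun p hp => hs p (Finset.mem_of_mem_erase hp))
        (fun p hp => h p (Finset.mem_of_mem_erase hp))
      by_cases hk0 : a + k ∈ p₀
      · have hp₀' := hs p₀ hp₀
        have hK : ¬ K ≤ p₀ := by
          intro hKp
          refine h p₀ hp₀ ?_ hKp
          have := p₀.sub_mem hk0 (hKp hkK)
          simpa using this
        have hprod : ¬ (K * ∏ p ∈ s.erase p₀, p) ≤ p₀ := by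
          intro hle
          rcases hp₀'.mul_le.mp hle with h1 | h2
          · exact hK h1
          · obtain ⟨p, hp, hpp₀⟩ := hp₀'.prod_le.mp h2
            have hne' : p ≠ p₀ := Finset.ne_of_mem_erase hp
            exact hne' (le_antisymm hpp₀ (hmin (Finset.mem_of_mem_erase hp) hpp₀))
        obtain ⟨m, hm, hmp₀⟩ := Set.not_subset.mp hprod
        refine ⟨k + m, K.add_mem hkK (Ideal.mul_le_left hm), ?_⟩
        intro p hp
        by_cases hpp : p = p₀
        · subst hpp
          rw [← add_assoc]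
          intro hcon
          apply hmp₀
          have := p.sub_mem hcon hk0
          simpa using this
        · have hpe : p ∈ s.erase p₀ := Finset.mem_erase.mpr ⟨hpp, hp⟩
          have hmp : m ∈ p := by
            have : K * ∏ q ∈ s.erase p₀, q ≤ p :=
              Ideal.mul_le_right.trans (Ideal.prod_le_inf.trans (Finset.inf_le hpe))
            exact this hm
          rw [← add_assoc]
          intro hcon
          apply hk p hpe
          have := p.sub_mem hcon hmp
          simpa using this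
      · refine ⟨k, hkK, fun p hp => ?_⟩
        by_cases hpp : p = p₀
        · subst hpp; exact hk0
        · exact hk p (Finset.mem_erase.mpr ⟨hpp, hp⟩)

open AlgebraicGeometry CategoryTheory TopologicalSpace

/-- the prime ideal of functions on `V` vanishing at `z`, defined without stalks. -/
def ptIdeal {Z : Scheme.{u}} (V : Z.Opens) (z : Z) : Ideal Γ(Z, V) where
  carrier := {a | z ∉ Z.basicOpen a}
  add_mem' := fun {a b} ha hb h => by
    rcases Z.basicOpen_add_le a b h with h1 | h1
    · exact ha h1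
    · exact hb h1
  zero_mem' := by
    change z ∉ Z.basicOpen (0 : Γ(Z, V))
    rw [Scheme.basicOpen_zero]
    exact fun h => h
  smul_mem' := fun c a ha h => ha (by
    rw [smul_eq_mul, Scheme.basicOpen_mul] at h
    exact h.2)

theorem mem_ptIdeal {Z : Scheme.{u}} {V : Z.Opens} {z : Z} {a : Γ(Z, V)} :
    a ∈ ptIdeal V z ↔ z ∉ Z.basicOpen a := Iff.rfl

theorem ptIdeal_isPrime {Z : Scheme.{u}} {V : Z.Opens} {z : Z} (hz : z ∈ V) :
    (ptIdeal V z).IsPrime := by
  refine ⟨?_, ?_⟩
  · rw [Ne, Ideal.eq_top_iff_one]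
    intro h
    exact h (by rw [Scheme.basicOpen_one]; exact hz)
  · intro a b hab
    by_contra hcon
    push Not at hcon
    exact hab (by
      rw [Scheme.basicOpen_mul]
      exact ⟨not_not.mp hcon.1, not_not.mp hcon.2⟩)

/-- **Prime avoidance on an affine open**: a basic open avoiding a closed set and containing
finitely many given points off that closed set. -/
theorem exists_basicOpen_avoid {Z : Scheme.{u}} {V : Z.Opens} (hV : IsAffineOpen V) (Δ : Set Z)
    (hΔ : IsClosed Δ) (F : Finset Z) (hFV : ∀ z ∈ F, z ∈ V) (hFΔ : ∀ z ∈ F, z ∉ Δ) :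
    ∃ a : Γ(Z, V), (∀ z ∈ Z.basicOpen a, z ∉ Δ) ∧ ∀ z ∈ F, z ∈ Z.basicOpen a := by
  classical
  let 𝔞 : Ideal Γ(Z, V) :=
    { carrier := {a | ∀ z ∈ Z.basicOpen a, z ∉ Δ}
      add_mem' := fun {a b} ha hb z hz => by
        rcases Z.basicOpen_add_le a b hz with h1 | h1
        · exact ha z h1
        · exact hb z h1
      zero_mem' := fun z hz => by
        rw [Scheme.basicOpen_zero] at hz
        exact hz.elim
      smul_mem' := fun c a ha z hz => ha z (by
        rw [smul_eq_mul, Scheme.basicOpen_mul] at hz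
        exact hz.2) }
  rcases F.eq_empty_or_nonempty with rfl | ⟨z₀, hz₀⟩
  · refine ⟨0, fun z hz => ?_, by simp⟩
    rw [Scheme.basicOpen_zero] at hz
    exact hz.elim
  · have key : ¬ ((𝔞 : Set Γ(Z, V)) ⊆ ⋃ z ∈ (F : Set Z), (ptIdeal V z : Set Γ(Z, V))) := by
      rw [Ideal.subset_union_prime z₀ z₀ (fun z hz _ _ => ptIdeal_isPrime (hFV z hz))]
      rintro ⟨z, hz, hle⟩
      obtain ⟨a, ha1, ha2⟩ := hV.exists_basicOpen_le (V := ⟨Δᶜ, hΔ.isOpen_compl⟩)
        ⟨z, hFΔ z hz⟩ (hFV z hz)
      have : a ∈ 𝔞 := fun w hw => ha1 hw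
      exact hle this ha2
    obtain ⟨a, ha, hna⟩ := Set.not_subset.mp key
    refine ⟨a, ha, fun z hz => ?_⟩
    by_contra hcon
    exact hna (Set.mem_biUnion hz hcon)

end Groth.Agent.Lib.Helper7.CosetAvoid
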