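import Mathlib
import Groth.Agent.Lib.Helper7.ClosedCover
import Groth.Agent.Lib.Helper7.CosetAvoid

set_option autoImplicit false
set_option linter.style.haveILetI false
universe u v
open CategoryTheory CategoryTheory.Limits AlgebraicGeometry TopologicalSpace Opposite

namespace Groth.Agent.Lib.Helper7.AffineAvoid

open Groth.Agent.Lib.Helper7.CosetAvoid Groth.Agent.Lib.Helper7.ClosedCover

/-- **Two-piece lemma with points**: -/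
theorem exists_affineOpen_of_two_pieces {X Z₁ Z₂ : Scheme.{u}} (ι₁ : Z₁ ⟶ X) (ι₂ : Z₂ ⟶ X)
    [IsClosedImmersion ι₁] [IsClosedImmersion ι₂]
    (hcov : ∀ x : X, x ∈ Set.range ι₁ ∨ x ∈ Set.range ι₂)
    (T : Set X) (hT : T.Finite)
    (V₁ : Z₁.Opens) (hV₁ : IsAffineOpen V₁) (hTV₁ : ∀ z : Z₁, ι₁ z ∈ T → z ∈ V₁)
    (V₂ : Z₂.Opens) (hV₂ : IsAffineOpen V₂) (hTV₂ : ∀ z : Z₂, ι₂ z ∈ T → z ∈ V₂) :
    ∃ U : X.Opens, IsAffineOpen U ∧ ∀ t ∈ T, t ∈ U := by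
  classical
  have hinj₁ : Function.Injective ι₁ := ι₁.isClosedEmbedding.injective
  have hinj₂ : Function.Injective ι₂ := ι₂.isClosedEmbedding.injective
  let F₁ : Finset Z₁ := (hT.preimage hinj₁.injOn).toFinset
  let F₂ : Finset Z₂ := (hT.preimage hinj₂.injOn).toFinset
  have hF₁ : ∀ z, z ∈ F₁ ↔ ι₁ z ∈ T := fun z => by simp [F₁]
  have hF₂ : ∀ z, z ∈ F₂ ↔ ι₂ z ∈ T := fun z => by simp [F₂]
  -- Step 1
  have hΔ₁ : IsClosed (ι₁ ⁻¹' (ι₂ '' (V₂ : Set Z₂)ᶜ)) :=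
    (ι₂.isClosedEmbedding.isClosedMap _ V₂.isOpen.isClosed_compl).preimage ι₁.continuous
  obtain ⟨a₁, ha₁Δ, ha₁F⟩ := exists_basicOpen_avoid hV₁ _ hΔ₁ F₁
    (fun z hz => hTV₁ z ((hF₁ z).mp hz)) (by
      rintro z hz ⟨z₂, hz₂, e⟩
      exact hz₂ (hTV₂ z₂ (by rw [e]; exact (hF₁ z).mp hz)))
  have hV₁' : IsAffineOpen (Z₁.basicOpen a₁) := hV₁.basicOpen a₁
  have h1a : ∀ z ∈ Z₁.basicOpen a₁, ∀ z₂ : Z₂, ι₂ z₂ = ι₁ z → z₂ ∈ V₂ := by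
    intro z hz z₂ e
    by_contra hcon
    exact ha₁Δ z hz ⟨z₂, hcon, e⟩
  have h1b : ∀ z, ι₁ z ∈ T → z ∈ Z₁.basicOpen a₁ := fun z hz => ha₁F z ((hF₁ z).mpr hz)
  -- Step 2
  have hΔ₂ : IsClosed (ι₂ ⁻¹' (ι₁ '' (Z₁.basicOpen a₁ : Set Z₁)ᶜ)) :=
    (ι₁.isClosedEmbedding.isClosedMap _ (Z₁.basicOpen a₁).isOpen.isClosed_compl).preimage
      ι₂.continuous
  obtain ⟨h, hhΔ, hhF⟩ := exists_basicOpen_avoid hV₂ _ hΔ₂ F₂
    (fun z hz => hTV₂ z ((hF₂ z).mp hz)) (by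
      rintro z hz ⟨z₁, hz₁, e⟩
      exact hz₁ (h1b z₁ (by rw [e]; exact (hF₂ z).mp hz)))
  have h2a : ∀ z₂ ∈ Z₂.basicOpen h, ∀ z : Z₁, ι₁ z = ι₂ z₂ → z ∈ Z₁.basicOpen a₁ := by
    intro z₂ hz₂ z e
    by_contra hcon
    exact hhΔ z₂ hz₂ ⟨z, hcon, e⟩
  have h2b : ∀ z₂, ι₂ z₂ ∈ T → z₂ ∈ Z₂.basicOpen h := fun z hz => hhF z ((hF₂ z).mpr hz)
  -- Step 3: the pullback
  let r₁ : pullback ι₁ ι₂ ⟶ Z₁ := pullback.fst ι₁ ι₂
  let r₂ : pullback ι₁ ι₂ ⟶ Z₂ := pullback.snd ι₁ ι₂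
  have hr_pt : ∀ w : ↥(pullback ι₁ ι₂), ι₁ (r₁ w) = ι₂ (r₂ w) := by
    intro w
    change (r₁ ≫ ι₁) w = (r₂ ≫ ι₂) w
    rw [pullback.condition]
  have hpt : ∀ (z₁ : Z₁) (z₂ : Z₂), ι₁ z₁ = ι₂ z₂ → ∃ w, r₁ w = z₁ ∧ r₂ w = z₂ :=
    fun z₁ z₂ e => Scheme.Pullback.exists_preimage_pullback z₁ z₂ e
  have hr₁ : IsClosedImmersion r₁ := inferInstance
  have hW : IsAffineOpen (r₁ ⁻¹ᵁ Z₁.basicOpen a₁) := hV₁'.preimage r₁
  have hWle : r₁ ⁻¹ᵁ Z₁.basicOpen a₁ ≤ r₂ ⁻¹ᵁ V₂ :=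
    fun w hw => h1a (r₁ w) hw (r₂ w) (hr_pt w).symm
  let β : Γ(pullback ι₁ ι₂, r₁ ⁻¹ᵁ Z₁.basicOpen a₁) :=
    (pullback ι₁ ι₂).presheaf.map (homOfLE hWle).op (r₂.app V₂ h)
  have hβ : (pullback ι₁ ι₂).basicOpen β = r₁ ⁻¹ᵁ Z₁.basicOpen a₁ ⊓ r₂ ⁻¹ᵁ Z₂.basicOpen h := by
    rw [Scheme.basicOpen_res, ← Scheme.preimage_basicOpen r₂ h]
  obtain ⟨g₀, hg₀⟩ := r₁.app_surjective (Z₁.basicOpen a₁) hV₁' β
  -- coset avoidance
  have hrange : IsClosed (Set.range r₁) := r₁.isClosedEmbedding.isClosed_range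
  obtain ⟨k, hkK, hk⟩ := exists_add_notMem_of_primes
    (RingHom.ker (r₁.app (Z₁.basicOpen a₁)).hom) g₀ (F₁.image (ptIdeal (Z₁.basicOpen a₁)))
    (by
      intro p hp
      obtain ⟨z, hz, rfl⟩ := Finset.mem_image.mp hp
      exact ptIdeal_isPrime (h1b z ((hF₁ z).mp hz)))
    (by
      intro p hp hg₀p hKp
      obtain ⟨z, hz, rfl⟩ := Finset.mem_image.mp hp
      have hzT : ι₁ z ∈ T := (hF₁ z).mp hz
      have hzV : z ∈ Z₁.basicOpen a₁ := h1b z hzT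
      have hprime := ptIdeal_isPrime hzV
      -- z is in the range of r₁
      have hzr : z ∈ Set.range r₁ := by
        by_contra hcon
        obtain ⟨a, ha1, ha2⟩ := hV₁'.exists_basicOpen_le
          (V := ⟨(Set.range r₁)ᶜ, hrange.isOpen_compl⟩) ⟨z, hcon⟩ hzV
        have hbot : (pullback ι₁ ι₂).basicOpen (r₁.app (Z₁.basicOpen a₁) a) = ⊥ := by
          rw [← Scheme.preimage_basicOpen, eq_bot_iff]
          intro w hw
          exact (ha1 hw ⟨w, rfl⟩).elim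
        obtain ⟨n, hn⟩ := (Scheme.isNilpotent_iff_basicOpen_eq_bot_of_isCompact hW.isCompact _).mpr
          hbot
        have hmem : a ^ n ∈ RingHom.ker (r₁.app (Z₁.basicOpen a₁)).hom := by
          rw [RingHom.mem_ker, map_pow]
          exact hn
        have := hprime.mem_of_pow_mem n (hKp hmem)
        exact this ha2
      obtain ⟨w, rfl⟩ := hzr
      have hw2 : r₂ w ∈ Z₂.basicOpen h := h2b _ (by rw [← hr_pt]; exact hzT)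
      have hwβ : w ∈ (pullback ι₁ ι₂).basicOpen β := by rw [hβ]; exact ⟨hzV, hw2⟩
      rw [← hg₀, ← Scheme.preimage_basicOpen] at hwβ
      exact hg₀p hwβ)
  have hg₁ : r₁.app (Z₁.basicOpen a₁) (g₀ + k) = β := by
    change (r₁.app (Z₁.basicOpen a₁)).hom (g₀ + k) = β
    rw [map_add, RingHom.mem_ker.mp hkK, add_zero]
    exact hg₀
  have hg₁F : ∀ z, ι₁ z ∈ T → z ∈ Z₁.basicOpen (g₀ + k) := by
    intro z hz
    have := hk (ptIdeal _ z) (Finset.mem_image_of_mem _ ((hF₁ z).mpr hz))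
    by_contra hcon
    exact this hcon
  have hkey : r₁ ⁻¹ᵁ Z₁.basicOpen (g₀ + k) =
      r₁ ⁻¹ᵁ Z₁.basicOpen a₁ ⊓ r₂ ⁻¹ᵁ Z₂.basicOpen h := by
    rw [Scheme.preimage_basicOpen, hg₁, hβ]
  have hc1 : ∀ z ∈ Z₁.basicOpen (g₀ + k), ∀ z₂, ι₁ z = ι₂ z₂ → z₂ ∈ Z₂.basicOpen h := by
    intro z hz z₂ e
    obtain ⟨w, rfl, rfl⟩ := hpt z z₂ e
    have : w ∈ r₁ ⁻¹ᵁ Z₁.basicOpen (g₀ + k) := hz
    rw [hkey] at this
    exact this.2
  have hc2 : ∀ z₂ ∈ Z₂.basicOpen h, ∀ z, ι₁ z = ι₂ z₂ → z ∈ Z₁.basicOpen (g₀ + k) := by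
    intro z₂ hz₂ z e
    have hzV := h2a z₂ hz₂ z e
    obtain ⟨w, rfl, rfl⟩ := hpt z z₂ e
    have : w ∈ r₁ ⁻¹ᵁ Z₁.basicOpen (g₀ + k) := by rw [hkey]; exact ⟨hzV, hz₂⟩
    exact this
  -- Step 5
  let Y : X.Opens := ⟨(ι₁ '' (Z₁.basicOpen (g₀ + k) : Set Z₁)ᶜ ∪ ι₂ '' (Z₂.basicOpen h : Set Z₂)ᶜ)ᶜ,
    ((ι₁.isClosedEmbedding.isClosedMap _ (Z₁.basicOpen (g₀ + k)).isOpen.isClosed_compl).union
      (ι₂.isClosedEmbedding.isClosedMap _ (Z₂.basicOpen h).isOpen.isClosed_compl)).isOpen_compl⟩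
  have hY₁ : ι₁ ⁻¹ᵁ Y = Z₁.basicOpen (g₀ + k) := by
    ext z
    change ι₁ z ∉ _ ↔ _
    constructor
    · intro hz
      by_contra hcon
      exact hz (Or.inl ⟨z, hcon, rfl⟩)
    · rintro hz (⟨z', hz', e⟩ | ⟨z₂, hz₂, e⟩)
      · exact hz' (hinj₁ e ▸ hz)
      · exact hz₂ (hc1 z hz z₂ e.symm)
  have hY₂ : ι₂ ⁻¹ᵁ Y = Z₂.basicOpen h := by
    ext z
    change ι₂ z ∉ _ ↔ _
    constructor
    · intro hz
      by_contra hcon
      exact hz (Or.inr ⟨z, hcon, rfl⟩)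
    · rintro hz (⟨z₁, hz₁, e⟩ | ⟨z', hz', e⟩)
      · exact hz₁ (hc2 z hz z₁ e)
      · exact hz' (hinj₂ e ▸ hz)
  have hTY : ∀ t ∈ T, t ∈ Y := by
    rintro t ht (⟨z, hz, rfl⟩ | ⟨z, hz, rfl⟩)
    · exact hz (hg₁F z ht)
    · exact hz (h2b z ht)
  refine ⟨Y, ?_, hTY⟩
  have hA₁ : IsAffine (ι₁ ⁻¹ᵁ Y).toScheme := by
    have : IsAffineOpen (ι₁ ⁻¹ᵁ Y) := by rw [hY₁]; exact hV₁'.basicOpen (g₀ + k)
    exact this
  have hA₂ : IsAffine (ι₂ ⁻¹ᵁ Y).toScheme := by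
    have : IsAffineOpen (ι₂ ⁻¹ᵁ Y) := by rw [hY₂]; exact hV₂.basicOpen h
    exact this
  change IsAffine Y.toScheme
  refine isAffine_of_two_closed_cover (ι₁ ∣_ Y) (ι₂ ∣_ Y) ?_
  intro y
  rcases hcov y.1 with ⟨z, hz⟩ | ⟨z, hz⟩
  · left
    have hzY : z ∈ ι₁ ⁻¹ᵁ Y := by change ι₁ z ∈ Y; rw [hz]; exact y.2
    refine ⟨⟨z, hzY⟩, Subtype.ext ?_⟩
    exact (morphismRestrict_base_coe ι₁ Y ⟨z, hzY⟩).trans hz
  · right
    have hzY : z ∈ ι₂ ⁻¹ᵁ Y := by change ι₂ z ∈ Y; rw [hz]; exact y.2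
    refine ⟨⟨z, hzY⟩, Subtype.ext ?_⟩
    exact (morphismRestrict_base_coe ι₂ Y ⟨z, hzY⟩).trans hz

open Scheme IdealSheafData

theorem mem_support_inf {X : Scheme.{u}} (I₁ I₂ : X.IdealSheafData) (x : X)
    (hx : x ∈ (I₁ ⊓ I₂).support) : x ∈ I₁.support ∨ x ∈ I₂.support := by
  have h1 : I₁ * I₂ ≤ I₁ ⊓ I₂ := by
    intro U
    simp only [ideal_mul, ideal_inf]
    exact Ideal.mul_le_inf
  have h2 := support_antitone h1
  rw [support_mul] at h2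
  have : x ∈ (I₁.support ⊔ I₂.support : Closeds X) := h2 hx
  exact this

/-- `J` is good for `T` if some affine open of `V(J)` contains all points of `V(J)` over `T`. -/
def Good {X : Scheme.{u}} (T : Set X) (J : X.IdealSheafData) : Prop :=
  ∃ V : J.subscheme.Opens, IsAffineOpen V ∧ ∀ z : J.subscheme, J.subschemeι z ∈ T → z ∈ V

theorem good_top {X : Scheme.{u}} (T : Set X) : Good T (⊤ : X.IdealSheafData) :=
  ⟨⊥, isAffineOpen_bot _, fun z _ => isEmptyElim z⟩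

theorem good_inf {X : Scheme.{u}} (T : Set X) (hT : T.Finite) (J₁ J₂ : X.IdealSheafData)
    (h₁ : Good T J₁) (h₂ : Good T J₂) : Good T (J₁ ⊓ J₂) := by
  obtain ⟨V₁, hV₁, hTV₁⟩ := h₁
  obtain ⟨V₂, hV₂, hTV₂⟩ := h₂
  have hj₁ : inclusion (inf_le_left : J₁ ⊓ J₂ ≤ J₁) ≫ (J₁ ⊓ J₂).subschemeι = J₁.subschemeι :=
    inclusion_subschemeι _
  have hj₂ : inclusion (inf_le_right : J₁ ⊓ J₂ ≤ J₂) ≫ (J₁ ⊓ J₂).subschemeι = J₂.subschemeι :=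
    inclusion_subschemeι _
  have hinj : Function.Injective (J₁ ⊓ J₂).subschemeι :=
    (J₁ ⊓ J₂).subschemeι.isClosedEmbedding.injective
  have e₁ : ∀ z, (J₁ ⊓ J₂).subschemeι (inclusion (inf_le_left : J₁ ⊓ J₂ ≤ J₁) z) =
      J₁.subschemeι z := by
    intro z
    rw [← hj₁]; rfl
  have e₂ : ∀ z, (J₁ ⊓ J₂).subschemeι (inclusion (inf_le_right : J₁ ⊓ J₂ ≤ J₂) z) =
      J₂.subschemeι z := by
    intro z
    rw [← hj₂]; rfl
  obtain ⟨U, hU, hTU⟩ := exists_affineOpen_of_two_pieces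
    (inclusion (inf_le_left : J₁ ⊓ J₂ ≤ J₁)) (inclusion (inf_le_right : J₁ ⊓ J₂ ≤ J₂))
    (by
      intro y
      have hy : (J₁ ⊓ J₂).subschemeι y ∈ (J₁ ⊓ J₂).support := by
        rw [← SetLike.mem_coe, ← range_subschemeι]; exact ⟨y, rfl⟩
      rcases mem_support_inf J₁ J₂ _ hy with h | h
      · left
        obtain ⟨z, hz⟩ := exists_preimage_of_mem_support J₁ _ h
        exact ⟨z, hinj ((e₁ z).trans hz)⟩
      · right
        obtain ⟨z, hz⟩ := exists_preimage_of_mem_support J₂ _ h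
        exact ⟨z, hinj ((e₂ z).trans hz)⟩)
    ((J₁ ⊓ J₂).subschemeι ⁻¹' T) (hT.preimage hinj.injOn)
    V₁ hV₁ (fun z hz => hTV₁ z (by rw [← e₁]; exact hz))
    V₂ hV₂ (fun z hz => hTV₂ z (by rw [← e₂]; exact hz))
  exact ⟨U, hU, fun z hz => hTU z hz⟩

theorem good_finset_inf {X : Scheme.{u}} (T : Set X) (hT : T.Finite) {κ : Type*}
    (J : κ → X.IdealSheafData) (s : Finset κ) (h : ∀ k ∈ s, Good T (J k)) :
    Good T (s.inf J) := by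
  classical
  induction s using Finset.induction_on with
  | empty => rw [Finset.inf_empty]; exact good_top T
  | insert a s _ ih =>
    rw [Finset.inf_insert]
    exact good_inf T hT _ _ (h a (Finset.mem_insert_self a s))
      (ih (fun k hk => h k (Finset.mem_insert_of_mem hk)))

/-- from a good ideal sheaf with full support to an affine open of `X`. -/
theorem exists_affineOpen_of_good {X : Scheme.{u}} (T : Set X) (J : X.IdealSheafData)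
    (hJ : ∀ x : X, x ∈ J.support) (h : Good T J) :
    ∃ U : X.Opens, IsAffineOpen U ∧ ∀ t ∈ T, t ∈ U := by
  obtain ⟨V, hV, hTV⟩ := h
  have hinj : Function.Injective J.subschemeι := J.subschemeι.isClosedEmbedding.injective
  have hsurj : Function.Surjective J.subschemeι :=
    fun x => exists_preimage_of_mem_support J x (hJ x)
  have hopen : IsOpen (J.subschemeι '' (V : Set J.subscheme)) := by
    rw [← isClosed_compl_iff, ← Set.image_compl_eq ⟨hinj, hsurj⟩]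
    exact J.subschemeι.isClosedEmbedding.isClosedMap _ V.isOpen.isClosed_compl
  let U' : X.Opens := ⟨_, hopen⟩
  have hpre : J.subschemeι ⁻¹ᵁ U' = V := by
    ext z
    change J.subschemeι z ∈ J.subschemeι '' (V : Set J.subscheme) ↔ _
    rw [hinj.mem_set_image]
  refine ⟨U', Groth.Agent.Lib.Helper6.ThickIsAffine.isAffineOpen_of_thickening J.subschemeι hsurj U'
    (by rw [hpre]; exact hV), ?_⟩
  intro t ht
  obtain ⟨z, rfl⟩ := hsurj t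
  exact ⟨z, hTV z ht, rfl⟩

end Groth.Agent.Lib.Helper7.AffineAvoid
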