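import Mathlib

set_option autoImplicit false
universe u
open MvPolynomial

namespace Groth.Agent.Lib.Helper7.FAdicA

section General

variable {S P : Type*} [CommRing S] [CommRing P] [Algebra S P] (I : Ideal P)
  (D : Derivation S P P)
  (hD : ∀ (n : ℕ) (x : P), x ∈ (I ^ n • ⊤ : Ideal P) → D x ∈ (I ^ n • ⊤ : Ideal P))

/-- the additive map induced by `D` on `P ⧸ I ^ n • ⊤` -/
noncomputable def dn (n : ℕ) :
    (P ⧸ (I ^ n • ⊤ : Ideal P)) →ₗ[S] (P ⧸ (I ^ n • ⊤ : Ideal P)) :=
  (((I ^ n • ⊤ : Ideal P).restrictScalars S).liftQ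
      (((I ^ n • ⊤ : Ideal P).mkQ.restrictScalars S) ∘ₗ D.toLinearMap)
      (fun x hx => by
        simp only [LinearMap.mem_ker, LinearMap.coe_comp, LinearMap.coe_restrictScalars,
          Function.comp_apply, Submodule.mkQ_apply, Submodule.Quotient.mk_eq_zero]
        exact hD n x hx)) ∘ₗ
    (Submodule.Quotient.restrictScalarsEquiv S (I ^ n • ⊤ : Ideal P)).symm.toLinearMap

theorem dn_mk (n : ℕ) (x : P) :
    dn I D hD n (Submodule.Quotient.mk x) = Submodule.Quotient.mk (D x) := by
  simp only [dn, LinearMap.coe_comp, LinearEquiv.coe_coe, Function.comp_apply,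
    Submodule.Quotient.restrictScalarsEquiv_symm_mk]
  rfl

theorem dn_mk' (n : ℕ) (x : P) :
    dn I D hD n (Ideal.Quotient.mk _ x) = Ideal.Quotient.mk _ (D x) :=
  dn_mk I D hD n x

theorem dn_mul (n : ℕ) (a b : P ⧸ (I ^ n • ⊤ : Ideal P)) :
    dn I D hD n (a * b) = a * dn I D hD n b + b * dn I D hD n a := by
  obtain ⟨a, rfl⟩ := Ideal.Quotient.mk_surjective a
  obtain ⟨b, rfl⟩ := Ideal.Quotient.mk_surjective b
  rw [← map_mul, dn_mk', dn_mk', dn_mk', D.leibniz]
  simp only [smul_eq_mul, map_add, map_mul]

theorem dn_transition {m n : ℕ} (hmn : m ≤ n) (a : P ⧸ (I ^ n • ⊤ : Ideal P)) :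
    AdicCompletion.transitionMap I P hmn (dn I D hD n a) =
      dn I D hD m (AdicCompletion.transitionMap I P hmn a) := by
  obtain ⟨a, rfl⟩ := Ideal.Quotient.mk_surjective a
  rw [dn_mk', AdicCompletion.transitionMap_ideal_mk, AdicCompletion.transitionMap_ideal_mk,
    dn_mk']

/-- the induced map on the completion -/
noncomputable def deltaFun (x : AdicCompletion I P) : AdicCompletion I P :=
  ⟨fun n => dn I D hD n (x.val n), fun {m n} hmn => by
    rw [dn_transition, x.property hmn]⟩

theorem deltaFun_val (x : AdicCompletion I P) (n : ℕ) :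
    (deltaFun I D hD x).val n = dn I D hD n (x.val n) := rfl

/-- the induced derivation on the completion -/
noncomputable def delta : Derivation S (AdicCompletion I P) (AdicCompletion I P) where
  toFun := deltaFun I D hD
  map_add' x y := by
    apply AdicCompletion.ext
    intro n
    rw [deltaFun_val, AdicCompletion.val_add_apply, AdicCompletion.val_add_apply, map_add]
    rfl
  map_smul' s x := by
    apply AdicCompletion.ext
    intro n
    rw [deltaFun_val, AdicCompletion.val_smul_apply, map_smul]
    rfl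
  map_one_eq_zero' := by
    apply AdicCompletion.ext
    intro n
    change dn I D hD n ((1 : AdicCompletion I P).val n) = 0
    rw [AdicCompletion.val_one, ← map_one (Ideal.Quotient.mk _), dn_mk', D.map_one_eq_zero,
      map_zero]
  leibniz' a b := by
    apply AdicCompletion.ext
    intro n
    change dn I D hD n (a.val n * b.val n) =
      a.val n * dn I D hD n (b.val n) + b.val n * dn I D hD n (a.val n)
    exact dn_mul I D hD n _ _

theorem delta_val (x : AdicCompletion I P) (n : ℕ) :
    (delta I D hD x).val n = dn I D hD n (x.val n) := rfl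

theorem delta_of (p : P) :
    delta I D hD (AdicCompletion.of I P p) = AdicCompletion.of I P (D p) := by
  apply AdicCompletion.ext
  intro n
  rw [delta_val, AdicCompletion.of_apply, AdicCompletion.of_apply]
  exact dn_mk I D hD n p

theorem delta_eval (n : ℕ) (x : AdicCompletion I P)
    (hx : AdicCompletion.eval I P n x = 0) :
    AdicCompletion.eval I P n (delta I D hD x) = 0 := by
  rw [AdicCompletion.eval_apply] at hx ⊢
  rw [delta_val, hx, map_zero]

end General

theorem pderiv_mem (k : Type u) [Field k] (r : ℕ) (j : Fin r) (n : ℕ)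
    (x : MvPolynomial (Fin r) (PowerSeries k))
    (hx : x ∈ ((Ideal.span {MvPolynomial.C (σ := Fin r) (PowerSeries.X (R := k))}) ^ n • ⊤ :
      Ideal (MvPolynomial (Fin r) (PowerSeries k)))) :
    MvPolynomial.pderiv j x ∈
      ((Ideal.span {MvPolynomial.C (σ := Fin r) (PowerSeries.X (R := k))}) ^ n • ⊤ :
        Ideal (MvPolynomial (Fin r) (PowerSeries k))) := by
  rw [smul_eq_mul, Ideal.mul_top, Ideal.span_singleton_pow, Ideal.mem_span_singleton'] at hx ⊢
  obtain ⟨y, rfl⟩ := hx
  refine ⟨MvPolynomial.pderiv j y, ?_⟩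
  rw [Derivation.leibniz, ← map_pow, MvPolynomial.pderiv_C, smul_zero, zero_add, smul_eq_mul,
    mul_comm]

theorem exists_pderiv (k : Type u) [Field k] (r : ℕ) (j : Fin r) :
    ∃ δ : Derivation (PowerSeries k)
        (AdicCompletion (Ideal.span {MvPolynomial.C (σ := Fin r) (PowerSeries.X (R := k))})
          (MvPolynomial (Fin r) (PowerSeries k)))
        (AdicCompletion (Ideal.span {MvPolynomial.C (σ := Fin r) (PowerSeries.X (R := k))})
          (MvPolynomial (Fin r) (PowerSeries k))),
      (∀ p : MvPolynomial (Fin r) (PowerSeries k),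
        δ (AdicCompletion.of _ _ p) = AdicCompletion.of _ _ (MvPolynomial.pderiv j p)) ∧
      (∀ (n : ℕ) (x : AdicCompletion (Ideal.span {MvPolynomial.C (σ := Fin r)
          (PowerSeries.X (R := k))}) (MvPolynomial (Fin r) (PowerSeries k))),
        AdicCompletion.eval _ _ n x = 0 → AdicCompletion.eval _ _ n (δ x) = 0) :=
  ⟨delta _ (MvPolynomial.pderiv j) (pderiv_mem k r j),
    delta_of _ _ (pderiv_mem k r j), delta_eval _ _ (pderiv_mem k r j)⟩

end Groth.Agent.Lib.Helper7.FAdicA
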