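import Mathlib
import Groth.Agent.Lib.Helper22.IdealModAff
import Groth.Agent.Lib.Helper82.BlowUpPullback
import Groth.Agent.Lib.Lead.Inv3
import Groth.Agent.Lib.Helper35.Gen3

/-!
# Generators of the ideal module of a principal ideal sheaf (helper7)
-/

set_option autoImplicit false
set_option linter.style.haveILetI false
universe u

open CategoryTheory CategoryTheory.Limits AlgebraicGeometry TopologicalSpace Opposite

namespace Groth.Agent.Lib.Helper7.IdealGen

open Groth.Agent.Lib.Helper22.IdealModAff Groth.Agent.Lib.Helper35.Gen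

variable {Y : Scheme.{u}}

/-- regular sections are nonzerodivisors on sections over any open -/
theorem eq_zero_of_mul_regSub {U : Y.Opens} {f : Γ(Y, U)} (hf : f ∈ Mero.regSub Y U)
    (c : Γ(Y, U)) (hc : c * f = 0) : c = 0 := by
  refine TopCat.Presheaf.section_ext Y.sheaf U c 0 fun x hx => ?_
  rw [map_zero]
  have h1 := hf ⟨x, hx⟩
  have h2 : Y.presheaf.germ U x hx c * Y.presheaf.germ U x hx f = 0 := by
    rw [← map_mul, hc, map_zero]
  exact (mem_nonZeroDivisors_iff_right.1 h1) _ h2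

theorem mem_regSub_of_nzd {W : Y.Opens} (hW : IsAffineOpen W) (τ : Γ(Y, W))
    (hτ : τ ∈ nonZeroDivisors Γ(Y, W)) : τ ∈ Mero.regSub Y W := fun x =>
  Groth.Agent.Lib.Helper82.germ_mem_nonZeroDivisors hW τ hτ x.1 x.2

theorem incl_res (E : Y.IdealSheafData) {U V : Y.Opens} (h : V ≤ U)
    (g : Γ(ClSub.idealMod E, U)) :
    incl E V (rs (ClSub.idealMod E) h g) = rr Y h (incl E U g) :=
  Groth.Agent.Lib.Helper2.KerSec.naturality_apply (kernel.ι (ClSub.toSubscheme E)) (homOfLE h) g

theorem isGen_of_incl_eq (E : Y.IdealSheafData) (W : Y.affineOpens) (τ : Γ(Y, W.1))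
    (hτ : τ ∈ nonZeroDivisors Γ(Y, W.1)) (hE : E.ideal W = Ideal.span {τ})
    (g : Γ(ClSub.idealMod E, W.1)) (hg : incl E W.1 g = τ) :
    IsGen (ClSub.idealMod E) W.1 g := by
  have hreg := mem_regSub_of_nzd W.2 τ hτ
  have key : Groth.Agent.Lib.Lead.Inv.IsGen (ClSub.idealMod E) W.1 g := by
    apply Groth.Agent.Lib.Lead.Inv.isGen_of_local
    · intro W' hW' r hr
      have h1 := congrArg (incl E W') hr
      rw [map_zero, map_smul] at h1
      have h2 : incl E W' ((ClSub.idealMod E).presheaf.map (homOfLE hW').op g) = rr Y hW' τ := by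
        rw [← hg]
        exact incl_res E hW' g
      rw [h2] at h1
      exact eq_zero_of_mul_regSub (Mero.regSub_res (homOfLE hW') hreg) r h1
    · intro W' hW' σ x hx
      obtain ⟨V, hV, hxV, hVW'0⟩ := exists_isAffineOpen_mem_and_subset (x := x) (U := W') hx
      have hVW' : V ≤ W' := hVW'0
      have hVW : V ≤ W.1 := le_trans hVW' hW'
      refine ⟨V, hVW', hxV, ?_⟩
      have h1 : incl E V ((ClSub.idealMod E).presheaf.map (homOfLE hVW').op σ) ∈ E.ideal ⟨V, hV⟩ :=
        (mem_ideal_iff E ⟨V, hV⟩ _).2 ⟨_, rfl⟩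
      rw [← E.map_ideal (U := ⟨V, hV⟩) (V := W) hVW, hE, Ideal.map_span, Set.image_singleton,
        Ideal.mem_span_singleton'] at h1
      obtain ⟨c, hc⟩ := h1
      refine ⟨c, incl_injective E V ?_⟩
      rw [map_smul]
      refine Eq.trans ?_ hc
      have h2 : incl E V ((ClSub.idealMod E).presheaf.map (homOfLE hVW).op g) = rr Y hVW τ := by
        rw [← hg]
        exact incl_res E hVW g
      rw [h2]
      rfl
  exact fun W' hW' => key W' hW'

theorem exists_gen (E : Y.IdealSheafData) (W : Y.affineOpens) (τ : Γ(Y, W.1))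
    (hτ : τ ∈ nonZeroDivisors Γ(Y, W.1)) (hE : E.ideal W = Ideal.span {τ}) :
    ∃ g : Γ(ClSub.idealMod E, W.1), IsGen (ClSub.idealMod E) W.1 g ∧ incl E W.1 g = τ := by
  have hτE : τ ∈ E.ideal W := by rw [hE]; exact Ideal.mem_span_singleton_self τ
  obtain ⟨g, hg⟩ := (mem_ideal_iff E W τ).1 hτE
  exact ⟨g, isGen_of_incl_eq E W τ hτ hE g hg, hg⟩

end Groth.Agent.Lib.Helper7.IdealGen
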