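import Mathlib
import Groth.Agent.Lib.Helper64.DenomQC1

/-!
# Charts of a regular meromorphic section of an invertible module (helper7)
-/

set_option autoImplicit false
set_option linter.style.haveILetI false
set_option linter.unusedSectionVars false
universe u

open AlgebraicGeometry CategoryTheory Opposite TopologicalSpace

namespace Groth.Agent.Lib.Helper7.MeroChart

open Mero Groth.Agent.Lib.Helper65.CurveDiv
open Groth.Agent.Lib.Helper64.MeroInv Groth.Agent.Lib.Lead.Inv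
open Groth.Agent.Lib.Helper64.RefS2 Groth.Agent.Lib.Helper64.MeroReg
open Groth.Agent.Lib.Helper64.MeroDiv Groth.Agent.Lib.Helper64.DenomQC

variable {X : Scheme.{u}} {L : X.Modules}

/-- cross multiplication in `S_x⁻¹ L_x` for `L` invertible -/
theorem cross (hL : PicF.IsInvertible L) {x : X} (m₁ m₂ : L.presheaf.stalk x)
    (σ₁ σ₂ : regStalk X x)
    (h : (LocalizedModule.mk m₁ σ₁ : MStalk L x) = LocalizedModule.mk m₂ σ₂) :
    (σ₂ : X.presheaf.stalk x) • m₁ = (σ₁ : X.presheaf.stalk x) • m₂ := by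
  obtain ⟨u, hu⟩ := LocalizedModule.mk_eq.1 h
  have hz : (LocalizedModule.mk ((σ₂ : X.presheaf.stalk x) • m₁ - (σ₁ : X.presheaf.stalk x) • m₂)
      (1 : regStalk X x) : MStalk L x) = 0 := by
    refine (lmkM_eq_zero_iff _ 1).2 ⟨u, ?_⟩
    rw [smul_sub, sub_eq_zero]
    exact hu
  exact sub_eq_zero.1 ((lmkM_eq_zero_iff_of_isInvertible hL _ 1).1 hz)

/-- a chart of the meromorphic section `s` on `V`: `s = (r • ε) / c` -/
structure IsChart (L : X.Modules) (s : Γ(merMod L, ⊤)) (V : X.Opens) (ε : Γ(L, V))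
    (r c : Γ(X, V)) : Prop where
  gen : IsGen L V ε
  hr : r ∈ regSub X V
  hc : c ∈ regSub X V
  val : ∀ y : V, s.1 ⟨y.1, Opens.mem_top y.1⟩ =
    LocalizedModule.mk (L.presheaf.germ V y.1 y.2 (r • ε)) (regGerm y ⟨c, hc⟩)

theorem IsChart.res {s : Γ(merMod L, ⊤)} {V : X.Opens} {ε : Γ(L, V)} {r c : Γ(X, V)}
    (h : IsChart L s V ε r c) {V' : X.Opens} (hV : V' ≤ V) :
    IsChart L s V' (L.presheaf.map (homOfLE hV).op ε) (X.presheaf.map (homOfLE hV).op r)
      (X.presheaf.map (homOfLE hV).op c) where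
  gen := h.gen.res hV
  hr := regSub_res (homOfLE hV) h.hr
  hc := regSub_res (homOfLE hV) h.hc
  val y := by
    rw [h.val ⟨y.1, hV y.2⟩]
    refine mk_congr ?_ ?_
    · rw [← TopCat.Presheaf.germ_res_apply L.presheaf (homOfLE hV) y.1 y.2 (r • ε)]
      congr 1
      exact (Groth.Agent.Lib.Helper35.Gen.rs_smul L hV r ε)
    · exact (TopCat.Presheaf.germ_res_apply X.presheaf (homOfLE hV) y.1 y.2 c).symm

theorem exists_isChart (hL : PicF.IsInvertible L) (s : Γ(merMod L, ⊤)) (hs : IsRegularMero L s)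
    (x : X) : ∃ (V : X.Opens) (ε : Γ(L, V)) (r c : Γ(X, V)), IsAffineOpen V ∧ x ∈ V ∧
      IsChart L s V ε r c := by
  obtain ⟨V, ε, r, b, hxV, hε, hr, hb, hval⟩ := exists_chart hL s hs x
  obtain ⟨V', hV', hxV', hV'V⟩ := exists_isAffineOpen_mem_and_subset (x := x) (U := V) hxV
  have hc : IsChart L s V ε r b := ⟨hε, hr, hb, hval⟩
  exact ⟨V', _, _, _, hV', hxV', hc.res hV'V⟩

/-- germwise equality of sections of a module -/
theorem sec_ext (M : X.Modules) {V : X.Opens} (a b : Γ(M, V))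
    (h : ∀ (y : X) (hy : y ∈ V), M.presheaf.germ V y hy a = M.presheaf.germ V y hy b) : a = b :=
  TopCat.Presheaf.section_ext ⟨M.presheaf, M.isSheaf⟩ V a b h

/-- the basic identity: if `s = (r ε)/c = m / c'` stalkwise then `c' r ε = c m` -/
theorem IsChart.smul_eq (hL : PicF.IsInvertible L) {s : Γ(merMod L, ⊤)} {V : X.Opens}
    {ε : Γ(L, V)} {r c : Γ(X, V)} (h : IsChart L s V ε r c) (f c' : Γ(X, V))
    (hc' : c' ∈ regSub X V) (m : Γ(L, V))
    (hm : ∀ y : V, X.presheaf.germ V y.1 y.2 f • s.1 ⟨y.1, Opens.mem_top y.1⟩ =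
      LocalizedModule.mk (L.presheaf.germ V y.1 y.2 m) (regGerm y ⟨c', hc'⟩)) :
    (c' * (f * r)) • ε = c • m := by
  refine sec_ext L _ _ fun y hy => ?_
  have h1 := hm ⟨y, hy⟩
  rw [h.val ⟨y, hy⟩, LocalizedModule.smul'_mk] at h1
  have h2 := cross hL _ _ _ _ h1
  rw [germ_smul, germ_smul, map_mul, map_mul, mul_smul, mul_smul]
  rw [germ_smul] at h2
  exact h2

/-- denominators on a chart: `f ∈ denomIdeal` gives `f r = c a` -/
theorem IsChart.exists_of_mem_denomIdeal (hL : PicF.IsInvertible L) {s : Γ(merMod L, ⊤)}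
    {V : X.Opens} {ε : Γ(L, V)} {r c : Γ(X, V)} (h : IsChart L s V ε r c) {f : Γ(X, V)}
    (hf : f ∈ denomIdeal L s V) : ∃ a : Γ(X, V), f * r = c * a := by
  obtain ⟨m, hm⟩ := hf
  have hgen : Groth.Agent.Lib.Helper35.Gen.IsGen L V ε := fun W hW => h.gen W hW
  obtain ⟨a, ha⟩ := hgen.exists_eq_smul m
  refine ⟨a, hgen.smul_injective ?_⟩
  have h1 := h.smul_eq hL f 1 (Submonoid.one_mem _) m (fun y => by
    rw [hm y]
    exact mk_congr rfl (map_one _).symm)
  rw [one_mul] at h1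
  rw [h1, ha, mul_smul]

/-- comparison of two charts -/
theorem IsChart.compare (hL : PicF.IsInvertible L) {s : Γ(merMod L, ⊤)} {V : X.Opens}
    {ε₁ ε₂ : Γ(L, V)} {r₁ c₁ r₂ c₂ a : Γ(X, V)} (h₁ : IsChart L s V ε₁ r₁ c₁)
    (h₂ : IsChart L s V ε₂ r₂ c₂) (ha : ε₂ = a • ε₁) : c₂ * r₁ = c₁ * (r₂ * a) := by
  have hgen : Groth.Agent.Lib.Helper35.Gen.IsGen L V ε₁ := fun W hW => h₁.gen W hW
  apply hgen.smul_injective
  have h1 := h₁.smul_eq hL 1 c₂ h₂.hc (r₂ • ε₂) (fun y => by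
    rw [map_one, one_smul]
    exact h₂.val y)
  rw [one_mul] at h1
  rw [h1, ha, mul_smul, mul_smul]

/-- the complement of the support of the ideal of denominators is the domain of definition -/
theorem compl_support_eq_domain (s : Γ(merMod L, ⊤)) (I : X.IdealSheafData)
    (hI : ∀ V : X.affineOpens, I.ideal V = denomIdeal L s V.1) :
    ((I.support.compl : X.Opens) : Set X) = Mero.domain L s := by
  ext x
  constructor
  · intro hx
    have hx' : x ∉ I.support := hx
    obtain ⟨V, hV, hxV, -⟩ := exists_isAffineOpen_mem_and_subset (x := x) (U := ⊤) trivial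
    have h1 := (Scheme.IdealSheafData.mem_support_iff_of_mem (I := I) (U := ⟨V, hV⟩) hxV).not.1 hx'
    rw [Scheme.mem_zeroLocus_iff] at h1
    push Not at h1
    obtain ⟨f, hfI, hxf⟩ := h1
    have hfI' : f ∈ denomIdeal L s V := by
      have := hI ⟨V, hV⟩
      rw [← this]
      exact hfI
    obtain ⟨m, hm⟩ := hfI'
    have hle : X.basicOpen f ≤ V := X.basicOpen_le f
    have hu : IsUnit (X.presheaf.map (homOfLE hle).op f) :=
      RingedSpace.isUnit_res_basicOpen X.toRingedSpace f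
    obtain ⟨u, hu⟩ := hu.exists_left_inv
    refine ⟨X.basicOpen f, hxf, u • L.presheaf.map (homOfLE hle).op m, fun y => ?_⟩
    rw [toMerFun_apply]
    have h2 := hm ⟨y.1, hle y.2⟩
    have h3 : X.presheaf.germ (X.basicOpen f) y.1 y.2 u * X.presheaf.germ V y.1 (hle y.2) f = 1 := by
      rw [← TopCat.Presheaf.germ_res_apply X.presheaf (homOfLE hle) y.1 y.2 f, ← map_mul, hu, map_one]
    calc s.1 ⟨y.1, Opens.mem_top y.1⟩
        = (X.presheaf.germ (X.basicOpen f) y.1 y.2 u * X.presheaf.germ V y.1 (hle y.2) f) •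
            s.1 ⟨y.1, Opens.mem_top y.1⟩ := by rw [h3, one_smul]
      _ = X.presheaf.germ (X.basicOpen f) y.1 y.2 u •
            LocalizedModule.mk (L.presheaf.germ V y.1 (hle y.2) m) (1 : regStalk X y.1) := by
          rw [mul_smul, h2]
          rfl
      _ = _ := by
          rw [LocalizedModule.smul'_mk]
          refine mk_congr ?_ rfl
          rw [germ_smul, TopCat.Presheaf.germ_res_apply]
  · rintro ⟨V, hxV, m, hm⟩
    obtain ⟨V', hV', hxV', hV'V⟩ := exists_isAffineOpen_mem_and_subset (x := x) (U := V) hxV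
    have h1 : (1 : Γ(X, V')) ∈ I.ideal ⟨V', hV'⟩ := by
      rw [hI ⟨V', hV'⟩]
      refine ⟨L.presheaf.map (homOfLE hV'V).op m, fun y => ?_⟩
      rw [map_one, one_smul, hm ⟨y.1, hV'V y.2⟩, toMerFun_apply]
      change _ = LocalizedModule.mk _ _
      exact mk_congr (TopCat.Presheaf.germ_res_apply L.presheaf (homOfLE hV'V) y.1 y.2 m).symm rfl
    intro hx
    have h2 := (Scheme.IdealSheafData.mem_support_iff_of_mem (I := I) (U := ⟨V', hV'⟩) hxV').1 hx
    rw [Scheme.mem_zeroLocus_iff] at h2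
    apply h2 1 h1
    rw [Scheme.basicOpen_of_isUnit _ isUnit_one]
    exact hxV'

end Groth.Agent.Lib.Helper7.MeroChart
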