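import Mathlib
import Groth.Agent.Lib.Helper35.Dual3
import Groth.Agent.Lib.Helper35.GlobGen
import Groth.Agent.Lib.Helper64.ExtLocal

/-!
# Gluing a section of `N₁ ⊗ N₂^∨` from local equations (helper7)
-/

set_option autoImplicit false
set_option linter.style.haveILetI false
universe u

open CategoryTheory CategoryTheory.Limits AlgebraicGeometry TopologicalSpace Opposite

namespace Groth.Agent.Lib.Helper7.TwistGlue

open Groth.Agent.Lib.Helper35.AbSheaf Groth.Agent.Lib.Helper35.Gen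
open Groth.Agent.Lib.Helper35.Dual

variable {Y : Scheme.{u}}

/-- restriction of dual generators -/
theorem rs_dualGen_eq {N : Y.Modules} {U U' T : Y.Opens} {e : Γ(N, U)} {e' : Γ(N, U')}
    (he : IsGen N U e) (he' : IsGen N U' e') (hT : T ≤ U) (hT' : T ≤ U') (β : Γ(Y, T))
    (hβ : rs N hT' e' = β • rs N hT e) :
    ∃ γ : Γ(Y, T), β * γ = 1 ∧
      rs (dual N) hT' (dualGen he') = γ • rs (dual N) hT (dualGen he) := by
  refine ⟨ev (rs (dual N) hT' (dualGen he')) (rs N hT e), ?_, eq_ev_smul_dualGen he hT _⟩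
  have h1 : ev (rs (dual N) hT' (dualGen he')) (rs N hT' e') = 1 := by
    rw [ev_rs_dualGen, coeff_self]
  rw [hβ, ev_smul_right] at h1
  exact h1

theorem exists_twist_section (N₁ N₂ : Y.Modules) {ι : Type u} (W : ι → Y.Opens)
    (hcov : ∀ y : Y, ∃ i, y ∈ W i)
    (e₁ : ∀ i, Γ(N₁, W i)) (e₂ : ∀ i, Γ(N₂, W i)) (he₁ : ∀ i, IsGen N₁ (W i) (e₁ i))
    (he₂ : ∀ i, IsGen N₂ (W i) (e₂ i)) (d : ∀ i, Γ(Y, W i))
    (hcompat : ∀ i j (a β : Γ(Y, W i ⊓ W j)),
      rs N₁ inf_le_right (e₁ j) = a • rs N₁ inf_le_left (e₁ i) →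
      rs N₂ inf_le_right (e₂ j) = β • rs N₂ inf_le_left (e₂ i) →
      rr Y inf_le_right (d j) * a = rr Y inf_le_left (d i) * β) :
    ∃ t : Coh.structureModule Y ⟶ CohB1.tensorMod N₁ (dual N₂), ∀ i,
      SecTwist.val t (W i) = d i • tm N₁ (dual N₂) (e₁ i) (dualGen (he₂ i)) := by
  set M := CohB1.tensorMod N₁ (dual N₂) with hM
  let c : ∀ i, Γ(M, W i) := fun i => d i • tm N₁ (dual N₂) (e₁ i) (dualGen (he₂ i))
  have hc : ∀ i j, M.presheaf.map (homOfLE (inf_le_left : W i ⊓ W j ≤ W i)).op (c i) =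
      M.presheaf.map (homOfLE (inf_le_right : W i ⊓ W j ≤ W j)).op (c j) := by
    intro i j
    obtain ⟨a, ha⟩ := ((he₁ i).mono (inf_le_left : W i ⊓ W j ≤ W i)).exists_eq_smul
      (rs N₁ inf_le_right (e₁ j))
    obtain ⟨β, hβ⟩ := ((he₂ i).mono (inf_le_left : W i ⊓ W j ≤ W i)).exists_eq_smul
      (rs N₂ inf_le_right (e₂ j))
    have hd := hcompat i j a β ha hβ
    obtain ⟨γ, hγ1, hγ2⟩ := rs_dualGen_eq (he₂ i) (he₂ j) inf_le_left inf_le_right β hβ
    change rs M inf_le_left (c i) = rs M inf_le_right (c j)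
    simp only [c]
    rw [rs_smul, rs_smul, rs_tm, rs_tm, ha, hγ2, tm_smul_left, tm_smul_right, smul_smul, smul_smul]
    congr 1
    calc rr Y inf_le_left (d i) = rr Y inf_le_left (d i) * (β * γ) := by rw [hγ1, mul_one]
      _ = rr Y inf_le_right (d j) * a * γ := by rw [← mul_assoc, ← hd]
      _ = _ := by ring
  obtain ⟨r, hr⟩ := Groth.Agent.Lib.Helper64.ExtLocal.exists_glue_idx M (T := ⊤) W
    (fun i => le_top) (fun y _ => by
      obtain ⟨i, hi⟩ := hcov y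
      exact Opens.mem_iSup.2 ⟨i, hi⟩) c hc
  refine ⟨Groth.Agent.Lib.Helper35.GlobGen.secHom M r, fun i => ?_⟩
  have h1 := Groth.Agent.Lib.Helper35.GlobGen.secHom_app_one M r (W i)
  exact h1.trans (hr i)

end Groth.Agent.Lib.Helper7.TwistGlue
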