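import Mathlib
import Groth.Agent.Lib.Helper35.Dual3
import Groth.Agent.Lib.Helper64.ZeroSch2
import Groth.Agent.Lib.Helper22.IdealModAff
import Groth.Agent.Lib.Helper22.RelCartier
import Groth.Agent.Lib.Helper29.WeakAssNZD
import Groth.Agent.Lib.Helper40.AffBC1
import Groth.Agent.Lib.Lead.SheafPts

set_option autoImplicit false
set_option linter.style.haveILetI false
universe u

open CategoryTheory CategoryTheory.Limits AlgebraicGeometry TopologicalSpace Opposite

namespace Groth.Agent.Lib.Helper7.ZeroIdeal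

open Groth.Agent.Lib.Helper35.AbSheaf Groth.Agent.Lib.Helper35.Gen
open Groth.Agent.Lib.Helper35.Dual

variable {X : Scheme.{u}} {L : X.Modules}

/-- evaluation at a section, sectionwise -/
noncomputable def evFun (s : Coh.structureModule X ⟶ L) (U : X.Opens) :
    Γ(dual L, U) →+ Γ(Coh.structureModule X, U) where
  toFun φ := (ev φ (SecTwist.val s U) : Γ(X, U))
  map_zero' := by
    have := ev_smul_left (0 : Γ(X, U)) (0 : Γ(dual L, U)) (SecTwist.val s U)
    rw [zero_smul, zero_mul] at this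
    exact this
  map_add' φ ψ := ev_add_left φ ψ _

theorem evFun_apply (s : Coh.structureModule X ⟶ L) (U : X.Opens) (φ : Γ(dual L, U)) :
    evFun s U φ = (ev φ (SecTwist.val s U) : Γ(X, U)) := rfl

/-- the cosection of the dual given by evaluating at a section -/
noncomputable def evHom (s : Coh.structureModule X ⟶ L) : dual L ⟶ Coh.structureModule X :=
  ⟨PresheafOfModules.homMk (M₁ := (dual L).val) (M₂ := (Coh.structureModule X).val)
    { app := fun U => AddCommGrpCat.ofHom (evFun s U.unop)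
      naturality := fun {U V} i => by
        ext φ
        have h := rr_ev (L := L) i.unop.le (show Γ(dual L, U.unop) from φ) (SecTwist.val s U.unop)
        rw [rs_val] at h
        exact h.symm }
    (fun U r m => ev_smul_left (show Γ(X, U.unop) from r) (show Γ(dual L, U.unop) from m) _)⟩

theorem evHom_app (s : Coh.structureModule X ⟶ L) (U : X.Opens) (φ : Γ(dual L, U)) :
    ((evHom s).app U).hom φ = (ev φ (SecTwist.val s U) : Γ(X, U)) := rfl


open Groth.Agent.Lib.Helper64.ZeroSch in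
/-- affine charts in the `Helper35` vocabulary -/
theorem exists_chart (hL : PicF.IsInvertible L) (s : Coh.structureModule X ⟶ L) (x : X)
    (W : X.Opens) (hxW : x ∈ W) :
    ∃ U : X.affineOpens, x ∈ U.1 ∧ U.1 ≤ W ∧ ∃ (ε : Γ(L, U.1)) (r : Γ(X, U.1)),
      IsGen L U.1 ε ∧ SecTwist.val s U.1 = r • ε := by
  obtain ⟨U, hxU, hUW, ε, r, hε, hr⟩ := exists_affine_chart hL s x W hxW
  exact ⟨U, hxU, hUW, ε, r, fun W' hW' => hε W' hW', hr⟩

open Groth.Agent.Lib.Helper64.ZeroSch in
theorem ideal_chart (hL : PicF.IsInvertible L) (s : Coh.structureModule X ⟶ L)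
    (U : X.affineOpens) (ε : Γ(L, U.1)) (r : Γ(X, U.1)) (hε : IsGen L U.1 ε)
    (hr : SecTwist.val s U.1 = r • ε) :
    (PicF2.zeroScheme L s).ideal U = Ideal.span {r} := by
  rw [zeroScheme_ideal hL s U]
  exact zI_eq_span s (fun W' hW' => hε W' hW') r hr

theorem nzd_chart (s : Coh.structureModule X ⟶ L)
    (hreg : ∀ y, Curv2.IsWeakAssPoint (Coh.structureModule X) y → y ∈ CohB1.genLocus L s)
    (U : X.affineOpens) (ε : Γ(L, U.1)) (r : Γ(X, U.1)) (hε : IsGen L U.1 ε)
    (hr : SecTwist.val s U.1 = r • ε) : r ∈ nonZeroDivisors Γ(X, U.1) := by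
  apply Groth.Agent.Lib.Helper29.QCohLoc.mem_nonZeroDivisors_of_forall_weakAss U.2 r
  intro y hy hwa
  rw [← genLocus_inf_eq_basicOpen s hε r hr]
  exact ⟨hreg y hwa, hy⟩

theorem toSubscheme_app_eq_zero (D : X.IdealSheafData) (U : X.affineOpens) (a : Γ(X, U.1))
    (ha : a ∈ D.ideal U) :
    ((ClSub.toSubscheme D).app U.1).hom (show Γ(Coh.structureModule X, U.1) from a) = 0 := by
  obtain ⟨t, ht⟩ := (Groth.Agent.Lib.Helper22.IdealModAff.mem_ideal_iff D U a).1 ha
  have := Groth.Agent.Lib.Helper2.KerSec.app_kernelι_comp (ClSub.toSubscheme D) U.1 t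
  rw [← ht]
  exact this

theorem evHom_comp_toSubscheme (hL : PicF.IsInvertible L) (s : Coh.structureModule X ⟶ L) :
    evHom s ≫ ClSub.toSubscheme (PicF2.zeroScheme L s) = 0 := by
  apply Scheme.Modules.hom_ext
  intro W
  ext φ
  change ((ClSub.toSubscheme (PicF2.zeroScheme L s)).app W).hom (((evHom s).app W).hom φ) = 0
  refine Groth.Agent.Lib.Lead.SheafGlue.eq_of_locally_eq_pts _ _ _ (fun x hx => ?_)
  obtain ⟨U, hxU, hUW, ε, r, hε, hr⟩ := exists_chart hL s x W hx
  refine ⟨U.1, hUW, hxU, ?_⟩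
  rw [map_zero]
  have h1 := Groth.Agent.Lib.Helper2.KerSec.naturality_apply
    (ClSub.toSubscheme (PicF2.zeroScheme L s)) (homOfLE hUW) (((evHom s).app W).hom φ)
  refine h1.symm.trans ?_
  have h2 := Groth.Agent.Lib.Helper2.KerSec.naturality_apply (evHom s) (homOfLE hUW) φ
  rw [← h2]
  apply toSubscheme_app_eq_zero
  rw [ideal_chart hL s U ε r hε hr]
  have h3 : (show Γ(X, U.1) from
      ((evHom s).app U.1).hom ((dual L).presheaf.map (homOfLE hUW).op φ)) =
      ev (show Γ(dual L, U.1) from (dual L).presheaf.map (homOfLE hUW).op φ) ε * r := by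
    change ev (show Γ(dual L, U.1) from (dual L).presheaf.map (homOfLE hUW).op φ)
      (SecTwist.val s U.1) = _
    rw [hr, ev_smul_right, mul_comm]
  exact Ideal.mem_span_singleton'.2 ⟨_, h3.symm⟩


open Groth.Agent.Lib.Helper22.IdealModAff

/-- the comparison map `L^∨ ⟶ I_D`, `D` the zero scheme of `s` -/
noncomputable def toIdeal (hL : PicF.IsInvertible L) (s : Coh.structureModule X ⟶ L) :
    dual L ⟶ ClSub.idealMod (PicF2.zeroScheme L s) :=
  kernel.lift (ClSub.toSubscheme _) (evHom s) (evHom_comp_toSubscheme hL s)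

theorem incl_toIdeal (hL : PicF.IsInvertible L) (s : Coh.structureModule X ⟶ L) (W : X.Opens)
    (φ : Γ(dual L, W)) :
    incl (PicF2.zeroScheme L s) W (((toIdeal hL s).app W).hom φ) =
      ev φ (SecTwist.val s W) := by
  have h : toIdeal hL s ≫ kernel.ι (ClSub.toSubscheme _) = evHom s := kernel.lift_ι _ _ _
  exact congrArg (fun ψ : dual L ⟶ Coh.structureModule X => ((ψ.app W).hom φ : Γ(X, W))) h

theorem ev_dualGen_self {U : X.Opens} {ε : Γ(L, U)} (hε : IsGen L U ε) :
    ev (dualGen hε) ε = 1 := by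
  have h1 := ev_rs_dualGen hε le_rfl ε
  have h2 := coeff_self hε (le_refl U)
  rw [rs_self] at h1 h2
  exact h1.trans h2

theorem isIso_toIdeal (hL : PicF.IsInvertible L) (s : Coh.structureModule X ⟶ L)
    (hreg : ∀ y, Curv2.IsWeakAssPoint (Coh.structureModule X) y → y ∈ CohB1.genLocus L s) :
    IsIso (toIdeal hL s) := by
  apply Groth.Agent.Lib.Helper40.AffBC.isIso_of_app_bijective_of_basis
    {W | ∃ (_ : IsAffineOpen W) (ε : Γ(L, W)) (r : Γ(X, W)),
      IsGen L W ε ∧ SecTwist.val s W = r • ε}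
  · rw [Opens.isBasis_iff_nbhd]
    intro V x hxV
    obtain ⟨U, hxU, hUV, ε, r, hε, hr⟩ := exists_chart hL s x V hxV
    exact ⟨U.1, ⟨U.2, ε, r, hε, hr⟩, hxU, hUV⟩
  · rintro W ⟨hW, ε, r, hε, hr⟩
    have hnzd := nzd_chart s hreg ⟨W, hW⟩ ε r hε hr
    have hI := ideal_chart hL s ⟨W, hW⟩ ε r hε hr
    have hev : ∀ φ : Γ(dual L, W),
        incl (PicF2.zeroScheme L s) W (((toIdeal hL s).app W).hom φ) = ev φ ε * r := by
      intro φ
      rw [incl_toIdeal, hr, ev_smul_right, mul_comm]
    constructor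
    · intro φ₁ φ₂ h
      have h1 : ev φ₁ ε * r = ev φ₂ ε * r := by
        rw [← hev, ← hev]
        exact congrArg _ h
      have h2 : ev φ₁ ε = ev φ₂ ε := (mul_cancel_right_mem_nonZeroDivisors hnzd).1 h1
      have e1 := eq_ev_smul_dualGen hε le_rfl φ₁
      have e2 := eq_ev_smul_dualGen hε le_rfl φ₂
      rw [rs_self] at e1 e2
      calc φ₁ = _ := e1
        _ = _ := by rw [h2]
        _ = φ₂ := e2.symm
    · intro t
      have ht : incl (PicF2.zeroScheme L s) W t ∈ (PicF2.zeroScheme L s).ideal ⟨W, hW⟩ :=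
        (mem_ideal_iff (PicF2.zeroScheme L s) ⟨W, hW⟩ _).2 ⟨t, rfl⟩
      rw [hI, Ideal.mem_span_singleton'] at ht
      obtain ⟨a, ha⟩ := ht
      refine ⟨a • dualGen hε, incl_injective (PicF2.zeroScheme L s) W ?_⟩
      refine (hev _).trans ?_
      rw [ev_smul_left, ev_dualGen_self, mul_one]
      exact ha

/-- **The zero scheme of a regular section of an invertible module** is an effective Cartier
divisor missing the nonvanishing locus, with ideal sheaf the dual module. -/
theorem main (hL : PicF.IsInvertible L) (s : Coh.structureModule X ⟶ L)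
    (hreg : ∀ y, Curv2.IsWeakAssPoint (Coh.structureModule X) y → y ∈ CohB1.genLocus L s) :
    BlowUp.IsEffCartierIdeal (PicF2.zeroScheme L s) ∧
      (∀ x ∈ CohB1.genLocus L s, x ∉ (PicF2.zeroScheme L s).support) ∧
      Nonempty (dual L ≅ ClSub.idealMod (PicF2.zeroScheme L s)) := by
  refine ⟨fun x => ?_, fun x hx => ?_, ?_⟩
  · obtain ⟨U, hxU, -, ε, r, hε, hr⟩ := exists_chart hL s x ⊤ trivial
    exact ⟨U, hxU, r, nzd_chart s hreg U ε r hε hr, ideal_chart hL s U ε r hε hr⟩
  · obtain ⟨U, hxU, -, ε, r, hε, hr⟩ := exists_chart hL s x ⊤ trivial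
    apply Groth.Agent.Lib.Helper22.RelCartier.notMem_support_of_mem_basicOpen
      (hI := ideal_chart hL s U ε r hε hr)
    rw [← genLocus_inf_eq_basicOpen s hε r hr]
    exact ⟨hx, hxU⟩
  · haveI := isIso_toIdeal hL s hreg
    exact ⟨asIso (toIdeal hL s)⟩

end Groth.Agent.Lib.Helper7.ZeroIdeal
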