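import Mathlib
import Groth.Agent.Lib.Helper7.ZeroIdeal
import Groth.Agent.Lib.Helper82.BlowUpPullback

/-!
# Zero scheme of a section with locally regular equations (helper7)
Variant of `ZeroIdeal.main` with the hypothesis "locally the equation is a nonzerodivisor".
-/

set_option autoImplicit false
set_option linter.style.haveILetI false
universe u

open CategoryTheory CategoryTheory.Limits AlgebraicGeometry TopologicalSpace Opposite

namespace Groth.Agent.Lib.Helper7.ZeroIdeal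

open Groth.Agent.Lib.Helper35.AbSheaf Groth.Agent.Lib.Helper35.Gen
open Groth.Agent.Lib.Helper35.Dual Groth.Agent.Lib.Helper22.IdealModAff

variable {X : Scheme.{u}} {L : X.Modules}

theorem isIso_toIdeal' (hL : PicF.IsInvertible L) (s : Coh.structureModule X ⟶ L)
    (hloc : ∀ x : X, ∃ U : X.affineOpens, x ∈ U.1 ∧ ∃ (ε : Γ(L, U.1)) (r : Γ(X, U.1)),
      IsGen L U.1 ε ∧ SecTwist.val s U.1 = r • ε ∧ r ∈ nonZeroDivisors Γ(X, U.1)) :
    IsIso (toIdeal hL s) := by
  apply Groth.Agent.Lib.Helper40.AffBC.isIso_of_app_bijective_of_basis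
    {W | ∃ (_ : IsAffineOpen W) (ε : Γ(L, W)) (r : Γ(X, W)),
      IsGen L W ε ∧ SecTwist.val s W = r • ε ∧ r ∈ nonZeroDivisors Γ(X, W)}
  · rw [Opens.isBasis_iff_nbhd]
    intro V x hxV
    obtain ⟨U, hxU, ε, r, hε, hr, hnzd⟩ := hloc x
    obtain ⟨W, hW, hxW, hWle⟩ :=
      exists_isAffineOpen_mem_and_subset (x := x) (U := U.1 ⊓ V) ⟨hxU, hxV⟩
    have hWU : W ≤ U.1 := fun y hy => (hWle hy).1
    have hWV : W ≤ V := fun y hy => (hWle hy).2
    refine ⟨W, ⟨hW, rs L hWU ε, rr X hWU r, hε.mono hWU, ?_, ?_⟩, hxW, hWV⟩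
    · rw [← rs_val s hWU, hr, rs_smul]
    · exact Groth.Agent.Lib.Helper82.stablyNZD_of_mem_nonZeroDivisors U.2 r hnzd W hWU hW
  · rintro W ⟨hW, ε, r, hε, hr, hnzd⟩
    have hI := ideal_chart hL s ⟨W, hW⟩ ε r hε hr
    have hev : ∀ φ : Γ(dual L, W),
        incl (PicF2.zeroScheme L s) W (((toIdeal hL s).app W).hom φ) = ev φ ε * r := by
      intro φ
      rw [incl_toIdeal, hr, ev_smul_right, mul_comm]
    constructor
    · intro φ₁ φ₂ h
      have h1 : ev φ₁ ε * r = ev φ₂ ε * r := by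
        rw [← hev, ← hev]
        exact congrArg _ h
      have h2 : ev φ₁ ε = ev φ₂ ε := (mul_cancel_right_mem_nonZeroDivisors hnzd).1 h1
      have e1 := eq_ev_smul_dualGen hε le_rfl φ₁
      have e2 := eq_ev_smul_dualGen hε le_rfl φ₂
      rw [rs_self] at e1 e2
      calc φ₁ = _ := e1
        _ = _ := by rw [h2]
        _ = φ₂ := e2.symm
    · intro t
      have ht : incl (PicF2.zeroScheme L s) W t ∈ (PicF2.zeroScheme L s).ideal ⟨W, hW⟩ :=
        (mem_ideal_iff (PicF2.zeroScheme L s) ⟨W, hW⟩ _).2 ⟨t, rfl⟩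
      rw [hI, Ideal.mem_span_singleton'] at ht
      obtain ⟨a, ha⟩ := ht
      refine ⟨a • dualGen hε, incl_injective (PicF2.zeroScheme L s) W ?_⟩
      refine (hev _).trans ?_
      rw [ev_smul_left, ev_dualGen_self, mul_one]
      exact ha

/-- **The zero scheme of a section with locally regular equations** is an effective Cartier
divisor with ideal sheaf the dual module. -/
theorem main' (hL : PicF.IsInvertible L) (s : Coh.structureModule X ⟶ L)
    (hloc : ∀ x : X, ∃ U : X.affineOpens, x ∈ U.1 ∧ ∃ (ε : Γ(L, U.1)) (r : Γ(X, U.1)),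
      IsGen L U.1 ε ∧ SecTwist.val s U.1 = r • ε ∧ r ∈ nonZeroDivisors Γ(X, U.1)) :
    BlowUp.IsEffCartierIdeal (PicF2.zeroScheme L s) ∧
      Nonempty (dual L ≅ ClSub.idealMod (PicF2.zeroScheme L s)) := by
  refine ⟨fun x => ?_, ?_⟩
  · obtain ⟨U, hxU, ε, r, hε, hr, hnzd⟩ := hloc x
    exact ⟨U, hxU, r, hnzd, ideal_chart hL s U ε r hε hr⟩
  · haveI := isIso_toIdeal' hL s hloc
    exact ⟨asIso (toIdeal hL s)⟩

end Groth.Agent.Lib.Helper7.ZeroIdeal
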