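import Mathlib
import Groth.Agent.Lib.Helper7.MeroChart
import Groth.Agent.Lib.Helper7.IdealGen
import Groth.Agent.Lib.Helper7.TwistGlue
import Groth.Agent.Lib.Helper7.ZeroIdeal2
import Groth.Agent.Lib.Helper35.PbGen
import Groth.Agent.Lib.Helper35.PbAmple
import Groth.Agent.Lib.Helper35.InvPush
import Groth.Agent.Lib.Helper14.PicCalc

/-!
# Blowing up the ideal of denominators (helper7)
`b^*L ⊗ I_D ≅ I_E` on the blow-up of the ideal of denominators of a regular meromorphic section.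
-/

set_option autoImplicit false
set_option linter.style.haveILetI false
set_option linter.unusedSectionVars false
universe u

open CategoryTheory CategoryTheory.Limits AlgebraicGeometry TopologicalSpace Opposite

namespace Groth.Agent.Lib.Helper7.BlowTwist

open Mero Groth.Agent.Lib.Helper35.AbSheaf Groth.Agent.Lib.Helper35.Gen
open Groth.Agent.Lib.Helper35.Dual Groth.Agent.Lib.Helper35.PbInv
open Groth.Agent.Lib.Helper22.IdealModAff Groth.Agent.Lib.Helper82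
open Groth.Agent.Lib.Helper7.MeroChart Groth.Agent.Lib.Helper7.IdealGen
open Groth.Agent.Lib.Helper7.TwistGlue Groth.Agent.Lib.Helper14.PicCalc

variable {X X' : Scheme.{u}} {L : X.Modules}

/-- transition of pulled-back generators -/
theorem pbSec_transition (b : X' ⟶ X) {Vi Vj : X.Opens} (εi : Γ(L, Vi)) (εj : Γ(L, Vj))
    (T : X'.Opens) (hTi : T ≤ b ⁻¹ᵁ Vi) (hTj : T ≤ b ⁻¹ᵁ Vj) (hT : T ≤ b ⁻¹ᵁ (Vi ⊓ Vj))
    (a₀ : Γ(X, Vi ⊓ Vj))
    (ha₀ : rs L inf_le_right εj = a₀ • rs L inf_le_left εi) :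
    rs ((Scheme.Modules.pullback b).obj L) hTj (pbSec b L Vj εj) =
      (b.appLE (Vi ⊓ Vj) T hT).hom a₀ •
        rs ((Scheme.Modules.pullback b).obj L) hTi (pbSec b L Vi εi) := by
  have h1 : rs ((Scheme.Modules.pullback b).obj L) hTj (pbSec b L Vj εj) =
      rs ((Scheme.Modules.pullback b).obj L) hT
        (rs ((Scheme.Modules.pullback b).obj L) (b.preimage_mono inf_le_right) (pbSec b L Vj εj)) :=
    (rs_rs _ _ _ _).symm
  have h2 : rs ((Scheme.Modules.pullback b).obj L) hTi (pbSec b L Vi εi) =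
      rs ((Scheme.Modules.pullback b).obj L) hT
        (rs ((Scheme.Modules.pullback b).obj L) (b.preimage_mono inf_le_left) (pbSec b L Vi εi)) :=
    (rs_rs _ _ _ _).symm
  rw [h1, h2, pbSec_rs b L (inf_le_right : Vi ⊓ Vj ≤ Vj) εj,
    pbSec_rs b L (inf_le_left : Vi ⊓ Vj ≤ Vi) εi, ha₀, pbSec_smul, rs_smul]
  rfl

/-- local data on the blow-up -/
theorem exists_local (hL : PicF.IsInvertible L) (s : Γ(merMod L, ⊤)) (hs : IsRegularMero L s)
    (I : X.IdealSheafData) (hI : ∀ V : X.affineOpens, I.ideal V = denomIdeal L s V.1)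
    (b : X' ⟶ X) (hb : BlowUp.IsBlowUp b I) (x' : X') :
    ∃ (V : X.Opens) (ε : Γ(L, V)) (r c : Γ(X, V)) (W : X'.affineOpens)
      (hWV : W.1 ≤ b ⁻¹ᵁ V) (τ δ : Γ(X', W.1)) (g : Γ(ClSub.idealMod (I.comap b), W.1)),
      x' ∈ W.1 ∧ IsChart L s V ε r c ∧ IsGen (ClSub.idealMod (I.comap b)) W.1 g ∧
        incl (I.comap b) W.1 g = τ ∧ δ ∈ nonZeroDivisors Γ(X', W.1) ∧
        τ * (b.appLE V W.1 hWV).hom r = (b.appLE V W.1 hWV).hom c * δ := by
  obtain ⟨V, ε, r, c, hVaff, hxV, hch⟩ := exists_isChart hL s hs (b x')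
  obtain ⟨W, hxW, hWV, τ, hτ, hEW⟩ :=
    exists_affine_isPrincipalNZD_le (I.comap b) hb.1 (b ⁻¹ᵁ V) x' hxV
  obtain ⟨g, hg, hincl⟩ := exists_gen (I.comap b) W τ hτ hEW
  have hmap : (I.comap b).ideal W = (I.ideal ⟨V, hVaff⟩).map (b.appLE V W.1 hWV).hom :=
    ideal_comap_of_le b I W.1 W.2 V hVaff hWV
  have hall : ∀ t ∈ Ideal.map (b.appLE V W.1 hWV).hom (I.ideal ⟨V, hVaff⟩),
      ∃ δ, t * (b.appLE V W.1 hWV).hom r = (b.appLE V W.1 hWV).hom c * δ := by
    intro t ht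
    refine Submodule.span_induction
      (p := fun t _ => ∃ δ, t * (b.appLE V W.1 hWV).hom r = (b.appLE V W.1 hWV).hom c * δ)
      ?_ ?_ ?_ ?_ ht
    · rintro _ ⟨f, hf, rfl⟩
      have hf' : f ∈ denomIdeal L s V := by
        rw [← hI ⟨V, hVaff⟩]
        exact hf
      obtain ⟨a, ha⟩ := hch.exists_of_mem_denomIdeal hL hf'
      exact ⟨(b.appLE V W.1 hWV).hom a, by rw [← map_mul, ha, map_mul]⟩
    · exact ⟨0, by rw [zero_mul, mul_zero]⟩
    · rintro x y _ _ ⟨δ₁, h₁⟩ ⟨δ₂, h₂⟩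
      exact ⟨δ₁ + δ₂, by rw [add_mul, h₁, h₂, mul_add]⟩
    · rintro a x _ ⟨δ, h⟩
      exact ⟨a * δ, by rw [smul_eq_mul, mul_assoc, h]; ring⟩
  have hτmem : τ ∈ Ideal.map (b.appLE V W.1 hWV).hom (I.ideal ⟨V, hVaff⟩) := by
    rw [← hmap, hEW]
    exact Ideal.mem_span_singleton_self τ
  obtain ⟨δ, hδ⟩ := hall τ hτmem
  have hφr : (b.appLE V W.1 hWV).hom r ∈ nonZeroDivisors Γ(X', W.1) :=
    appLE_mem_nonZeroDivisors_of_isBlowUp I b hb r (stablyNZD_of_mem_regSub r hch.hr) W.1 hWV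
  have h1 : (b.appLE V W.1 hWV).hom c * δ ∈ nonZeroDivisors Γ(X', W.1) := by
    rw [← hδ]
    exact mul_mem hτ hφr
  exact ⟨V, ε, r, c, W, hWV, τ, δ, g, hxW, hch, hg, hincl, (mul_mem_nonZeroDivisors.1 h1).2, hδ⟩

theorem appLE_res (b : X' ⟶ X) {V V₀ : X.Opens} (hV : V₀ ≤ V) {W T : X'.Opens}
    (hWV : W ≤ b ⁻¹ᵁ V) (hTW : T ≤ W) (hT : T ≤ b ⁻¹ᵁ V₀) (a : Γ(X, V)) :
    rr X' hTW ((b.appLE V W hWV).hom a) = (b.appLE V₀ T hT).hom (rr X hV a) := by
  have h1 : b.appLE V W hWV ≫ X'.presheaf.map (homOfLE hTW).op =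
      X.presheaf.map (homOfLE hV).op ≫ b.appLE V₀ T hT := by
    rw [Scheme.Hom.appLE_map, Scheme.Hom.map_appLE]
  exact congrArg (fun φ => φ.hom a) h1

/-- **Main theorem**: on the blow-up of the ideal of denominators, `b^*L ⊗ I_D ≅ I_E`. -/
theorem main (hL : PicF.IsInvertible L) (s : Γ(merMod L, ⊤)) (hs : IsRegularMero L s)
    (I : X.IdealSheafData) (hI : ∀ V : X.affineOpens, I.ideal V = denomIdeal L s V.1)
    (b : X' ⟶ X) (hb : BlowUp.IsBlowUp b I) :
    ∃ 𝓓 : X'.IdealSheafData, BlowUp.IsEffCartierIdeal 𝓓 ∧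
      Nonempty (CohB1.tensorMod ((Scheme.Modules.pullback b).obj L) (ClSub.idealMod 𝓓) ≅
        ClSub.idealMod (I.comap b)) := by
  choose V ε r c W hWV τ δ g hxW hch hg hincl hδ heq using exists_local hL s hs I hI b hb
  have hLp : PicF.IsInvertible ((Scheme.Modules.pullback b).obj L) := isInvertible_pullback b hL
  have hNE : PicF.IsInvertible (ClSub.idealMod (I.comap b)) := isInvertible_of_isEffCartierIdeal _ hb.1
  have hgenε : ∀ i, IsGen L (V i) (ε i) := fun i W' hW' => (hch i).gen W' hW'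
  let e₁ : ∀ i : X', Γ(((Scheme.Modules.pullback b).obj L), (W i).1) := fun i => rs ((Scheme.Modules.pullback b).obj L) (hWV i) (pbSec b L (V i) (ε i))
  have he₁ : ∀ i, IsGen ((Scheme.Modules.pullback b).obj L) (W i).1 (e₁ i) := fun i =>
    (isGen_pbSec b L (V i) (ε i) (hgenε i)).mono (hWV i)
  have hcompat : ∀ i j (a β : Γ(X', (W i).1 ⊓ (W j).1)),
      rs ((Scheme.Modules.pullback b).obj L) inf_le_right (e₁ j) = a • rs ((Scheme.Modules.pullback b).obj L) inf_le_left (e₁ i) →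
      rs (ClSub.idealMod (I.comap b)) inf_le_right (g j) = β • rs (ClSub.idealMod (I.comap b)) inf_le_left (g i) →
      rr X' inf_le_right (δ j) * a = rr X' inf_le_left (δ i) * β := by
    intro i j a β ha hβ
    have hTi : (W i).1 ⊓ (W j).1 ≤ b ⁻¹ᵁ (V i) := inf_le_left.trans (hWV i)
    have hTj : (W i).1 ⊓ (W j).1 ≤ b ⁻¹ᵁ (V j) := inf_le_right.trans (hWV j)
    have hT : (W i).1 ⊓ (W j).1 ≤ b ⁻¹ᵁ (V i ⊓ V j) := fun y hy => ⟨hTi hy, hTj hy⟩
    obtain ⟨a₀, ha₀⟩ := ((hgenε i).mono (inf_le_left : V i ⊓ V j ≤ V i)).exists_eq_smul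
      (rs L inf_le_right (ε j))
    -- `a = ψ a₀`
    have htr := pbSec_transition b (ε i) (ε j) ((W i).1 ⊓ (W j).1) hTi hTj hT a₀ ha₀
    have ha' : a = (b.appLE (V i ⊓ V j) ((W i).1 ⊓ (W j).1) hT).hom a₀ := by
      apply ((he₁ i).mono (inf_le_left : (W i).1 ⊓ (W j).1 ≤ (W i).1)).smul_injective
      rw [← ha]
      simp only [e₁]
      rw [rs_rs, rs_rs]
      exact htr
    -- the chart comparison
    have hcmp : rr X inf_le_right (c j) * rr X inf_le_left (r i) =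
        rr X inf_le_left (c i) * (rr X inf_le_right (r j) * a₀) :=
      ((hch i).res (inf_le_left : V i ⊓ V j ≤ V i)).compare hL
        ((hch j).res (inf_le_right : V i ⊓ V j ≤ V j)) ha₀
    have h3 := congrArg (b.appLE (V i ⊓ V j) ((W i).1 ⊓ (W j).1) hT).hom hcmp
    rw [map_mul, map_mul, map_mul, ← ha'] at h3
    -- the local equations restricted
    have h1 := congrArg (rr X' (inf_le_left : (W i).1 ⊓ (W j).1 ≤ (W i).1)) (heq i)
    have h2 := congrArg (rr X' (inf_le_right : (W i).1 ⊓ (W j).1 ≤ (W j).1)) (heq j)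
    rw [map_mul, map_mul, appLE_res b (inf_le_left : V i ⊓ V j ≤ V i) (hWV i) inf_le_left hT,
      appLE_res b (inf_le_left : V i ⊓ V j ≤ V i) (hWV i) inf_le_left hT] at h1
    rw [map_mul, map_mul, appLE_res b (inf_le_right : V i ⊓ V j ≤ V j) (hWV j) inf_le_right hT,
      appLE_res b (inf_le_right : V i ⊓ V j ≤ V j) (hWV j) inf_le_right hT] at h2
    -- the generators of the exceptional ideal
    have h4 : rr X' (inf_le_right : (W i).1 ⊓ (W j).1 ≤ (W j).1) (τ j) =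
        β * rr X' (inf_le_left : (W i).1 ⊓ (W j).1 ≤ (W i).1) (τ i) := by
      have := congrArg (incl (I.comap b) ((W i).1 ⊓ (W j).1)) hβ
      rw [map_smul, incl_res, incl_res, hincl, hincl] at this
      exact this
    -- cancellation
    have hnzd : (b.appLE (V i ⊓ V j) ((W i).1 ⊓ (W j).1) hT).hom
        (rr X (inf_le_left : V i ⊓ V j ≤ V i) (c i) * rr X (inf_le_right : V i ⊓ V j ≤ V j) (c j)) ∈
        nonZeroDivisors Γ(X', (W i).1 ⊓ (W j).1) :=
      appLE_mem_nonZeroDivisors_of_isBlowUp I b hb _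
        (stablyNZD_of_mem_regSub _ (mul_mem (regSub_res (homOfLE inf_le_left) (hch i).hc)
          (regSub_res (homOfLE inf_le_right) (hch j).hc))) _ hT
    apply (mul_cancel_left_mem_nonZeroDivisors hnzd).1
    rw [map_mul]
    change _ = _ at h1 h2 h3
    linear_combination
      (-(b.appLE (V i ⊓ V j) ((W i).1 ⊓ (W j).1) hT).hom (rr X inf_le_left (c i)) * a) * h2 +
      (-(rr X' inf_le_right (τ j))) * h3 +
      ((b.appLE (V i ⊓ V j) ((W i).1 ⊓ (W j).1) hT).hom (rr X inf_le_right (c j)) *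
        (b.appLE (V i ⊓ V j) ((W i).1 ⊓ (W j).1) hT).hom (rr X inf_le_left (r i))) * h4 +
      ((b.appLE (V i ⊓ V j) ((W i).1 ⊓ (W j).1) hT).hom (rr X inf_le_right (c j)) * β) * h1
  obtain ⟨t, ht⟩ := exists_twist_section ((Scheme.Modules.pullback b).obj L) (ClSub.idealMod (I.comap b)) (fun i => (W i).1) (fun y => ⟨y, hxW y⟩)
    e₁ g he₁ hg δ hcompat
  have hdN : PicF.IsInvertible (dual (ClSub.idealMod (I.comap b))) := isInvertible_dual hNE
  have hM : PicF.IsInvertible (CohB1.tensorMod ((Scheme.Modules.pullback b).obj L) (dual (ClSub.idealMod (I.comap b)))) :=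
    Groth.Agent.Lib.Lead.Inv.isInvertible_tensorMod hLp hdN
  obtain ⟨hD, ⟨iso⟩⟩ := Groth.Agent.Lib.Helper7.ZeroIdeal.main' hM t (fun x' =>
    ⟨W x', hxW x', _, δ x', (he₁ x').tm (isGen_dualGen (hg x')), ht x', hδ x'⟩)
  refine ⟨_, hD, ?_⟩
  have hO : PicF.IsInvertible (Coh.structureModule X') :=
    Groth.Agent.Lib.Helper35.InvPush.isInvertible_structureModule X'
  have hID := isInvertible_of_isEffCartierIdeal _ hD
  have hdM := isInvertible_dual hM
  rw [← Pic.mk_mul_eq_iff hLp hID hNE]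
  have e1 : Pic.mk _ hID = Pic.mk _ hdM := (Pic.mk_eq_mk _ _).2 ⟨iso.symm⟩
  have i1 : Pic.mk _ hdM * (Pic.mk ((Scheme.Modules.pullback b).obj L) hLp * Pic.mk _ hdN) = 1 :=
    (Pic.mk_mul_eq_iff hdM hM hO).2 (nonempty_dual_tensor hM)
  have i2 : Pic.mk _ hdN * Pic.mk (ClSub.idealMod (I.comap b)) hNE = 1 :=
    (Pic.mk_mul_eq_iff hdN hNE hO).2 (nonempty_dual_tensor hNE)
  rw [e1, eq_inv_of_mul_eq_one_left i1, mul_inv, mul_inv_cancel_left,
    eq_inv_of_mul_eq_one_left i2, inv_inv]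

end Groth.Agent.Lib.Helper7.BlowTwist
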