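import Groth.Agent.Lib.Helper7.Contract

/-!
# helper7: contraction of a connecting chain of multiplicity `m`, length `m`, self-intersections `-2`
-/

set_option autoImplicit false
universe u

namespace Groth.Agent.Lib.Helper7.ChainCtr

open LabGraph DualGr Groth.Agent.Lib.Helper7.Contract

variable {V E : Type u} [Fintype V] [Fintype E] [DecidableEq V] [DecidableEq E]

/-- the hypotheses on the chain -/
structure ChainData (ends : E → V × V) (β : V → ℤ) (m : ℕ) (f : Fin (m + 1) → V) (e : Fin m → E) :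
    Prop where
  hβ : IsMultFn ends β
  hC : IsChain ends f e
  hconn : ∀ i, IsConnecting ends (e i)
  hβm : ∀ i, β (f i) = m
  hα : ∀ i, mfMatrix ends β (f i) (f i) = -2

variable {ends : E → V × V} {β : V → ℤ} {m : ℕ} {f : Fin (m + 1) → V} {e : Fin m → E}

/-- the chain indexed by natural numbers -/
def Fn (f : Fin (m + 1) → V) (n : ℕ) : V := f ⟨min n m, by omega⟩

omit [Fintype V] [DecidableEq V] in
theorem Fn_of_le (n : ℕ) (hn : n ≤ m) : Fn f n = f ⟨n, by omega⟩ := by
  unfold Fn
  congr 1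
  exact Fin.ext (min_eq_left hn)

omit [Fintype V] [DecidableEq V] in
theorem Fn_fin (i : Fin (m + 1)) : Fn f i.1 = f i := by
  rw [Fn_of_le i.1 (by omega)]

theorem Fn_inj (h : ChainData ends β m f e) {n k : ℕ} (hn : n ≤ m) (hk : k ≤ m)
    (heq : Fn f n = Fn f k) : n = k := by
  rw [Fn_of_le n hn, Fn_of_le k hk] at heq
  have := h.hC.1 heq
  simpa using this

theorem m_pos (h : ChainData ends β m f e) : 1 ≤ m := by
  have h1 := (h.hβ (f 0)).1
  rw [h.hβm 0] at h1
  exact_mod_cast h1

theorem ends_e (h : ChainData ends β m f e) (n : ℕ) (hn : n < m) :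
    ends (e ⟨n, hn⟩) = (Fn f n, Fn f (n + 1)) ∨ ends (e ⟨n, hn⟩) = (Fn f (n + 1), Fn f n) := by
  rw [Fn_of_le n (by omega), Fn_of_le (n + 1) (by omega)]
  exact h.hC.2.2 ⟨n, hn⟩

theorem beta_Fn (h : ChainData ends β m f e) (n : ℕ) : β (Fn f n) = m := h.hβm _

theorem diag_Fn (h : ChainData ends β m f e) (n : ℕ) :
    mfMatrix ends β (Fn f n) (Fn f n) = -2 := h.hα _

theorem rowsum (h : ChainData ends β m f e) (n : ℕ) :
    ∑ u ∈ Finset.univ.erase (Fn f n), β u * (edgeMult ends (Fn f n) u : ℤ) = 2 * m := by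
  have h1 := mfMatrix_diag_mul ends β h.hβ (Fn f n)
  rw [diag_Fn h, beta_Fn h] at h1
  linarith

omit [Fintype V] in
theorem edgeMult_pos_of_edge (ends : E → V × V) (e₀ : E) (v u : V)
    (hends : ends e₀ = (v, u) ∨ ends e₀ = (u, v)) : 1 ≤ edgeMult ends v u := by
  unfold edgeMult
  apply Finset.card_pos.mpr
  exact ⟨e₀, by simp [hends]⟩

theorem interior_nbrs (h : ChainData ends β m f e) (n : ℕ) (h1 : 1 ≤ n) (h2 : n + 1 ≤ m) (u : V)
    (hu : u ≠ Fn f n) :
    (edgeMult ends (Fn f n) u : ℤ) =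
      (if u = Fn f (n - 1) then 1 else 0) + (if u = Fn f (n + 1) then 1 else 0) := by
  have hm := m_pos h
  have hav : Fn f (n - 1) ≠ Fn f n := fun hh => by
    have := Fn_inj h (by omega) (by omega) hh; omega
  have hbv : Fn f (n + 1) ≠ Fn f n := fun hh => by
    have := Fn_inj h (by omega) (by omega) hh; omega
  have hab : Fn f (n - 1) ≠ Fn f (n + 1) := fun hh => by
    have := Fn_inj h (by omega) (by omega) hh; omega
  have hS := rowsum h n
  have ha_mem : Fn f (n - 1) ∈ Finset.univ.erase (Fn f n) := Finset.mem_erase.mpr ⟨hav, Finset.mem_univ _⟩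
  have hb_mem : Fn f (n + 1) ∈ (Finset.univ.erase (Fn f n)).erase (Fn f (n - 1)) :=
    Finset.mem_erase.mpr ⟨hab.symm, Finset.mem_erase.mpr ⟨hbv, Finset.mem_univ _⟩⟩
  rw [← Finset.add_sum_erase _ _ ha_mem, ← Finset.add_sum_erase _ _ hb_mem, beta_Fn h, beta_Fn h] at hS
  have hx : 1 ≤ edgeMult ends (Fn f n) (Fn f (n - 1)) := by
    have := ends_e h (n - 1) (by omega)
    rw [show n - 1 + 1 = n by omega] at this
    exact edgeMult_pos_of_edge ends _ _ _ this.symm
  have hy : 1 ≤ edgeMult ends (Fn f n) (Fn f (n + 1)) :=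
    edgeMult_pos_of_edge ends _ _ _ (ends_e h n (by omega))
  have hr : 0 ≤ ∑ x ∈ ((Finset.univ.erase (Fn f n)).erase (Fn f (n - 1))).erase (Fn f (n + 1)),
      β x * (edgeMult ends (Fn f n) x : ℤ) :=
    Finset.sum_nonneg fun x _ => mul_nonneg (le_of_lt (h.hβ x).1) (Int.natCast_nonneg _)
  have hx' : (1 : ℤ) ≤ (edgeMult ends (Fn f n) (Fn f (n - 1)) : ℤ) := by exact_mod_cast hx
  have hy' : (1 : ℤ) ≤ (edgeMult ends (Fn f n) (Fn f (n + 1)) : ℤ) := by exact_mod_cast hy
  have hm' : (1 : ℤ) ≤ (m : ℤ) := by exact_mod_cast hm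
  have hxy : (edgeMult ends (Fn f n) (Fn f (n - 1)) : ℤ) + (edgeMult ends (Fn f n) (Fn f (n + 1)) : ℤ) = 2 := by
    nlinarith
  have hr0 : ∑ x ∈ ((Finset.univ.erase (Fn f n)).erase (Fn f (n - 1))).erase (Fn f (n + 1)),
      β x * (edgeMult ends (Fn f n) x : ℤ) = 0 := by nlinarith
  by_cases hua : u = Fn f (n - 1)
  · rw [if_pos hua, if_neg (by rw [hua]; exact hab), hua]; omega
  · by_cases hub : u = Fn f (n + 1)
    · rw [if_neg hua, if_pos hub, hub]; omega
    · rw [if_neg hua, if_neg hub]
      have hmem : u ∈ ((Finset.univ.erase (Fn f n)).erase (Fn f (n - 1))).erase (Fn f (n + 1)) := by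
        simp [hu, hua, hub]
      have := (Finset.sum_eq_zero_iff_of_nonneg (fun x _ =>
        mul_nonneg (le_of_lt (h.hβ x).1) (Int.natCast_nonneg _))).mp hr0 u hmem
      rcases mul_eq_zero.mp this with h3 | h3
      · have := (h.hβ u).1; omega
      · simpa using h3

theorem interior_entry (h : ChainData ends β m f e) (n : ℕ) (h1 : 1 ≤ n) (h2 : n + 1 ≤ m) (u : V) :
    mfMatrix ends β (Fn f n) u =
      (if u = Fn f (n - 1) then 1 else 0) + (if u = Fn f (n + 1) then 1 else 0) -
        2 * (if u = Fn f n then 1 else 0) := by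
  have hav : Fn f (n - 1) ≠ Fn f n := fun hh => by
    have := Fn_inj h (by omega) (by omega) hh; omega
  have hbv : Fn f (n + 1) ≠ Fn f n := fun hh => by
    have := Fn_inj h (by omega) (by omega) hh; omega
  by_cases hu : u = Fn f n
  · rw [hu, diag_Fn h, if_neg hav.symm, if_neg hbv.symm, if_pos rfl]; ring
  · rw [if_neg hu, ← interior_nbrs h n h1 h2 u hu]
    unfold mfMatrix
    rw [if_neg (Ne.symm hu)]; ring

theorem interior_row (h : ChainData ends β m f e) (n : ℕ) (h1 : 1 ≤ n) (h2 : n + 1 ≤ m) (z : V → ℤ) :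
    Matrix.mulVec (mfMatrix ends β) z (Fn f n) =
      z (Fn f (n - 1)) - 2 * z (Fn f n) + z (Fn f (n + 1)) := by
  have hrow : Matrix.mulVec (mfMatrix ends β) z (Fn f n) =
      ∑ u : V, mfMatrix ends β (Fn f n) u * z u := rfl
  rw [hrow, Finset.sum_congr rfl (fun u _ => by rw [interior_entry h n h1 h2 u])]
  simp only [sub_mul, add_mul, Finset.sum_sub_distrib, Finset.sum_add_distrib, ite_mul, one_mul,
    zero_mul, Finset.sum_ite_eq', Finset.mem_univ, if_true, mul_assoc, ← Finset.mul_sum]
  ring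

theorem mfMatrix_symm' (ends : E → V × V) (β : V → ℤ) (v w : V) :
    mfMatrix ends β v w = mfMatrix ends β w v := by
  by_cases h : v = w
  · rw [h]
  · exact mfMatrix_symm ends β v w h

theorem interior_col (h : ChainData ends β m f e) (n : ℕ) (h1 : 1 ≤ n) (h2 : n + 1 ≤ m) :
    Matrix.mulVec (mfMatrix ends β) (Pi.single (Fn f n) 1) =
      Pi.single (Fn f (n - 1)) 1 - 2 • Pi.single (Fn f n) 1 + Pi.single (Fn f (n + 1)) 1 := by
  funext u
  rw [Matrix.mulVec_single_one]
  simp only [Matrix.col_apply, Pi.add_apply, Pi.sub_apply, Pi.smul_apply, Pi.single_apply,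
    smul_eq_mul]
  rw [mfMatrix_symm', interior_entry h n h1 h2 u]
  ring

/-- the bridge set of the last edge of the chain -/
theorem exists_bridge_set (h : ChainData ends β m f e) :
    ∃ R : Finset V, Fn f m ∈ R ∧ (∀ n, n < m → Fn f n ∉ R) ∧
      ∀ e' : E, ((ends e').1 ∈ R ↔ (ends e').2 ∉ R) ↔ e' = e ⟨m - 1, by have := m_pos h; omega⟩ := by
  have hm := m_pos h
  obtain ⟨S, hS⟩ := h.hconn ⟨m - 1, by omega⟩
  -- choose the side containing F m
  obtain ⟨R, hRm, hR⟩ : ∃ R : Finset V, Fn f m ∈ R ∧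
      ∀ e' : E, ((ends e').1 ∈ R ↔ (ends e').2 ∉ R) ↔ e' = e ⟨m - 1, by omega⟩ := by
    by_cases hmS : Fn f m ∈ S
    · exact ⟨S, hmS, hS⟩
    · refine ⟨Sᶜ, Finset.mem_compl.mpr hmS, fun e' => ?_⟩
      rw [← hS e']
      simp only [Finset.mem_compl]
      tauto
  refine ⟨R, hRm, ?_, hR⟩
  have hlast := ends_e h (m - 1) (by omega)
  rw [show m - 1 + 1 = m by omega] at hlast
  have hcross := (hR (e ⟨m - 1, by omega⟩)).mpr rfl
  have h0 : Fn f (m - 1) ∉ R := by
    rcases hlast with hl | hl
    · rw [hl] at hcross; simp only at hcross; intro hh; exact (hcross.mp hh) hRm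
    · rw [hl] at hcross; simp only at hcross; exact hcross.mp hRm
  have key : ∀ k, k < m → Fn f (m - 1 - k) ∉ R := by
    intro k
    induction k with
    | zero => intro _; simpa using h0
    | succ k ih =>
      intro hk
      have ih' := ih (by omega)
      have hedge := ends_e h (m - 1 - (k + 1)) (by omega)
      rw [show m - 1 - (k + 1) + 1 = m - 1 - k by omega] at hedge
      have hne : e ⟨m - 1 - (k + 1), by omega⟩ ≠ e ⟨m - 1, by omega⟩ := by
        intro hh
        have := h.hC.2.1 hh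
        simp only [Fin.mk.injEq] at this
        omega
      have hnc := (not_congr (hR (e ⟨m - 1 - (k + 1), by omega⟩))).mpr hne
      rcases hedge with hl | hl
      · rw [hl] at hnc; simp only at hnc; tauto
      · rw [hl] at hnc; simp only at hnc; tauto
  intro n hn
  have := key (m - 1 - n) (by omega)
  rwa [show m - 1 - (m - 1 - n) = n by omega] at this

/-- edges from the last vertex of the chain to the other side of the bridge -/
theorem edgeMult_last (h : ChainData ends β m f e) (R : Finset V) (hRm : Fn f m ∈ R)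
    (hR : ∀ e' : E, ((ends e').1 ∈ R ↔ (ends e').2 ∉ R) ↔
      e' = e ⟨m - 1, by have := m_pos h; omega⟩) (u : V) (hu : u ∉ R) :
    edgeMult ends (Fn f m) u = if u = Fn f (m - 1) then 1 else 0 := by
  have hm := m_pos h
  have hlast := ends_e h (m - 1) (by omega)
  rw [show m - 1 + 1 = m by omega] at hlast
  have hcross : ∀ e' : E, (ends e' = (Fn f m, u) ∨ ends e' = (u, Fn f m)) →
      e' = e ⟨m - 1, by omega⟩ := by
    intro e' he'
    apply (hR e').mp
    rcases he' with hl | hl
    · rw [hl]; simp only; tauto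
    · rw [hl]; simp only; tauto
  unfold edgeMult
  by_cases hu1 : u = Fn f (m - 1)
  · rw [if_pos hu1]
    apply Finset.card_eq_one.mpr
    refine ⟨e ⟨m - 1, by omega⟩, ?_⟩
    ext e'
    simp only [Finset.mem_filter, Finset.mem_univ, true_and, Finset.mem_singleton]
    constructor
    · exact hcross e'
    · intro he'
      rw [he', hu1]
      tauto
  · rw [if_neg hu1]
    apply Finset.card_eq_zero.mpr
    apply Finset.filter_eq_empty_iff.mpr
    intro e' _ he'
    have := hcross e' he'
    rw [this] at he'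
    have hmm : Fn f (m - 1) ≠ Fn f m := fun hh => by
      have := Fn_inj h (by omega) (by omega) hh; omega
    rcases hlast with hl | hl <;> rcases he' with he' | he' <;> rw [hl] at he' <;>
      simp only [Prod.mk.injEq] at he'
    · exact hmm he'.1
    · exact hu1 he'.1.symm
    · exact hu1 he'.2.symm
    · exact hmm he'.2

/-- (F3): `α (β 1_R) = m (s_{m-1} - s_m)` -/
theorem alpha_beta_R (h : ChainData ends β m f e) (R : Finset V) (hRm : Fn f m ∈ R)
    (hRn : ∀ n, n < m → Fn f n ∉ R)
    (hR : ∀ e' : E, ((ends e').1 ∈ R ↔ (ends e').2 ∉ R) ↔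
      e' = e ⟨m - 1, by have := m_pos h; omega⟩) :
    Matrix.mulVec (mfMatrix ends β) (fun u => if u ∈ R then β u else 0) =
      (m : ℤ) • (Pi.single (Fn f (m - 1)) 1 - Pi.single (Fn f m) 1) := by
  have hm := m_pos h
  have hlast := ends_e h (m - 1) (by omega)
  rw [show m - 1 + 1 = m by omega] at hlast
  have hmm : Fn f (m - 1) ≠ Fn f m := fun hh => by
    have := Fn_inj h (by omega) (by omega) hh; omega
  have hR1 : Fn f (m - 1) ∉ R := hRn (m - 1) (by omega)
  funext v
  have hpos : β v ≠ 0 := ne_of_gt (h.hβ v).1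
  apply mul_left_cancel₀ hpos
  rw [mul_mulVec_edges ends β h.hβ]
  rw [Finset.sum_eq_single (e ⟨m - 1, by omega⟩)]
  · simp only [Pi.smul_apply, Pi.sub_apply, Pi.single_apply, smul_eq_mul]
    rcases hlast with hl | hl
    · rw [hl]
      simp only [hRm, hR1, if_true, if_false, beta_Fn h]
      by_cases h1 : Fn f (m - 1) = v
      · have h2 : Fn f m ≠ v := fun hh => hmm (h1.trans hh.symm)
        rw [if_pos h1, if_neg h2, if_pos h1.symm, if_neg (Ne.symm h2), ← h1, beta_Fn h]; ring
      · by_cases h2 : Fn f m = v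
        · rw [if_neg h1, if_pos h2, if_neg (Ne.symm h1), if_pos h2.symm, ← h2, beta_Fn h]; ring
        · rw [if_neg h1, if_neg h2, if_neg (Ne.symm h1), if_neg (Ne.symm h2)]; ring
    · rw [hl]
      simp only [hRm, hR1, if_true, if_false, beta_Fn h]
      by_cases h1 : Fn f (m - 1) = v
      · have h2 : Fn f m ≠ v := fun hh => hmm (h1.trans hh.symm)
        rw [if_pos h1, if_neg h2, if_pos h1.symm, if_neg (Ne.symm h2), ← h1, beta_Fn h]; ring
      · by_cases h2 : Fn f m = v
        · rw [if_neg h1, if_pos h2, if_neg (Ne.symm h1), if_pos h2.symm, ← h2, beta_Fn h]; ring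
        · rw [if_neg h1, if_neg h2, if_neg (Ne.symm h1), if_neg (Ne.symm h2)]; ring
  · intro e' _ hne
    have hnc := (not_congr (hR e')).mpr hne
    by_cases a1 : (ends e').1 ∈ R <;> by_cases a2 : (ends e').2 ∈ R
    · simp only [a1, a2, if_true]; split_ifs <;> ring
    · exact absurd (by tauto) hnc
    · exact absurd (by tauto) hnc
    · simp only [a1, a2, if_false]; split_ifs <;> ring
  · intro hh; exact absurd (Finset.mem_univ _) hh

/-- telescoping: `Σ_{n<k} n α(s_n) = s_0 - k s_{k-1} + (k-1) s_k` -/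
theorem alpha_c1 (h : ChainData ends β m f e) (k : ℕ) (hk1 : 1 ≤ k) (hk : k ≤ m) :
    ∑ n ∈ Finset.range k, (n : ℤ) • Matrix.mulVec (mfMatrix ends β) (Pi.single (Fn f n) 1) =
      Pi.single (Fn f 0) 1 - (k : ℤ) • Pi.single (Fn f (k - 1)) 1 +
        ((k : ℤ) - 1) • Pi.single (Fn f k) 1 := by
  induction k, hk1 using Nat.le_induction with
  | base => simp
  | succ k hk1 ih =>
    rw [Finset.sum_range_succ, ih (by omega), interior_col h k hk1 hk]
    simp only [Nat.add_sub_cancel]
    funext u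
    simp only [Pi.add_apply, Pi.sub_apply, Pi.smul_apply, smul_eq_mul]
    push_cast
    ring

/-- the vector `c₀` with `α c₀ = s_0 - s_m` and `c₀ (F n) = n` -/
theorem exists_c0 (h : ChainData ends β m f e) :
    ∃ c₀ : V → ℤ, Matrix.mulVec (mfMatrix ends β) c₀ =
        Pi.single (Fn f 0) 1 - Pi.single (Fn f m) 1 ∧ ∀ n, n ≤ m → c₀ (Fn f n) = n := by
  have hm := m_pos h
  obtain ⟨R, hRm, hRn, hR⟩ := exists_bridge_set h
  refine ⟨(fun u => if u ∈ R then β u else 0) +
    ∑ n ∈ Finset.range m, (n : ℤ) • Pi.single (Fn f n) 1, ?_, ?_⟩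
  · rw [Matrix.mulVec_add, alpha_beta_R h R hRm hRn hR]
    have : Matrix.mulVec (mfMatrix ends β) (∑ n ∈ Finset.range m, (n : ℤ) • Pi.single (Fn f n) 1) =
        ∑ n ∈ Finset.range m, (n : ℤ) • Matrix.mulVec (mfMatrix ends β) (Pi.single (Fn f n) 1) := by
      rw [← Matrix.mulVecLin_apply, map_sum]
      refine Finset.sum_congr rfl fun n _ => ?_
      rw [map_smul, Matrix.mulVecLin_apply]
    rw [this, alpha_c1 h m hm le_rfl]
    funext u
    simp only [Pi.add_apply, Pi.sub_apply, Pi.smul_apply, smul_eq_mul]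
    ring
  · intro n hn
    simp only [Pi.add_apply, Finset.sum_apply, Pi.smul_apply, Pi.single_apply, smul_eq_mul]
    by_cases hnm : n = m
    · subst hnm
      rw [if_pos hRm, beta_Fn h]
      have : ∑ k ∈ Finset.range n, (k : ℤ) * (if Fn f n = Fn f k then 1 else 0) = 0 := by
        apply Finset.sum_eq_zero
        intro k hk
        have hk' : k < n := Finset.mem_range.mp hk
        rw [if_neg (fun hh => by have := Fn_inj h le_rfl (by omega) hh; omega)]
        ring
      rw [this]; ring
    · have hn' : n < m := by omega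
      rw [if_neg (hRn n hn'), zero_add, Finset.sum_eq_single n]
      · simp
      · intro k hk hkn
        have hk' : k < m := Finset.mem_range.mp hk
        rw [if_neg (fun hh => hkn (Fn_inj h hn (by omega) hh).symm)]
        ring
      · intro hh; exact absurd (Finset.mem_range.mpr hn') hh

section Lift

variable (ends : E → V × V) (D : Finset E) (v₀ : V)

/-- `liftAt` as a linear map -/
noncomputable def liftLin : (CtrVert ends D → ℤ) →ₗ[ℤ] (V → ℤ) where
  toFun := liftAt ends D v₀
  map_add' x y := by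
    funext v
    simp only [liftAt, Pi.add_apply]
    split_ifs <;> simp
  map_smul' c x := by
    funext v
    simp only [liftAt, Pi.smul_apply, smul_eq_mul, RingHom.id_apply]
    split_ifs <;> simp

theorem liftLin_apply (x : CtrVert ends D → ℤ) : liftLin ends D v₀ x = liftAt ends D v₀ x := rfl

theorem pushV_liftAt
    (hsing : ∀ v w : V, ctrMk ends D v = ctrMk ends D w → v = w ∨ ctrMk ends D v = ctrMk ends D v₀)
    (x : CtrVert ends D → ℤ) : pushV ends D (liftAt ends D v₀ x) = x := by
  funext c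
  obtain ⟨v₁, rfl⟩ := ctrMk_surjective ends D c
  simp only [pushV, LinearMap.coe_mk, AddHom.coe_mk, liftAt]
  by_cases hc : ctrMk ends D v₁ = ctrMk ends D v₀
  · rw [Finset.sum_eq_single v₀]
    · simp [hc]
    · intro b hb hb0
      have hb' : ctrMk ends D b = ctrMk ends D v₁ := (Finset.mem_filter.mp hb).2
      rw [if_pos ⟨hb'.trans hc, hb0⟩]
    · intro hh
      exact (hh (Finset.mem_filter.mpr ⟨Finset.mem_univ _, hc.symm⟩)).elim
  · rw [Finset.sum_eq_single v₁]
    · rw [if_neg (fun hh => hc hh.1)]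
    · intro b hb hb1
      have hb' : ctrMk ends D b = ctrMk ends D v₁ := (Finset.mem_filter.mp hb).2
      rcases hsing b v₁ hb' with h1 | h1
      · exact absurd h1 hb1
      · exact absurd (hb'.symm.trans h1) hc
    · intro hh
      exact (hh (Finset.mem_filter.mpr ⟨Finset.mem_univ _, rfl⟩)).elim

theorem liftAt_pushV
    (hsing : ∀ v w : V, ctrMk ends D v = ctrMk ends D w → v = w ∨ ctrMk ends D v = ctrMk ends D v₀)
    (ψ : V → ℤ) (hψ : ∀ v, ctrMk ends D v = ctrMk ends D v₀ → v ≠ v₀ → ψ v = 0) :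
    liftAt ends D v₀ (pushV ends D ψ) = ψ := by
  funext v
  simp only [liftAt]
  by_cases hc : ctrMk ends D v = ctrMk ends D v₀ ∧ v ≠ v₀
  · rw [if_pos hc, hψ v hc.1 hc.2]
  · rw [if_neg hc]
    simp only [pushV, LinearMap.coe_mk, AddHom.coe_mk]
    rw [Finset.sum_eq_single v]
    · intro b hb hbv
      have hb' : ctrMk ends D b = ctrMk ends D v := (Finset.mem_filter.mp hb).2
      rcases hsing b v hb' with h1 | h1
      · exact absurd h1 hbv
      · have hv0 : v = v₀ := by
          by_contra hne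
          exact hc ⟨hb'.symm.trans h1, hne⟩
        exact hψ b h1 (fun hh => hbv (hh.trans hv0.symm))
    · intro hh
      exact (hh (Finset.mem_filter.mpr ⟨Finset.mem_univ _, rfl⟩)).elim

theorem betaHom_pushV (β : V → ℤ)
    (hconst : ∀ v w : V, ctrMk ends D v = ctrMk ends D w → β v = β w) (φ : V → ℤ) :
    betaHom (ctrFn ends D β) (pushV ends D φ) = betaHom β φ := by
  unfold betaHom
  rw [Fintype.linearCombination_apply, Fintype.linearCombination_apply]
  simp only [smul_eq_mul, pushV, LinearMap.coe_mk, AddHom.coe_mk]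
  rw [← Finset.sum_fiberwise Finset.univ (ctrMk ends D) (fun v => φ v * β v)]
  refine Finset.sum_congr rfl fun c _ => ?_
  rw [Finset.sum_mul]
  refine Finset.sum_congr rfl fun v hv => ?_
  have hv' : ctrMk ends D v = c := (Finset.mem_filter.mp hv).2
  rw [← hv', ctrFn_mk ends D β hconst]

theorem pushV_single_sub (v w : V) (hvw : ctrMk ends D v = ctrMk ends D w) :
    pushV ends D (Pi.single v 1 - Pi.single w 1) = 0 := by
  funext c
  simp only [pushV, LinearMap.coe_mk, AddHom.coe_mk, Pi.sub_apply, Pi.single_apply, Pi.zero_apply]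
  rw [Finset.sum_sub_distrib, Finset.sum_ite_eq', Finset.sum_ite_eq']
  simp only [Finset.mem_filter, Finset.mem_univ, true_and, hvw]
  ring

end Lift

section Assembly

theorem hconst' (h : ChainData ends β m f e) (v w : V)
    (hvw : ctrMk ends (Finset.univ.image e) v = ctrMk ends (Finset.univ.image e) w) : β v = β w :=
  chain_const ends β f e h.hC (fun i j => by rw [h.hβm, h.hβm]) v w hvw

theorem hsing' (h : ChainData ends β m f e) (v w : V)
    (hvw : ctrMk ends (Finset.univ.image e) v = ctrMk ends (Finset.univ.image e) w) :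
    v = w ∨ ctrMk ends (Finset.univ.image e) v = ctrMk ends (Finset.univ.image e) (f 0) := by
  rcases chain_class ends f e h.hC v w hvw with h1 | ⟨⟨i, rfl⟩, _⟩
  · exact Or.inl h1
  · exact Or.inr (chain_mk_eq ends f e h.hC i 0)

theorem Fn_zero : Fn f 0 = f 0 := Fn_fin (f := f) 0

theorem mk_Fn (h : ChainData ends β m f e) (n k : ℕ) :
    ctrMk ends (Finset.univ.image e) (Fn f n) = ctrMk ends (Finset.univ.image e) (Fn f k) :=
  chain_mk_eq ends f e h.hC _ _

theorem mem_class (h : ChainData ends β m f e) (v : V)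
    (hv : ctrMk ends (Finset.univ.image e) v = ctrMk ends (Finset.univ.image e) (f 0))
    (hv0 : v ≠ f 0) : ∃ n, 1 ≤ n ∧ n ≤ m ∧ v = Fn f n := by
  rcases chain_class ends f e h.hC v (f 0) hv with h1 | ⟨⟨i, rfl⟩, _⟩
  · exact absurd h1 hv0
  · refine ⟨i.1, ?_, by omega, (Fn_fin i).symm⟩
    by_contra hlt
    have : i = 0 := Fin.ext (by change i.1 = 0; omega)
    exact hv0 (by rw [this])

/-- entries of the column of `F 0` along the chain -/
theorem col_zero (h : ChainData ends β m f e) (n : ℕ) (h1 : 1 ≤ n) (hn : n ≤ m) :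
    mfMatrix ends β (Fn f n) (Fn f 0) = if n = 1 then 1 else 0 := by
  have hm := m_pos h
  by_cases hnm : n = m
  · subst hnm
    obtain ⟨R, hRm, hRn, hR⟩ := exists_bridge_set h
    have hne : Fn f n ≠ Fn f 0 := fun hh => by
      have := Fn_inj h le_rfl (by omega) hh; omega
    unfold mfMatrix
    rw [if_neg hne, edgeMult_last h R hRm hR (Fn f 0) (hRn 0 (by omega))]
    by_cases hn1 : n = 1
    · subst hn1; simp
    · rw [if_neg hn1, if_neg (fun hh => by
        have := Fn_inj h (by omega) (by omega) hh; omega)]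
      simp
  · rw [interior_entry h n h1 (by omega)]
    by_cases hn1 : n = 1
    · subst hn1
      rw [if_pos rfl, if_neg (fun hh => by have := Fn_inj h (by omega) (by omega) hh; omega),
        if_neg (fun hh => by have := Fn_inj h (by omega) (by omega) hh; omega)]
      simp
    · rw [if_neg (fun hh => by have := Fn_inj h (by omega) (by omega) hh; omega),
        if_neg (fun hh => by have := Fn_inj h (by omega) (by omega) hh; omega),
        if_neg (fun hh => by have := Fn_inj h (by omega) (by omega) hh; omega), if_neg hn1]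
      simp

/-- every vector is, modulo the image of `α`, supported off `F 1, …, F m` -/
theorem exists_decomp (h : ChainData ends β m f e) (y : V → ℤ) :
    ∃ z k : V → ℤ, y = Matrix.mulVec (mfMatrix ends β) z + k ∧
      ∀ n, 1 ≤ n → n ≤ m → k (Fn f n) = 0 := by
  have hm := m_pos h
  let I : Submodule ℤ (V → ℤ) := LinearMap.range (Matrix.mulVecLin (mfMatrix ends β))
  let K : Submodule ℤ (V → ℤ) :=
    { carrier := {k | ∀ n, 1 ≤ n → n ≤ m → k (Fn f n) = 0}
      add_mem' := by
        intro a b ha hb n h1 h2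
        simp only [Pi.add_apply, ha n h1 h2, hb n h1 h2, add_zero]
      zero_mem' := by intro n _ _; rfl
      smul_mem' := by
        intro c a ha n h1 h2
        simp only [Pi.smul_apply, ha n h1 h2, smul_zero] }
  have hI : ∀ z : V → ℤ, Matrix.mulVec (mfMatrix ends β) z ∈ I ⊔ K := fun z =>
    Submodule.mem_sup_left ⟨z, rfl⟩
  have hs0 : (Pi.single (Fn f 0) 1 : V → ℤ) ∈ I ⊔ K := by
    apply Submodule.mem_sup_right
    intro n h1 h2
    rw [Pi.single_apply, if_neg (fun hh => by have := Fn_inj h h2 (by omega) hh; omega)]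
  have hs1 : (Pi.single (Fn f 1) 1 : V → ℤ) ∈ I ⊔ K := by
    have hk : (Matrix.mulVec (mfMatrix ends β) (Pi.single (Fn f 0) 1) - Pi.single (Fn f 1) 1 : V → ℤ)
        ∈ I ⊔ K := by
      apply Submodule.mem_sup_right
      intro n h1 h2
      rw [Matrix.mulVec_single_one]
      simp only [Pi.sub_apply, Matrix.col_apply, Pi.single_apply]
      rw [col_zero h n h1 h2]
      by_cases hn1 : n = 1
      · subst hn1; simp
      · rw [if_neg hn1, if_neg (fun hh => hn1 (Fn_inj h h2 (by omega) hh))]; simp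
    have := Submodule.sub_mem _ (hI (Pi.single (Fn f 0) 1)) hk
    simpa using this
  have key : ∀ n, n + 1 ≤ m → (Pi.single (Fn f n) 1 : V → ℤ) ∈ I ⊔ K ∧
      (Pi.single (Fn f (n + 1)) 1 : V → ℤ) ∈ I ⊔ K := by
    intro n
    induction n with
    | zero => intro _; exact ⟨hs0, hs1⟩
    | succ n ih =>
      intro hn
      obtain ⟨ih1, ih2⟩ := ih (by omega)
      refine ⟨ih2, ?_⟩
      have hcol := interior_col h (n + 1) (by omega) hn
      simp only [Nat.add_sub_cancel] at hcol
      have h3 : (Pi.single (Fn f (n + 1 + 1)) 1 : V → ℤ) =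
          Matrix.mulVec (mfMatrix ends β) (Pi.single (Fn f (n + 1)) 1) - Pi.single (Fn f n) 1 +
            2 • Pi.single (Fn f (n + 1)) 1 := by
        rw [hcol]; abel
      rw [h3]
      exact Submodule.add_mem _ (Submodule.sub_mem _ (hI _) ih1) (Submodule.smul_mem _ _ ih2)
  have hs : ∀ n, n ≤ m → (Pi.single (Fn f n) 1 : V → ℤ) ∈ I ⊔ K := by
    intro n hn
    rcases Nat.eq_zero_or_pos n with h0 | h0
    · rw [h0]; exact hs0
    · have := (key (n - 1) (by omega)).2
      rwa [show n - 1 + 1 = n by omega] at this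
  have hy : y ∈ I ⊔ K := by
    have h1 : y = (y - ∑ n ∈ Finset.range (m + 1), y (Fn f n) • (Pi.single (Fn f n) 1 : V → ℤ)) +
        ∑ n ∈ Finset.range (m + 1), y (Fn f n) • (Pi.single (Fn f n) 1 : V → ℤ) := by abel
    rw [h1]
    refine Submodule.add_mem _ (Submodule.mem_sup_right ?_) (Submodule.sum_mem _ fun n hn =>
      Submodule.smul_mem _ _ (hs n (by have := Finset.mem_range.mp hn; omega)))
    intro j hj1 hj2
    simp only [Pi.sub_apply, Finset.sum_apply, Pi.smul_apply, Pi.single_apply, smul_eq_mul]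
    rw [Finset.sum_eq_single j]
    · simp
    · intro b hb hbj
      have hb' : b < m + 1 := Finset.mem_range.mp hb
      rw [if_neg (fun hh => hbj (Fn_inj h hj2 (by omega) hh).symm)]; ring
    · intro hh; exact (hh (Finset.mem_range.mpr (by omega))).elim
  obtain ⟨a, ha, k, hk, hak⟩ := Submodule.mem_sup.mp hy
  obtain ⟨z, rfl⟩ := ha
  exact ⟨z, k, hak.symm, hk⟩

/-- the lift of the image of `α'` lies in the image of `α` -/
theorem liftAt_ctr_mulVec (h : ChainData ends β m f e)
    (y : CtrVert ends (Finset.univ.image e) → ℤ) :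
    ∃ z : V → ℤ, liftAt ends (Finset.univ.image e) (f 0)
      (Matrix.mulVec (mfMatrix (ctrEnds ends (Finset.univ.image e))
        (ctrFn ends (Finset.univ.image e) β)) y) = Matrix.mulVec (mfMatrix ends β) z := by
  have hm := m_pos h
  obtain ⟨c₀, hc₀, _⟩ := exists_c0 h
  rw [ctr_mulVec ends (Finset.univ.image e) β h.hβ (hconst' h) y]
  set yπ : V → ℤ := fun v => y (ctrMk ends (Finset.univ.image e) v) with hyπ
  set Ψ := Matrix.mulVec (mfMatrix ends β) yπ with hΨ
  set δ := Ψ (Fn f m) with hδ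
  refine ⟨yπ + δ • c₀, ?_⟩
  have hΨ' : Matrix.mulVec (mfMatrix ends β) (yπ + δ • c₀) =
      Ψ + δ • (Pi.single (Fn f 0) 1 - Pi.single (Fn f m) 1) := by
    rw [Matrix.mulVec_add, Matrix.mulVec_smul, hc₀]
  rw [hΨ']
  have hpush : pushV ends (Finset.univ.image e) Ψ =
      pushV ends (Finset.univ.image e) (Ψ + δ • (Pi.single (Fn f 0) 1 - Pi.single (Fn f m) 1)) := by
    rw [map_add, map_smul, pushV_single_sub ends _ _ _ (mk_Fn h 0 m), smul_zero, add_zero]
  rw [hpush]
  apply liftAt_pushV ends _ (f 0) (hsing' h)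
  intro v hv hv0
  obtain ⟨n, h1, h2, rfl⟩ := mem_class h v hv hv0
  simp only [Pi.add_apply, Pi.smul_apply, Pi.sub_apply, Pi.single_apply, smul_eq_mul]
  have hn0 : Fn f n ≠ Fn f 0 := fun hh => by
    have := Fn_inj h h2 (by omega) hh; omega
  by_cases hnm : n = m
  · subst hnm
    rw [if_neg hn0, if_pos rfl]; ring
  · rw [if_neg hn0, if_neg (fun hh => hnm (Fn_inj h h2 le_rfl hh))]
    rw [hΨ, interior_row h n h1 (by omega) yπ]
    simp only [hyπ, mk_Fn h (n - 1) n, mk_Fn h (n + 1) n]
    ring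

/-- injectivity: if the lift of `x` is in the image of `α` then `x` is in the image of `α'` -/
theorem inj_key (h : ChainData ends β m f e) (x : CtrVert ends (Finset.univ.image e) → ℤ)
    (z : V → ℤ)
    (hx : liftAt ends (Finset.univ.image e) (f 0) x = Matrix.mulVec (mfMatrix ends β) z) :
    ∃ y' : CtrVert ends (Finset.univ.image e) → ℤ,
      Matrix.mulVec (mfMatrix (ctrEnds ends (Finset.univ.image e))
        (ctrFn ends (Finset.univ.image e) β)) y' = x := by
  have hm := m_pos h
  obtain ⟨c₀, hc₀, hc₀n⟩ := exists_c0 h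
  have hz0 : ∀ n, 1 ≤ n → n ≤ m → Matrix.mulVec (mfMatrix ends β) z (Fn f n) = 0 := by
    intro n h1 h2
    rw [← hx]
    simp only [liftAt]
    have hn0 : Fn f n ≠ f 0 := fun hh => by
      rw [← Fn_zero (f := f)] at hh
      have := Fn_inj h h2 (by omega) hh; omega
    rw [if_pos ⟨by rw [← Fn_zero (f := f)]; exact mk_Fn h n 0, hn0⟩]
  set δ := z (Fn f 1) - z (Fn f 0) with hδ
  have harith : ∀ n, (n ≤ m → z (Fn f n) = z (Fn f 0) + n * δ) ∧
      (n + 1 ≤ m → z (Fn f (n + 1)) = z (Fn f 0) + (n + 1 : ℕ) * δ) := by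
    intro n
    induction n with
    | zero =>
      refine ⟨fun _ => by simp, fun _ => ?_⟩
      rw [hδ]; push_cast; ring
    | succ n ih =>
      refine ⟨ih.2, fun hn => ?_⟩
      have h1 := ih.1 (by omega)
      have h2 := ih.2 (by omega)
      have h3 := hz0 (n + 1) (by omega) (by omega)
      rw [interior_row h (n + 1) (by omega) hn z] at h3
      simp only [Nat.add_sub_cancel] at h3
      push_cast at h2 ⊢
      linarith
  set z' : V → ℤ := z - δ • c₀ with hz'
  have hz'F : ∀ n, n ≤ m → z' (Fn f n) = z (Fn f 0) := by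
    intro n hn
    simp only [hz', Pi.sub_apply, Pi.smul_apply, smul_eq_mul, hc₀n n hn, (harith n).1 hn]
    ring
  have hz'const : ∀ v w : V,
      ctrMk ends (Finset.univ.image e) v = ctrMk ends (Finset.univ.image e) w → z' v = z' w := by
    intro v w hvw
    rcases chain_class ends f e h.hC v w hvw with h1 | ⟨⟨i, rfl⟩, ⟨j, rfl⟩⟩
    · rw [h1]
    · rw [← Fn_fin (f := f) i, ← Fn_fin (f := f) j, hz'F _ (by omega), hz'F _ (by omega)]
  refine ⟨fun c => z' (Quotient.out (s := ctrSetoid ends (Finset.univ.image e)) c), ?_⟩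
  rw [ctr_mulVec ends (Finset.univ.image e) β h.hβ (hconst' h)]
  have hpull : (fun v => (fun c => z' (Quotient.out (s := ctrSetoid ends (Finset.univ.image e)) c))
      (ctrMk ends (Finset.univ.image e) v)) = z' := by
    funext v
    exact hz'const _ _ (Quotient.out_eq (s := ctrSetoid ends (Finset.univ.image e))
      (ctrMk ends (Finset.univ.image e) v))
  rw [hpull]
  have hαz' : Matrix.mulVec (mfMatrix ends β) z' = Matrix.mulVec (mfMatrix ends β) z -
      δ • (Pi.single (Fn f 0) 1 - Pi.single (Fn f m) 1) := by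
    rw [hz', Matrix.mulVec_sub, Matrix.mulVec_smul, hc₀]
  rw [hαz', map_sub, map_smul, pushV_single_sub ends _ _ _ (mk_Fn h 0 m), smul_zero, sub_zero,
    ← hx, pushV_liftAt ends _ (f 0) (hsing' h)]

end Assembly

end Groth.Agent.Lib.Helper7.ChainCtr
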