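import Mathlib
set_option autoImplicit false
universe u
open CategoryTheory CategoryTheory.Limits AlgebraicGeometry

namespace Groth.Agent.Lib.Helper7.ContrFIB

open Scheme.Pullback in
/-- the residue field of a closed point of a l.f.t. scheme is finite over the residue field
of its image -/
theorem residueFieldMap_finite {S Y : Scheme.{u}} (p : Y ⟶ S) [LocallyOfFiniteType p]
    (y : Y) (hy : IsClosed ({y} : Set Y)) : (p.residueFieldMap y).hom.Finite := by
  have := isClosed_singleton_iff_isClosedImmersion.mp hy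
  have h1 : LocallyOfFiniteType (Y.fromSpecResidueField y ≫ p) := inferInstance
  rw [← Scheme.Hom.SpecMap_residueFieldMap_fromSpecResidueField] at h1
  have h2 : LocallyOfFiniteType (Spec.map (p.residueFieldMap y)) :=
    locallyOfFiniteType_of_comp _ (S.fromSpecResidueField (p y))
  have : JacobsonSpace (Spec (S.residueField (p y))) :=
    PrimeSpectrum.isJacobsonRing_iff_jacobsonSpace.mp inferInstance
  have h3 : IsFinite (Spec.map (p.residueFieldMap y)) :=
    (isFinite_iff_locallyOfFiniteType_of_jacobsonSpace).mpr h2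
  rwa [IsFinite.SpecMap_iff] at h3

open Scheme.Pullback in
theorem finite_tensor {S Y₁ Y₂ : Scheme.{u}} (p₁ : Y₁ ⟶ S) (p₂ : Y₂ ⟶ S)
    [LocallyOfFiniteType p₁] (T : Triplet p₁ p₂) (hx : IsClosed ({T.x} : Set Y₁)) :
    Finite (Spec T.tensor) := by
  have ha : ((S.residueFieldCongr T.hx).inv ≫ p₁.residueFieldMap T.x).hom.Finite := by
    rw [CommRingCat.hom_comp]
    refine RingHom.Finite.comp (residueFieldMap_finite p₁ T.x hx) ?_
    exact RingHom.Finite.of_surjective _
      ((ConcreteCategory.bijective_of_isIso (S.residueFieldCongr T.hx).inv).surjective)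
  have hfin : IsFinite (Spec.map ((S.residueFieldCongr T.hx).inv ≫ p₁.residueFieldMap T.x)) := by
    rwa [IsFinite.SpecMap_iff]
  have hinr : IsFinite (Spec.map T.tensorInr) :=
    MorphismProperty.of_isPullback (T.isPullback_SpecMap_tensor) hfin
  rw [IsFinite.SpecMap_iff] at hinr
  let : Algebra (Y₂.residueField T.y) T.tensor := T.tensorInr.hom.toAlgebra
  have : Module.Finite (Y₂.residueField T.y) T.tensor := hinr
  have : IsArtinianRing T.tensor := IsArtinianRing.of_finite (Y₂.residueField T.y) T.tensor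
  show Finite (PrimeSpectrum T.tensor)
  infer_instance

open Scheme.Pullback in
theorem finite_fiber_pullback {S Y₁ Y₂ : Scheme.{u}} (p₁ : Y₁ ⟶ S) (p₂ : Y₂ ⟶ S)
    [LocallyOfFiniteType p₁] (y₁ : Y₁) (hy₁ : IsClosed ({y₁} : Set Y₁)) (y₂ : Y₂) :
    {z : ↥(pullback p₁ p₂) | (pullback.fst p₁ p₂) z = y₁ ∧ (pullback.snd p₁ p₂) z = y₂}.Finite := by
  by_cases hne : ∃ z₀ : ↥(pullback p₁ p₂),
      (pullback.fst p₁ p₂) z₀ = y₁ ∧ (pullback.snd p₁ p₂) z₀ = y₂
  · obtain ⟨z₀, hz₀1, hz₀2⟩ := hne
    set T : Triplet p₁ p₂ := Triplet.ofPoint z₀ with hT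
    have hTx : T.x = y₁ := hz₀1
    have hTy : T.y = y₂ := hz₀2
    have : Finite (Spec T.tensor) := finite_tensor p₁ p₂ T (by rw [hTx]; exact hy₁)
    refine (Set.finite_range (fun q : Spec T.tensor => T.SpecTensorTo q)).subset ?_
    rintro z ⟨hz1, hz2⟩
    have hzT : Triplet.ofPoint z = T := Triplet.ext (hz1.trans hTx.symm) (hz2.trans hTy.symm)
    refine ⟨Spec.map (Triplet.tensorCongr hzT.symm).hom (SpecOfPoint z), ?_⟩
    show T.SpecTensorTo (Spec.map (Triplet.tensorCongr hzT.symm).hom (SpecOfPoint z)) = z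
    have h1 := tensorCongr_SpecTensorTo hzT.symm
    have h2 := SpecTensorTo_SpecOfPoint z
    rw [← Scheme.Hom.comp_apply, h1, h2]
  · have : {z : ↥(pullback p₁ p₂) | (pullback.fst p₁ p₂) z = y₁ ∧
        (pullback.snd p₁ p₂) z = y₂} = ∅ := by
      ext z
      simp only [Set.mem_ofPred_eq, Set.mem_empty_iff_false, iff_false]
      exact fun h => hne ⟨z, h⟩
    rw [this]
    exact Set.finite_empty

end Groth.Agent.Lib.Helper7.ContrFIB
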