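import Groth.Prelude.Def_W4c2conddiscmodels
import Mathlib.Tactic

/-!
# helper7: multiplicity functions, the matrix `mfMatrix`, and contraction of edge sets

General lemmas on `LabGraph.mfMatrix`, `LabGraph.IsMultFn`, and their behaviour under the contraction
`DualGr.ctrEnds ends D` when `β` is constant on the classes of `D`.
-/

set_option autoImplicit false
universe u

namespace Groth.Agent.Lib.Helper7.Contract

open LabGraph DualGr

section General

variable {V E : Type u} [Fintype V] [Fintype E] [DecidableEq V] [DecidableEq E]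

/-- (G0) sum over other vertices weighted by edge multiplicities, as a sum over edges. -/
theorem sum_edgeMult (ends : E → V × V) (g : V → ℤ) (v : V) :
    ∑ u ∈ Finset.univ.erase v, g u * (edgeMult ends v u : ℤ) =
      ∑ e : E, ((if (ends e).1 = v ∧ (ends e).2 ≠ v then g (ends e).2 else 0) +
        (if (ends e).2 = v ∧ (ends e).1 ≠ v then g (ends e).1 else 0)) := by
  unfold edgeMult
  have h1 : ∀ u ∈ Finset.univ.erase v, g u * ((Finset.univ.filter fun e : E =>
      ends e = (v, u) ∨ ends e = (u, v)).card : ℤ) =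
      ∑ e : E, (if ends e = (v, u) ∨ ends e = (u, v) then g u else 0) := by
    intro u _
    rw [Finset.card_filter]
    push_cast
    rw [Finset.mul_sum]
    refine Finset.sum_congr rfl fun e _ => ?_
    split_ifs <;> simp
  rw [Finset.sum_congr rfl h1, Finset.sum_comm]
  refine Finset.sum_congr rfl fun e _ => ?_
  -- inner sum over u ≠ v
  have h2 : ∀ u ∈ Finset.univ.erase v, (if ends e = (v, u) ∨ ends e = (u, v) then g u else 0) =
      (if (ends e).2 = u then (if (ends e).1 = v ∧ (ends e).2 ≠ v then g (ends e).2 else 0) else 0) +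
      (if (ends e).1 = u then (if (ends e).2 = v ∧ (ends e).1 ≠ v then g (ends e).1 else 0) else 0) := by
    intro u hu
    have huv : u ≠ v := (Finset.mem_erase.mp hu).1
    rcases h : ends e with ⟨a, b⟩
    simp only [Prod.mk.injEq]
    by_cases h1 : a = v <;> by_cases h2 : b = v <;> by_cases h3 : a = u <;> by_cases h4 : b = u <;>
      simp_all
  rw [Finset.sum_congr rfl h2, Finset.sum_add_distrib]
  congr 1
  · by_cases hc : (ends e).1 = v ∧ (ends e).2 ≠ v
    · rw [Finset.sum_ite_eq]
      simp [hc]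
    · simp [hc]
  · by_cases hc : (ends e).2 = v ∧ (ends e).1 ≠ v
    · rw [Finset.sum_ite_eq]
      simp [hc]
    · simp [hc]

theorem edgeMult_comm (ends : E → V × V) (v w : V) : edgeMult ends v w = edgeMult ends w v := by
  unfold edgeMult
  congr 1
  ext e
  simp only [Finset.mem_filter, Finset.mem_univ, true_and]
  tauto

theorem mfMatrix_symm (ends : E → V × V) (β : V → ℤ) (v w : V) (h : v ≠ w) :
    mfMatrix ends β v w = mfMatrix ends β w v := by
  unfold mfMatrix
  rw [if_neg h, if_neg (Ne.symm h), edgeMult_comm]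

theorem mfMatrix_diag_mul (ends : E → V × V) (β : V → ℤ) (hβ : IsMultFn ends β) (v : V) :
    β v * mfMatrix ends β v v = -(∑ u ∈ Finset.univ.erase v, β u * (edgeMult ends v u : ℤ)) := by
  unfold mfMatrix
  rw [if_pos rfl]
  exact Int.mul_ediv_cancel' ((dvd_neg).mpr (hβ v).2)

/-- (G1) -/
theorem mul_mulVec (ends : E → V × V) (β : V → ℤ) (hβ : IsMultFn ends β) (z : V → ℤ) (v : V) :
    β v * (Matrix.mulVec (mfMatrix ends β) z) v =
      ∑ u ∈ Finset.univ.erase v, (β v * z u - β u * z v) * (edgeMult ends v u : ℤ) := by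
  unfold Matrix.mulVec dotProduct
  rw [← Finset.add_sum_erase Finset.univ _ (Finset.mem_univ v), mul_add, ← mul_assoc,
    mfMatrix_diag_mul ends β hβ v]
  have h1 : ∀ u ∈ Finset.univ.erase v, mfMatrix ends β v u * z u = (edgeMult ends v u : ℤ) * z u := by
    intro u hu
    unfold mfMatrix
    rw [if_neg (Ne.symm (Finset.mem_erase.mp hu).1)]
  rw [Finset.sum_congr rfl h1, Finset.mul_sum, neg_mul, Finset.sum_mul, ← Finset.sum_neg_distrib,
    ← Finset.sum_add_distrib]
  refine Finset.sum_congr rfl fun u _ => ?_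
  ring

/-- (G1') edge-sum form -/
theorem mul_mulVec_edges (ends : E → V × V) (β : V → ℤ) (hβ : IsMultFn ends β) (z : V → ℤ) (v : V) :
    β v * (Matrix.mulVec (mfMatrix ends β) z) v =
      ∑ e : E, ((if (ends e).1 = v then β (ends e).1 * z (ends e).2 - β (ends e).2 * z (ends e).1 else 0) +
        (if (ends e).2 = v then β (ends e).2 * z (ends e).1 - β (ends e).1 * z (ends e).2 else 0)) := by
  rw [mul_mulVec ends β hβ, sum_edgeMult ends (fun u => β v * z u - β u * z v) v]
  refine Finset.sum_congr rfl fun e _ => ?_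
  by_cases h1 : (ends e).1 = v <;> by_cases h2 : (ends e).2 = v <;> simp [h1, h2]

/-- (G2) -/
theorem mulVec_beta (ends : E → V × V) (β : V → ℤ) (hβ : IsMultFn ends β) :
    Matrix.mulVec (mfMatrix ends β) β = 0 := by
  funext v
  have h := mul_mulVec ends β hβ β v
  have h0 : ∑ u ∈ Finset.univ.erase v, (β v * β u - β u * β v) * (edgeMult ends v u : ℤ) = 0 :=
    Finset.sum_eq_zero fun u _ => by ring
  rw [h0] at h
  have hpos := (hβ v).1
  rcases mul_eq_zero.mp h with h | h
  · omega
  · simpa using h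

/-- (G3) the image of `α` lies in the kernel of `β`. -/
theorem betaHom_mulVec (ends : E → V × V) (β : V → ℤ) (hβ : IsMultFn ends β) (z : V → ℤ) :
    betaHom β (Matrix.mulVec (mfMatrix ends β) z) = 0 := by
  unfold betaHom
  rw [Fintype.linearCombination_apply]
  simp only [smul_eq_mul]
  have h1 : ∀ v : V, (Matrix.mulVec (mfMatrix ends β) z) v * β v =
      ∑ e : E, ((if (ends e).1 = v then β (ends e).1 * z (ends e).2 - β (ends e).2 * z (ends e).1 else 0) +
        (if (ends e).2 = v then β (ends e).2 * z (ends e).1 - β (ends e).1 * z (ends e).2 else 0)) := by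
    intro v
    rw [mul_comm, mul_mulVec_edges ends β hβ]
  rw [Finset.sum_congr rfl (fun v _ => h1 v), Finset.sum_comm]
  apply Finset.sum_eq_zero
  intro e _
  rw [Finset.sum_add_distrib, Finset.sum_ite_eq, Finset.sum_ite_eq]
  simp

end General

section Ctr

variable {V E : Type u} [Fintype V] [Fintype E] [DecidableEq V] [DecidableEq E]

theorem ctrFn_mk (ends : E → V × V) (D : Finset E) (β : V → ℤ)
    (hconst : ∀ v w : V, ctrMk ends D v = ctrMk ends D w → β v = β w) (v : V) :
    ctrFn ends D β (ctrMk ends D v) = β v := by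
  unfold ctrFn
  apply hconst
  exact Quotient.out_eq (s := ctrSetoid ends D) (ctrMk ends D v)

theorem sum_ctrEdge (D : Finset E) (G : E → ℤ) :
    ∑ e : CtrEdge D, G e.1 = ∑ e : E, (if e ∉ D then G e else 0) := by
  rw [← Finset.sum_filter,
    Finset.sum_subtype (Finset.univ.filter (fun e : E => e ∉ D)) (p := fun e => e ∉ D) (by intro e; simp)]

theorem sum_fiber_ite (ends : E → V × V) (D : Finset E) (c : CtrVert ends D) (a : V) (P : Prop)
    [Decidable P] (A : ℤ) :
    ∑ v ∈ Finset.univ.filter (fun x => ctrMk ends D x = c), (if a = v ∧ P then A else 0) =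
      if ctrMk ends D a = c ∧ P then A else 0 := by
  by_cases hP : P
  · simp only [hP, and_true]
    rw [Finset.sum_ite_eq]
    simp
  · simp [hP]

theorem ctr_isMultFn (ends : E → V × V) (D : Finset E) (β : V → ℤ) (hβ : IsMultFn ends β)
    (hconst : ∀ v w : V, ctrMk ends D v = ctrMk ends D w → β v = β w) :
    IsMultFn (ctrEnds ends D) (ctrFn ends D β) := by
  intro c
  obtain ⟨v₀, rfl⟩ := ctrMk_surjective ends D c
  refine ⟨by rw [ctrFn_mk ends D β hconst]; exact (hβ v₀).1, ?_⟩
  rw [sum_edgeMult (ctrEnds ends D) (ctrFn ends D β) (ctrMk ends D v₀)]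
  simp only [ctrEnds, ctrFn_mk ends D β hconst]
  rw [sum_ctrEdge D (fun e => (if ctrMk ends D (ends e).1 = ctrMk ends D v₀ ∧
      ctrMk ends D (ends e).2 ≠ ctrMk ends D v₀ then β (ends e).2 else 0) +
      (if ctrMk ends D (ends e).2 = ctrMk ends D v₀ ∧
      ctrMk ends D (ends e).1 ≠ ctrMk ends D v₀ then β (ends e).1 else 0))]
  have h1 : ∀ e : E, (if e ∉ D then (if ctrMk ends D (ends e).1 = ctrMk ends D v₀ ∧
      ctrMk ends D (ends e).2 ≠ ctrMk ends D v₀ then β (ends e).2 else 0) +
      (if ctrMk ends D (ends e).2 = ctrMk ends D v₀ ∧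
      ctrMk ends D (ends e).1 ≠ ctrMk ends D v₀ then β (ends e).1 else 0) else 0) =
      ∑ v ∈ Finset.univ.filter (fun x => ctrMk ends D x = ctrMk ends D v₀),
        ((if (ends e).1 = v ∧ ctrMk ends D (ends e).2 ≠ ctrMk ends D v₀ then β (ends e).2 else 0) +
        (if (ends e).2 = v ∧ ctrMk ends D (ends e).1 ≠ ctrMk ends D v₀ then β (ends e).1 else 0)) := by
    intro e
    rw [Finset.sum_add_distrib, sum_fiber_ite, sum_fiber_ite]
    by_cases he : e ∈ D
    · have := ctrMk_fst_eq_ctrMk_snd ends D he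
      simp only [he, not_true_eq_false, if_false, this]
      simp
    · simp [he]
  rw [Finset.sum_congr rfl (fun e _ => h1 e), Finset.sum_comm]
  apply Finset.dvd_sum
  intro v hv
  have hv' : ctrMk ends D v = ctrMk ends D v₀ := (Finset.mem_filter.mp hv).2
  have hbv : β v₀ = β v := hconst _ _ hv'.symm
  rw [hbv]
  have hS := (hβ v).2
  rw [sum_edgeMult ends β v] at hS
  have hU : β v ∣ ∑ e : E, ((if (ends e).1 = v ∧ (ends e).2 ≠ v ∧
        ctrMk ends D (ends e).2 = ctrMk ends D v₀ then β (ends e).2 else 0) +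
      (if (ends e).2 = v ∧ (ends e).1 ≠ v ∧
        ctrMk ends D (ends e).1 = ctrMk ends D v₀ then β (ends e).1 else 0)) := by
    apply Finset.dvd_sum
    intro e _
    apply dvd_add
    · split_ifs with h
      · rw [hconst _ _ (h.2.2.trans hv'.symm)]
      · exact dvd_zero _
    · split_ifs with h
      · rw [hconst _ _ (h.2.2.trans hv'.symm)]
      · exact dvd_zero _
  have hsub := dvd_sub hS hU
  rw [← Finset.sum_sub_distrib] at hsub
  convert hsub using 1
  refine Finset.sum_congr rfl fun e _ => ?_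
  by_cases h1 : (ends e).1 = v <;> by_cases h2 : (ends e).2 = v <;>
    by_cases h3 : ctrMk ends D (ends e).1 = ctrMk ends D v₀ <;>
    by_cases h4 : ctrMk ends D (ends e).2 = ctrMk ends D v₀ <;>
    simp_all

theorem ctr_mulVec (ends : E → V × V) (D : Finset E) (β : V → ℤ) (hβ : IsMultFn ends β)
    (hconst : ∀ v w : V, ctrMk ends D v = ctrMk ends D w → β v = β w)
    (y : CtrVert ends D → ℤ) :
    Matrix.mulVec (mfMatrix (ctrEnds ends D) (ctrFn ends D β)) y =
      pushV ends D (Matrix.mulVec (mfMatrix ends β) (fun v => y (ctrMk ends D v))) := by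
  have hβ' := ctr_isMultFn ends D β hβ hconst
  funext c
  obtain ⟨v₀, rfl⟩ := ctrMk_surjective ends D c
  have hpos : ctrFn ends D β (ctrMk ends D v₀) ≠ 0 := ne_of_gt (hβ' _).1
  apply mul_left_cancel₀ hpos
  rw [mul_mulVec_edges (ctrEnds ends D) (ctrFn ends D β) hβ' y (ctrMk ends D v₀)]
  simp only [ctrEnds, ctrFn_mk ends D β hconst]
  rw [sum_ctrEdge D (fun e => (if ctrMk ends D (ends e).1 = ctrMk ends D v₀ then
      β (ends e).1 * y (ctrMk ends D (ends e).2) - β (ends e).2 * y (ctrMk ends D (ends e).1) else 0) +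
      (if ctrMk ends D (ends e).2 = ctrMk ends D v₀ then
      β (ends e).2 * y (ctrMk ends D (ends e).1) - β (ends e).1 * y (ctrMk ends D (ends e).2) else 0))]
  simp only [pushV, LinearMap.coe_mk, AddHom.coe_mk]
  rw [Finset.mul_sum]
  have h2 : ∀ v ∈ Finset.univ.filter (fun x => ctrMk ends D x = ctrMk ends D v₀),
      β v₀ * Matrix.mulVec (mfMatrix ends β) (fun v => y (ctrMk ends D v)) v =
      ∑ e : E, ((if (ends e).1 = v ∧ True then β (ends e).1 * y (ctrMk ends D (ends e).2) -
          β (ends e).2 * y (ctrMk ends D (ends e).1) else 0) +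
        (if (ends e).2 = v ∧ True then β (ends e).2 * y (ctrMk ends D (ends e).1) -
          β (ends e).1 * y (ctrMk ends D (ends e).2) else 0)) := by
    intro v hv
    have hv' : ctrMk ends D v = ctrMk ends D v₀ := (Finset.mem_filter.mp hv).2
    rw [hconst _ _ hv'.symm, mul_mulVec_edges ends β hβ]
    simp only [and_true]
  rw [Finset.sum_congr rfl h2, Finset.sum_comm]
  refine Finset.sum_congr rfl fun e _ => ?_
  rw [Finset.sum_add_distrib, sum_fiber_ite, sum_fiber_ite]
  by_cases he : e ∈ D
  · have := ctrMk_fst_eq_ctrMk_snd ends D he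
    simp only [he, not_true_eq_false, if_false, this, and_true]
    split_ifs <;> ring
  · simp [he]

end Ctr

section Chain

variable {V E : Type u} [Fintype V] [Fintype E] [DecidableEq V] [DecidableEq E]

/-- the classes of the contraction of a chain: equal vertices, or both on the chain -/
theorem chain_class (ends : E → V × V) {k : ℕ} (f : Fin (k + 1) → V) (e : Fin k → E)
    (hC : IsChain ends f e) (v w : V)
    (h : ctrMk ends (Finset.univ.image e) v = ctrMk ends (Finset.univ.image e) w) :
    v = w ∨ (v ∈ Set.range f ∧ w ∈ Set.range f) := by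
  have h' : Relation.EqvGen (CtrRel ends (Finset.univ.image e)) v w := Quotient.exact h
  induction h' with
  | rel x y hxy =>
    right
    obtain ⟨e', he', hends⟩ := hxy
    obtain ⟨i, _, rfl⟩ := Finset.mem_image.mp he'
    rcases hC.2.2 i with h1 | h1
    · rw [h1] at hends
      simp only [Prod.mk.injEq] at hends
      exact ⟨⟨_, hends.1⟩, ⟨_, hends.2⟩⟩
    · rw [h1] at hends
      simp only [Prod.mk.injEq] at hends
      exact ⟨⟨_, hends.1⟩, ⟨_, hends.2⟩⟩
  | refl x => left; rfl
  | symm x y _ ih =>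
    rcases ih (Quotient.sound (Relation.EqvGen.symm _ _ ‹_›)).symm with h1 | h1
    · left; exact h1.symm
    · right; exact ⟨h1.2, h1.1⟩
  | trans x y z hxy hyz ih1 ih2 =>
    rcases ih1 (Quotient.sound hxy) with h1 | h1
    · rcases ih2 (Quotient.sound hyz) with h2 | h2
      · left; exact h1.trans h2
      · right; rw [h1]; exact h2
    · rcases ih2 (Quotient.sound hyz) with h2 | h2
      · right; rw [← h2]; exact h1
      · right; exact ⟨h1.1, h2.2⟩

theorem chain_mk_eq (ends : E → V × V) {k : ℕ} (f : Fin (k + 1) → V) (e : Fin k → E)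
    (hC : IsChain ends f e) (i j : Fin (k + 1)) :
    ctrMk ends (Finset.univ.image e) (f i) = ctrMk ends (Finset.univ.image e) (f j) := by
  have key : ∀ n : ℕ, ∀ hn : n < k + 1,
      ctrMk ends (Finset.univ.image e) (f ⟨n, hn⟩) = ctrMk ends (Finset.univ.image e) (f 0) := by
    intro n
    induction n with
    | zero => intro _; rfl
    | succ n ih =>
      intro hn
      have hn' : n < k := by omega
      rw [← ih (by omega)]
      have hmem : e ⟨n, hn'⟩ ∈ Finset.univ.image e := Finset.mem_image_of_mem e (Finset.mem_univ _)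
      have h1 := ctrMk_fst_eq_ctrMk_snd ends (Finset.univ.image e) hmem
      have hcs : (⟨n, hn'⟩ : Fin k).castSucc = ⟨n, by omega⟩ := rfl
      have hsc : (⟨n, hn'⟩ : Fin k).succ = ⟨n + 1, hn⟩ := rfl
      rcases hC.2.2 ⟨n, hn'⟩ with h2 | h2
      · rw [h2, hcs, hsc] at h1; exact h1.symm
      · rw [h2, hcs, hsc] at h1; exact h1
  rw [show i = ⟨i.1, i.2⟩ from rfl, show j = ⟨j.1, j.2⟩ from rfl, key i.1 i.2, key j.1 j.2]

theorem chain_const (ends : E → V × V) (β : V → ℤ) {k : ℕ} (f : Fin (k + 1) → V) (e : Fin k → E)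
    (hC : IsChain ends f e) (hconst : ∀ i j, β (f i) = β (f j)) (v w : V)
    (h : ctrMk ends (Finset.univ.image e) v = ctrMk ends (Finset.univ.image e) w) : β v = β w := by
  rcases chain_class ends f e hC v w h with h1 | ⟨⟨i, rfl⟩, ⟨j, rfl⟩⟩
  · rw [h1]
  · exact hconst i j

end Chain

end Groth.Agent.Lib.Helper7.Contract
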