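import Mathlib
import Groth.Prelude.Def_Cyc
import Groth.Prelude.Def_Tame
import Groth.Agent.Lib.Helper64.CycLen2
import Groth.Agent.Lib.Helper64.OrdOpen

/-!
# helper7: `ordFrac` of `(B/J)/q` versus `B/Q`, `Q = q.comap (mk J)` (sub-lemma Q2 for S1940)
-/

set_option autoImplicit false
set_option linter.style.haveILetI false
universe u

open AlgebraicGeometry CategoryTheory IsLocalRing

namespace Groth.Agent.Lib.Helper7.Cyc1940Q2

/-- transfer of the four side conditions of `CycAlg.ordFrac` along a ring isomorphism -/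
theorem cond_of_ringEquiv {R R' K K' : Type u} [CommRing R] [CommRing R'] [Field K] [Field K']
    [Algebra R K] [Algebra R' K'] [IsFractionRing R' K'] (e : R ≃+* R')
    (h : IsNoetherianRing R ∧ Ring.KrullDimLE 1 R ∧ Nontrivial R ∧ IsFractionRing R K) :
    IsNoetherianRing R' ∧ Ring.KrullDimLE 1 R' ∧ Nontrivial R' ∧ IsFractionRing R' K' := by
  obtain ⟨h1, h2, h3, -⟩ := h
  haveI := h3
  refine ⟨isNoetherianRing_of_ringEquiv R e, ?_, e.injective.nontrivial, inferInstance⟩
  rw [Ring.krullDimLE_iff] at h2 ⊢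
  rwa [← ringKrullDim_eq_of_ringEquiv e]

theorem ordFrac_eq_of_ringEquiv {R R' K K' : Type u} [CommRing R] [CommRing R'] [IsDomain R]
    [IsDomain R'] [Field K] [Field K'] [Algebra R K] [Algebra R' K'] [IsFractionRing R K]
    [IsFractionRing R' K'] (e : R ≃+* R') (r : R) :
    CycAlg.ordFrac R' K' (algebraMap R' K' (e r)) = CycAlg.ordFrac R K (algebraMap R K r) := by
  unfold CycAlg.ordFrac
  by_cases h : IsNoetherianRing R ∧ Ring.KrullDimLE 1 R ∧ Nontrivial R ∧ IsFractionRing R K
  · have h' := cond_of_ringEquiv (K := K) (K' := K') e h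
    rw [dif_pos h, dif_pos h']
    haveI := h.1; haveI := h.2.1; haveI := h'.1; haveI := h'.2.1
    have key := Groth.Agent.Lib.Helper64.OrdOpen.ordFrac_ringEquiv (R := R) (R' := R') (K := K)
      (K' := K') e (IsFractionRing.ringEquivOfRingEquiv e)
      (fun a => IsFractionRing.ringEquivOfRingEquiv_algebraMap e a) (algebraMap R K r)
    rw [IsFractionRing.ringEquivOfRingEquiv_algebraMap] at key
    rw [key]
  · have h' : ¬ (IsNoetherianRing R' ∧ Ring.KrullDimLE 1 R' ∧ Nontrivial R' ∧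
        IsFractionRing R' K') := fun h' => h (cond_of_ringEquiv (K := K') (K' := K) e.symm h')
    rw [dif_neg h, dif_neg h']

theorem ordFrac_quotient_quotient {B : Type u} [CommRing B] (J : Ideal B) (q : Ideal (B ⧸ J))
    [q.IsPrime] (b : B) :
    CycAlg.ordFrac ((B ⧸ J) ⧸ q) q.ResidueField
        (algebraMap (B ⧸ J) q.ResidueField (Ideal.Quotient.mk J b)) =
      CycAlg.ordFrac (B ⧸ q.comap (Ideal.Quotient.mk J)) (q.comap (Ideal.Quotient.mk J)).ResidueField
        (algebraMap B (q.comap (Ideal.Quotient.mk J)).ResidueField b) := by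
  set Q := q.comap (Ideal.Quotient.mk J) with hQ
  let f : B →+* (B ⧸ J) ⧸ q := (Ideal.Quotient.mk q).comp (Ideal.Quotient.mk J)
  have hf : ∀ a ∈ Q, f a = 0 := fun a ha => Ideal.Quotient.eq_zero_iff_mem.2 ha
  have hker : RingHom.ker f = Q := by
    ext a
    rw [RingHom.mem_ker]
    exact Ideal.Quotient.eq_zero_iff_mem
  have hbij : Function.Bijective (Ideal.Quotient.lift Q f hf) :=
    ⟨(Ideal.injective_lift_iff hf).2 hker, Ideal.Quotient.lift_surjective_of_surjective Q hf
      ((Ideal.Quotient.mk_surjective).comp Ideal.Quotient.mk_surjective)⟩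
  let e : (B ⧸ Q) ≃+* ((B ⧸ J) ⧸ q) := RingEquiv.ofBijective _ hbij
  have he : e (Ideal.Quotient.mk Q b) = Ideal.Quotient.mk q (Ideal.Quotient.mk J b) :=
    Ideal.Quotient.lift_mk Q f hf
  have h1 : algebraMap (B ⧸ J) q.ResidueField (Ideal.Quotient.mk J b) =
      algebraMap ((B ⧸ J) ⧸ q) q.ResidueField (e (Ideal.Quotient.mk Q b)) := by
    rw [he]
    exact IsScalarTower.algebraMap_apply (B ⧸ J) ((B ⧸ J) ⧸ q) q.ResidueField _
  have h2 : algebraMap B Q.ResidueField b =
      algebraMap (B ⧸ Q) Q.ResidueField (Ideal.Quotient.mk Q b) :=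
    IsScalarTower.algebraMap_apply B (B ⧸ Q) Q.ResidueField b
  rw [h1, h2]
  exact ordFrac_eq_of_ringEquiv e (Ideal.Quotient.mk Q b)

end Groth.Agent.Lib.Helper7.Cyc1940Q2
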