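import Mathlib
import Groth.Prelude.Def_EssFT

/-!
# Affine covers for morphisms locally essentially of finite type (helper7)

`exists_cover` : if `f` is `EssFT.LocallyEssFiniteType` then above every affine open `U` of the
target, `f ⁻¹ᵁ U` is covered by affine opens `V` with `Γ(U) → Γ(V)` essentially of finite type.
-/

set_option autoImplicit false
set_option linter.style.haveILetI false
universe u

namespace Groth.Agent.Lib.Helper7.EssFTCover

open AlgebraicGeometry CategoryTheory TopologicalSpace Opposite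

/-- A morphism given with an affine cover of the target and covers of the preimages with
essentially finite type ring maps is `LocallyEssFiniteType`. -/
theorem locallyEssFiniteType_of_cover {X Y : Scheme.{u}} (f : X ⟶ Y)
    (h : ∃ S : Set Y.affineOpens, (⋃ U ∈ S, ((U : Y.Opens) : Set ↥Y)) = Set.univ ∧
      ∀ U ∈ S, ∃ T : Set X.affineOpens,
        (⋃ V ∈ T, ((V : X.Opens) : Set ↥X)) = ((f ⁻¹ᵁ (U : Y.Opens)) : Set ↥X) ∧
        ∀ V ∈ T, ∃ e : (V : X.Opens) ≤ f ⁻¹ᵁ (U : Y.Opens),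
          (f.appLE (U : Y.Opens) (V : X.Opens) e).hom.EssFiniteType) :
    EssFT.LocallyEssFiniteType f := by
  obtain ⟨S, hS, hT⟩ := h
  refine ⟨fun x => ?_⟩
  have hfx : f x ∈ (⋃ U ∈ S, ((U : Y.Opens) : Set ↥Y)) := by rw [hS]; trivial
  obtain ⟨U, hU⟩ := Set.mem_iUnion.1 hfx
  obtain ⟨hUS, hxU⟩ := Set.mem_iUnion.1 hU
  obtain ⟨T, hTc, hTe⟩ := hT U hUS
  have hx : x ∈ (⋃ V ∈ T, ((V : X.Opens) : Set ↥X)) := by rw [hTc]; exact hxU
  obtain ⟨V, hV⟩ := Set.mem_iUnion.1 hx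
  obtain ⟨hVT, hxV⟩ := Set.mem_iUnion.1 hV
  obtain ⟨e, he⟩ := hTe V hVT
  exact ⟨U, V, hxV, e, he⟩

/-- The refinement: above EVERY affine open of the target there is a cover by affine opens with
essentially finite type ring maps. -/
theorem exists_cover {X Y : Scheme.{u}} (f : X ⟶ Y) [hf : EssFT.LocallyEssFiniteType f]
    (U : Y.affineOpens) :
    ∃ T : Set X.affineOpens,
      (⋃ V ∈ T, ((V : X.Opens) : Set ↥X)) = ((f ⁻¹ᵁ (U : Y.Opens)) : Set ↥X) ∧
      ∀ V ∈ T, ∃ e : (V : X.Opens) ≤ f ⁻¹ᵁ (U : Y.Opens),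
        (f.appLE (U : Y.Opens) (V : X.Opens) e).hom.EssFiniteType := by
  refine ⟨{W | ∃ e : (W : X.Opens) ≤ f ⁻¹ᵁ (U : Y.Opens),
      (f.appLE (U : Y.Opens) (W : X.Opens) e).hom.EssFiniteType}, ?_, fun V hV => hV⟩
  apply Set.Subset.antisymm
  · intro x hx
    obtain ⟨W, hW⟩ := Set.mem_iUnion.1 hx
    obtain ⟨⟨e, -⟩, hxW⟩ := Set.mem_iUnion.1 hW
    exact e hxW
  · intro x hx
    obtain ⟨_, ⟨V, hV : IsAffineOpen V, rfl⟩, hxV, hVU⟩ :=
      (X.isBasis_affineOpens).exists_subset_of_mem_open hx (f ⁻¹ᵁ (U : Y.Opens)).isOpen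
    have e : V ≤ f ⁻¹ᵁ (U : Y.Opens) := hVU
    have H : RingHom.Locally RingHom.EssFiniteType (f.appLE (U : Y.Opens) V e).hom :=
      HasRingHomProperty.appLE (P := @EssFT.LocallyEssFiniteType) f hf U ⟨V, hV⟩ e
    obtain ⟨s, hs, h⟩ := H
    have hcov : ⨆ t : s, X.basicOpen (t : Γ(X, V)) = V := hV.iSup_basicOpen_eq_self_iff.2 hs
    have hxV' : x ∈ ⨆ t : s, X.basicOpen (t : Γ(X, V)) := by rw [hcov]; exact hxV
    obtain ⟨⟨t, hts⟩, hxt⟩ := Opens.mem_iSup.1 hxV'
    have e' : X.basicOpen t ≤ f ⁻¹ᵁ (U : Y.Opens) := (X.basicOpen_le t).trans e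
    refine Set.mem_iUnion.2 ⟨⟨X.basicOpen t, hV.basicOpen t⟩, Set.mem_iUnion.2 ⟨⟨e', ?_⟩, hxt⟩⟩
    have hP := h t hts
    haveI := hV.isLocalization_basicOpen t
    let eq : Localization.Away t ≃ₐ[Γ(X, V)] Γ(X, X.basicOpen t) :=
      IsLocalization.algEquiv (Submonoid.powers t) _ _
    have hcomp : (f.appLE (U : Y.Opens) (X.basicOpen t) e').hom =
        eq.toRingEquiv.toRingHom.comp
          ((algebraMap Γ(X, V) (Localization.Away t)).comp (f.appLE (U : Y.Opens) V e).hom) := by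
      rw [← Scheme.Hom.appLE_map f e (homOfLE (X.basicOpen_le t)).op, CommRingCat.hom_comp]
      ext a
      simp only [RingHom.comp_apply]
      exact (eq.commutes _).symm
    rw [hcomp]
    exact RingHom.EssFiniteType.respectsIso.left _ _ hP

end Groth.Agent.Lib.Helper7.EssFTCover
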