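import Mathlib

/-!
# Scheme-theoretic density of generic fibres of flat schemes (helper7)

* `isAffineHom_of_subsingleton`: a morphism from a one-point scheme is affine.
* `ext_of_schDominant_of_isSeparated`: morphisms to a separated target agreeing on a
  scheme-theoretically dominant morphism are equal.
* `schDominant_SpecMap_of_injective`: `Spec` of an injective ring map is scheme-theoretically
  dominant.
* `Over.pullback_map_injective_of_flat`: base change along a scheme-theoretically dominant
  quasi-compact morphism is faithful on morphisms from flat objects to separated objects.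
-/

set_option autoImplicit false
set_option linter.style.haveILetI false
universe u

namespace Groth.Agent.Lib.Helper7.GenFibreDense

open AlgebraicGeometry CategoryTheory CategoryTheory.Limits TopologicalSpace Opposite

/-- A morphism from a scheme with at most one point is affine. -/
lemma isAffineHom_of_subsingleton {T Y : Scheme.{u}} [Subsingleton T] (g : T ⟶ Y) :
    IsAffineHom g := by
  constructor
  intro V _
  by_cases h : ∃ t : T, t ∈ g ⁻¹ᵁ V
  · obtain ⟨t, ht⟩ := h
    have : g ⁻¹ᵁ V = ⊤ := by
      ext z
      simp only [Opens.coe_top, Set.mem_univ, iff_true]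
      rw [Subsingleton.elim z t]
      exact ht
    rw [this]
    exact isAffineOpen_top _
  · have : g ⁻¹ᵁ V = ⊥ := by
      ext z
      simp only [Opens.coe_bot, Set.mem_empty_iff_false, iff_false]
      exact fun hz => h ⟨z, hz⟩
    rw [this]
    exact isAffineOpen_bot _

/-- Two morphisms into a separated target which agree after precomposition with a
scheme-theoretically dominant morphism are equal. -/
lemma ext_of_schDominant_of_isSeparated {W X Y Z : Scheme.{u}} {f g : X ⟶ Y}
    (s : Y ⟶ Z) [IsSeparated s] (h : f ≫ s = g ≫ s)
    (ι : W ⟶ X) [IsSchemeTheoreticallyDominant ι] (hU : ι ≫ f = ι ≫ g) : f = g := by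
  let X' : Over Z := Over.mk (f ≫ s)
  let Y' : Over Z := Over.mk s
  let U' : Over Z := Over.mk (ι ≫ f ≫ s)
  let f' : X' ⟶ Y' := Over.homMk f
  let g' : X' ⟶ Y' := Over.homMk g
  let ι' : U' ⟶ X' := Over.homMk ι
  have : IsSeparated Y'.hom := ‹_›
  have hlift : (equalizer.lift ι' (show ι' ≫ f' = ι' ≫ g' by ext1; exact hU)).left ≫
      (equalizer.ι f' g').left = ι := by
    rw [← Over.comp_left, equalizer.lift_ι]
    rfl
  have hker : (equalizer.ι f' g').left.ker = ⊥ := by
    rw [eq_bot_iff]
    calc (equalizer.ι f' g').left.ker
        ≤ ((equalizer.lift ι' (show ι' ≫ f' = ι' ≫ g' by ext1; exact hU)).left ≫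
            (equalizer.ι f' g').left).ker := Scheme.Hom.le_ker_comp _ _
      _ = ι.ker := by rw [hlift]
      _ = ⊥ := ι.ker_eq_bot
  have : IsIso (equalizer.ι f' g').left := IsClosedImmersion.isIso_iff_ker_eq_bot.mpr hker
  rw [← cancel_epi (equalizer.ι f' g').left]
  exact congr($(equalizer.condition f' g').left)

/-- `Spec` of an injective ring homomorphism is scheme-theoretically dominant. -/
lemma schDominant_SpecMap_of_injective {R S : CommRingCat.{u}} (φ : R ⟶ S)
    (h : Function.Injective φ.hom) : IsSchemeTheoreticallyDominant (Spec.map φ) := by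
  constructor
  refine Scheme.IdealSheafData.ext_of_isAffine ?_
  rw [(Spec.map φ).ker_apply ⟨⊤, isAffineOpen_top _⟩]
  simp only [Scheme.IdealSheafData.ideal_bot, Pi.bot_apply]
  rw [← RingHom.injective_iff_ker_eq_bot]
  have e : (Spec.map φ).appTop = (Scheme.ΓSpecIso R).hom ≫ φ ≫ (Scheme.ΓSpecIso S).inv := by
    rw [← Category.assoc, Iso.eq_comp_inv, Scheme.ΓSpecIso_naturality]
  change Function.Injective ((Spec.map φ).appTop).hom
  rw [e]
  simp only [CommRingCat.hom_comp, RingHom.coe_comp]
  exact ((ConcreteCategory.bijective_of_isIso (Scheme.ΓSpecIso S).inv).injective.comp h).comp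
    (ConcreteCategory.bijective_of_isIso (Scheme.ΓSpecIso R).hom).injective

/-- Base change along a scheme-theoretically dominant quasi-compact morphism `g : S' ⟶ S` is
faithful on morphisms from an object flat over `S` to an object separated over `S`. -/
lemma Over.pullback_map_injective_of_flat {S S' : Scheme.{u}} (g : S' ⟶ S)
    [IsSchemeTheoreticallyDominant g] [QuasiCompact g] {X Y : Over S} [Flat X.hom]
    [IsSeparated Y.hom] (a b : X ⟶ Y)
    (h : (CategoryTheory.Over.pullback g).map a = (CategoryTheory.Over.pullback g).map b) :
    a = b := by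
  apply CategoryTheory.Over.OverMorphism.ext
  have h1 : pullback.fst X.hom g ≫ a.left = pullback.fst X.hom g ≫ b.left := by
    have ha : ((CategoryTheory.Over.pullback g).map a).left ≫ pullback.fst Y.hom g =
        pullback.fst X.hom g ≫ a.left := by
      simp only [CategoryTheory.Over.pullback_map_left]
      exact pullback.lift_fst _ _ _
    have hb : ((CategoryTheory.Over.pullback g).map b).left ≫ pullback.fst Y.hom g =
        pullback.fst X.hom g ≫ b.left := by
      simp only [CategoryTheory.Over.pullback_map_left]
      exact pullback.lift_fst _ _ _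
    rw [← ha, ← hb, h]
  exact ext_of_schDominant_of_isSeparated Y.hom
    ((CategoryTheory.Over.w a).trans (CategoryTheory.Over.w b).symm) (pullback.fst X.hom g) h1

end Groth.Agent.Lib.Helper7.GenFibreDense
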