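import Mathlib
import Groth.Agent.Lib.Helper7.FlatClosure

/-!
# Flatness of scheme-theoretic closures, II (helper7)

A variant of `FlatClosure.flat_of_isUnit` where nonzero sections of the base are only required
to act injectively on sections of the dominating scheme, e.g. when that scheme is flat over the
(integral) base.
-/

set_option autoImplicit false
set_option linter.style.haveILetI false
universe u

namespace Groth.Agent.Lib.Helper7.FlatClosure

open AlgebraicGeometry CategoryTheory CategoryTheory.Limits TopologicalSpace Opposite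
open Groth.Agent.Lib.Helper7.GenFibreDense

/-- Ring-level criterion: over a domain whose localizations at maximal ideals are valuation
rings, an algebra `B` embedding in a ring on which all nonzero scalars act injectively is flat. -/
lemma ringHom_flat_of_regular {R B C : Type u} [CommRing R] [IsDomain R] [CommRing B] [CommRing C]
    (hR : ∀ (P : Ideal R), [P.IsMaximal] → ValuationRing (Localization P.primeCompl))
    (φ : R →+* B) (ψ : B →+* C) (hψ : Function.Injective ψ)
    (hu : ∀ a : R, a ≠ 0 → ∀ c : C, ψ (φ a) * c = 0 → c = 0) : φ.Flat := by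
  letI := φ.toAlgebra
  change Module.Flat R B
  rw [Module.Flat.flat_iff_torsion_eq_bot_of_valuationRing_localization_isMaximal hR, eq_bot_iff]
  rintro b ⟨⟨a, ha⟩, hab⟩
  have ha0 : a ≠ 0 := nonZeroDivisors.ne_zero ha
  have h1 : φ a * b = 0 := by
    have : a • b = 0 := hab
    rwa [Algebra.smul_def] at this
  have h2 : ψ (φ a) * ψ b = 0 := by rw [← map_mul, h1, map_zero]
  have h3 : ψ b = 0 := hu a ha0 _ h2
  exact (Submodule.mem_bot R).mpr (hψ (by rw [h3, map_zero]))

/-- Over an integral base `Y` whose local rings are valuation rings, a morphism `f : Z ⟶ Y` is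
flat as soon as there is a scheme-theoretically dominant quasi-compact `q : T ⟶ Z` such that
all nonzero local sections of `Y` act injectively on the sections of `T`. -/
lemma flat_of_regular {T Z Y : Scheme.{u}} [IsIntegral Y]
    (hY : ∀ y : Y, ValuationRing (Y.presheaf.stalk y))
    (f : Z ⟶ Y) (q : T ⟶ Z) [IsSchemeTheoreticallyDominant q] [QuasiCompact q]
    (hu : ∀ (U : Y.Opens) (a : Γ(Y, U)), a ≠ 0 → ∀ (W : T.Opens) (hW : W ≤ (q ≫ f) ⁻¹ᵁ U)
      (s : Γ(T, W)), ((q ≫ f).appLE U W hW).hom a * s = 0 → s = 0) : Flat f := by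
  rw [HasRingHomProperty.iff_appLE (P := @Flat)]
  intro U V e
  by_cases hUne : Nonempty U.1
  · refine ringHom_flat_of_regular (fun P _ => valuationRing_localization_of_stalk hY U.2 P)
      (f.appLE U V e).hom (q.app V).hom (q.app_injective V) ?_
    intro a ha c hc
    have hle : q ⁻¹ᵁ V.1 ≤ (q ≫ f) ⁻¹ᵁ U.1 := fun x hx => e hx
    have h1 : f.appLE U V e ≫ q.app V = (q ≫ f).appLE U.1 (q ⁻¹ᵁ V.1) hle := by
      rw [Scheme.Hom.app_eq_appLE, Scheme.Hom.appLE_comp_appLE]
    have h2 : (q.app V).hom ((f.appLE U V e).hom a) =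
        ((q ≫ f).appLE U.1 (q ⁻¹ᵁ V.1) hle).hom a := congr($(h1).hom a)
    rw [h2] at hc
    exact hu U.1 a ha _ hle c hc
  · have hsub : Subsingleton Γ(Y, U.1) := by
      have : U.1 = ⊥ := by
        ext x
        simp only [Opens.coe_bot, Set.mem_empty_iff_false, iff_false]
        exact fun hx => hUne ⟨⟨x, hx⟩⟩
      rw [this]
      infer_instance
    letI := (f.appLE U V e).hom.toAlgebra
    change Module.Flat Γ(Y, U.1) Γ(Z, V.1)
    haveI : Module.Free Γ(Y, U.1) Γ(Z, V.1) := Module.Free.of_subsingleton' _ _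
    infer_instance

/-- Nonzero local sections of an integral base act injectively on the sections of a flat
scheme over it. -/
lemma eq_zero_of_mul_eq_zero_of_flat {T Y : Scheme.{u}} [IsIntegral Y] (p : T ⟶ Y) [Flat p]
    (U : Y.Opens) (a : Γ(Y, U)) (ha : a ≠ 0) (W : T.Opens) (hW : W ≤ p ⁻¹ᵁ U) (s : Γ(T, W))
    (h : (p.appLE U W hW).hom a * s = 0) : s = 0 := by
  refine T.IsSheaf.section_ext (U := op W) (fun x hx => ?_)
  have hpx : p x ∈ U := hW hx
  obtain ⟨_, ⟨U'', hU'' : IsAffineOpen U'', rfl⟩, hxU'', hU''U : U'' ≤ U⟩ :=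
    Y.isBasis_affineOpens.exists_subset_of_mem_open hpx U.isOpen
  have hx' : x ∈ W ⊓ p ⁻¹ᵁ U'' := ⟨hx, hxU''⟩
  obtain ⟨_, ⟨V'', hV'' : IsAffineOpen V'', rfl⟩, hxV'', hV''W : V'' ≤ W ⊓ p ⁻¹ᵁ U''⟩ :=
    T.isBasis_affineOpens.exists_subset_of_mem_open hx' (W ⊓ p ⁻¹ᵁ U'').isOpen
  have hVW : V'' ≤ W := hV''W.trans inf_le_left
  have hVU : V'' ≤ p ⁻¹ᵁ U'' := hV''W.trans inf_le_right
  refine ⟨V'', hVW, hxV'', ?_⟩
  rw [map_zero]
  haveI : Nonempty U'' := ⟨⟨p x, hxU''⟩⟩
  -- the restricted section of the base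
  let a'' : Γ(Y, U'') := (Y.presheaf.map (homOfLE hU''U).op).hom a
  have ha'' : a'' ≠ 0 := by
    intro h0
    apply ha
    apply map_injective_of_isIntegral Y (homOfLE hU''U)
    rw [map_zero]
    exact h0
  have hflat : (p.appLE U'' V'' hVU).hom.Flat :=
    HasRingHomProperty.appLE (P := @Flat) p inferInstance ⟨U'', hU''⟩ ⟨V'', hV''⟩ hVU
  -- compatibility of restrictions
  have hcomp : (p.appLE U'' V'' hVU).hom a'' =
      (T.presheaf.map (homOfLE hVW).op).hom ((p.appLE U W hW).hom a) := by
    have e1 : Y.presheaf.map (homOfLE hU''U).op ≫ p.appLE U'' V'' hVU =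
        p.appLE U W hW ≫ T.presheaf.map (homOfLE hVW).op := by
      rw [Scheme.Hom.map_appLE, Scheme.Hom.appLE_map]
    exact congr($(e1).hom a)
  have hmul : (p.appLE U'' V'' hVU).hom a'' * (T.presheaf.map (homOfLE hVW).op).hom s = 0 := by
    rw [hcomp, ← map_mul, h, map_zero]
  -- flatness gives torsion-freeness
  letI := (p.appLE U'' V'' hVU).hom.toAlgebra
  haveI : Module.Flat Γ(Y, U'') Γ(T, V'') := hflat
  have hreg : IsSMulRegular Γ(T, V'') a'' :=
    Module.Flat.isSMulRegular_of_nonZeroDivisors (mem_nonZeroDivisors_of_ne_zero ha'')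
  apply hreg
  change a'' • _ = a'' • (0 : Γ(T, V''))
  rw [smul_zero, Algebra.smul_def]
  exact hmul

/-- Over an integral base whose local rings are valuation rings, a scheme `Z` receiving a
scheme-theoretically dominant quasi-compact morphism from a flat scheme is flat. -/
lemma flat_of_flat_comp {T Z Y : Scheme.{u}} [IsIntegral Y]
    (hY : ∀ y : Y, ValuationRing (Y.presheaf.stalk y))
    (f : Z ⟶ Y) (q : T ⟶ Z) [IsSchemeTheoreticallyDominant q] [QuasiCompact q]
    [Flat (q ≫ f)] : Flat f :=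
  flat_of_regular hY f q (fun U a ha W hW s h =>
    eq_zero_of_mul_eq_zero_of_flat (q ≫ f) U a ha W hW s h)

end Groth.Agent.Lib.Helper7.FlatClosure
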