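import Mathlib
import Groth.Agent.Lib.Helper7.FlatClosure

/-!
# The scheme-theoretic image of a flat scheme over a Dedekind-like base is flat (helper7)

No quasi-compactness is assumed on the morphism.
-/

set_option autoImplicit false
set_option linter.style.haveILetI false
universe u

namespace Groth.Agent.Lib.Helper7.FlatClosure

open AlgebraicGeometry CategoryTheory CategoryTheory.Limits TopologicalSpace Opposite
open Groth.Agent.Lib.Helper7.GenFibreDense

/-- A morphism whose restriction along a scheme-theoretically dominant morphism factors through a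
closed immersion factors through it. -/
lemma exists_lift_of_schDominant {T' T Z X : Scheme.{u}} (z : Z ⟶ X) [IsClosedImmersion z]
    (a : T ⟶ X) (d : T' ⟶ T) [IsSchemeTheoreticallyDominant d] (b : T' ⟶ Z)
    (h : b ≫ z = d ≫ a) : ∃ a' : T ⟶ Z, a' ≫ z = a := by
  have hk : z.ker ≤ a.ker := by
    calc z.ker ≤ (b ≫ z).ker := Scheme.Hom.le_ker_comp _ _
      _ = (d ≫ a).ker := by rw [h]
      _ = d.ker.map a := Scheme.Hom.ker_comp _ _
      _ = a.ker := by rw [d.ker_eq_bot, Scheme.IdealSheafData.map_bot]
  exact ⟨IsClosedImmersion.lift z a hk, IsClosedImmersion.lift_fac _ _ _⟩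

/-- Over an integral base whose local rings are valuation rings, the scheme-theoretic image of
a flat scheme (under an arbitrary morphism over the base) is flat. -/
lemma flat_imageι_of_flat {X Y B : Scheme.{u}} [IsIntegral B]
    (hB : ∀ y : B, ValuationRing (B.presheaf.stalk y)) (η : B)
    (hη : closure {η} = (Set.univ : Set B)) (p : X ⟶ B) (q : Y ⟶ B) (f : X ⟶ Y)
    (w : f ≫ q = p) [Flat p] : Flat (f.imageι ≫ q) := by
  haveI := schDominant_fromSpecResidueField η hη
  let gη := B.fromSpecResidueField η
  let r : f.image ⟶ B := f.imageι ≫ q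
  let j : r.fiber η ⟶ f.image := r.fiberι η
  haveI : QuasiCompact j := inferInstanceAs (QuasiCompact (pullback.fst r gη))
  -- the flat closure of the generic fibre of the image
  haveI hflat : Flat (j.imageι ≫ r) := by
    refine flat_of_factors_generic hB η hη _ j.toImage (r.fiberToSpecResidueField η) ?_
    rw [Scheme.Hom.toImage_imageι_assoc]
    exact r.fiber_fac η
  -- `f.toImage` factors through it
  let d : pullback p gη ⟶ X := pullback.fst p gη
  haveI : IsSchemeTheoreticallyDominant d := inferInstance
  have hr : f.toImage ≫ r = p := by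
    change f.toImage ≫ f.imageι ≫ q = p
    rw [Scheme.Hom.toImage_imageι_assoc, w]
  let k : pullback p gη ⟶ r.fiber η :=
    pullback.lift (d ≫ f.toImage) (pullback.snd p gη)
      (by rw [Category.assoc, hr]; exact pullback.condition)
  have hk : k ≫ j = d ≫ f.toImage := pullback.lift_fst _ _ _
  obtain ⟨c, hc⟩ := exists_lift_of_schDominant j.imageι f.toImage d (k ≫ j.toImage)
    (by rw [Category.assoc, Scheme.Hom.toImage_imageι, hk])
  -- hence the flat closure is everything
  have hker : (j.imageι ≫ f.imageι).ker = f.imageι.ker := by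
    apply le_antisymm
    · calc (j.imageι ≫ f.imageι).ker ≤ (c ≫ j.imageι ≫ f.imageι).ker :=
            Scheme.Hom.le_ker_comp _ _
        _ = f.ker := by rw [reassoc_of% hc, Scheme.Hom.toImage_imageι]
        _ = f.imageι.ker := (Scheme.IdealSheafData.ker_subschemeι _).symm
    · exact Scheme.Hom.le_ker_comp _ _
  haveI : IsIso j.imageι :=
    IsClosedImmersion.isIso_of_ker_eq (j.imageι ≫ f.imageι) f.imageι j.imageι rfl hker
  have : f.imageι ≫ q = inv j.imageι ≫ (j.imageι ≫ r) := by
    rw [IsIso.inv_hom_id_assoc]
  rw [this]
  infer_instance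

end Groth.Agent.Lib.Helper7.FlatClosure
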