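import Mathlib.LinearAlgebra.FreeModule.Finite.CardQuotient
import Mathlib.GroupTheory.Index
import Mathlib.Data.ZMod.QuotientGroup
import Mathlib.RingTheory.PrincipalIdealDomain
import Mathlib.LinearAlgebra.Matrix.ToLin
import Mathlib.LinearAlgebra.Matrix.Rank
import Mathlib.LinearAlgebra.Pi
import Mathlib.Tactic
import Mathlib.LinearAlgebra.Dimension.RankNullity
import Mathlib.LinearAlgebra.Dimension.Free
import Mathlib.LinearAlgebra.FiniteDimensional.Defs

/-!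
# helper7: index calculus on `ℤⁿ` for diagonal maps (used for S14805, S14806)
-/

set_option autoImplicit false

namespace Groth.Agent.Lib.Helper7.IndexCalc

open Finset

theorem index_calc {M : Type*} [AddCommGroup M] (D : M →+ M) (hD : Function.Injective D)
    (S : M →+ ℤ) (hS : Function.Surjective S)
    (IA : AddSubgroup M) (hIA : IA ≤ (S.comp D).ker) :
    IA.relIndex (S.comp D).ker * D.range.index =
      (D.range.map S).index * (IA.map D).relIndex S.ker := by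
  have h1 : IA.relIndex (S.comp D).ker = (IA.map D).relIndex ((S.comp D).ker.map D) :=
    (AddSubgroup.relIndex_map_map_of_injective IA (S.comp D).ker hD).symm
  have h2 : (S.comp D).ker.map D = S.ker ⊓ D.range := by
    ext x
    simp only [AddSubgroup.mem_map, AddMonoidHom.mem_ker, AddMonoidHom.comp_apply,
      AddSubgroup.mem_inf, AddMonoidHom.mem_range]
    constructor
    · rintro ⟨y, hy, rfl⟩; exact ⟨hy, y, rfl⟩
    · rintro ⟨hx, y, rfl⟩; exact ⟨y, hx, rfl⟩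
  have hle1 : IA.map D ≤ S.ker ⊓ D.range := by
    rw [← h2]; exact AddSubgroup.map_mono hIA
  have h3 := AddSubgroup.relIndex_mul_relIndex (IA.map D) (S.ker ⊓ D.range) S.ker hle1 inf_le_left
  have h4 : (S.ker ⊓ D.range).relIndex S.ker = D.range.relIndex S.ker := by
    rw [inf_comm]; exact AddSubgroup.inf_relIndex_right D.range S.ker
  have h5 : D.range.relIndex (S.ker ⊔ D.range) = D.range.relIndex S.ker :=
    AddSubgroup.relIndex_sup_right S.ker D.range
  have h6 := AddSubgroup.relIndex_mul_index (show D.range ≤ S.ker ⊔ D.range from le_sup_right)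
  have h7 : (S.ker ⊔ D.range).index = (D.range.map S).index := by
    rw [sup_comm, ← AddSubgroup.comap_map_eq, AddSubgroup.index_comap_of_surjective _ hS]
  rw [h1, h2, ← h6, h5, ← h4, h7, ← h3]
  ring

theorem diag_injective (n : ℕ) (δ : Fin n → ℤ) (hδ : ∀ i, δ i ≠ 0) :
    Function.Injective (Matrix.mulVecLin (Matrix.diagonal δ)) := by
  intro x y hxy
  funext i
  have := congrFun hxy i
  simp only [Matrix.mulVecLin_apply, Matrix.mulVec_diagonal] at this
  exact mul_left_cancel₀ (hδ i) this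

theorem index_range_diag (n : ℕ) (δ : Fin n → ℤ) (hδ : ∀ i, δ i ≠ 0) :
    (LinearMap.range (Matrix.mulVecLin (Matrix.diagonal δ))).toAddSubgroup.index =
      (∏ i, δ i).natAbs := by
  have hinj := diag_injective n δ hδ
  let e := LinearEquiv.ofInjective (Matrix.mulVecLin (Matrix.diagonal δ)) hinj
  have h1 := Submodule.natAbs_det_equiv (LinearMap.range (Matrix.mulVecLin (Matrix.diagonal δ))) e
  have h2 : (LinearMap.range (Matrix.mulVecLin (Matrix.diagonal δ))).subtype ∘ₗ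
      AddMonoidHom.toIntLinearMap
        (e : (Fin n → ℤ) →+ LinearMap.range (Matrix.mulVecLin (Matrix.diagonal δ))) =
      Matrix.mulVecLin (Matrix.diagonal δ) := by
    ext x i
    rfl
  rw [h2, ← Matrix.toLin'_apply', LinearMap.det_toLin', Matrix.det_diagonal] at h1
  rw [h1]
  rfl

theorem map_sum_range_diag (n : ℕ) (δ : Fin n → ℤ) :
    (Matrix.mulVecLin (Matrix.diagonal δ)).toAddMonoidHom.range.map
      (∑ i : Fin n, (LinearMap.proj i : (Fin n → ℤ) →ₗ[ℤ] ℤ)).toAddMonoidHom =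
      AddSubgroup.zmultiples (univ.gcd δ) := by
  apply le_antisymm
  · rintro x ⟨y, ⟨z, rfl⟩, rfl⟩
    rw [Int.mem_zmultiples_iff]
    simp only [LinearMap.toAddMonoidHom_coe, Matrix.mulVecLin_apply, LinearMap.coe_sum,
      Finset.sum_apply, LinearMap.proj_apply, Matrix.mulVec_diagonal]
    exact Finset.dvd_sum fun i _ => Dvd.dvd.mul_right (Finset.gcd_dvd (Finset.mem_univ i)) _
  · apply AddSubgroup.zmultiples_le_of_mem
    obtain ⟨g, hg⟩ := Finset.gcd_eq_sum_mul univ δ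
    refine ⟨Matrix.mulVecLin (Matrix.diagonal δ) g, ⟨g, rfl⟩, ?_⟩
    rw [hg]
    simp only [LinearMap.toAddMonoidHom_coe, Matrix.mulVecLin_apply, LinearMap.coe_sum,
      Finset.sum_apply, LinearMap.proj_apply, Matrix.mulVec_diagonal]

theorem sum_surjective (n : ℕ) (hn : 0 < n) :
    Function.Surjective (∑ i : Fin n, (LinearMap.proj i : (Fin n → ℤ) →ₗ[ℤ] ℤ)).toAddMonoidHom := by
  intro c
  refine ⟨Pi.single ⟨0, hn⟩ c, ?_⟩
  simp only [LinearMap.toAddMonoidHom_coe, LinearMap.coe_sum, Finset.sum_apply,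
    LinearMap.proj_apply]
  rw [Finset.sum_eq_single ⟨0, hn⟩]
  · simp
  · intro b _ hb; simp [hb]
  · intro h; exact absurd (Finset.mem_univ _) h

/-- the relIndex form: `[ker(SD) : im A] · |det D| = d · [ker S : im (D A)]` in `ℕ` -/
theorem main_nat (n : ℕ) (hn : 0 < n) (δ : Fin n → ℤ) (hδ : ∀ i, δ i ≠ 0)
    (Al : (Fin n → ℤ) →ₗ[ℤ] (Fin n → ℤ))
    (hSDA : (∑ i : Fin n, (LinearMap.proj i : (Fin n → ℤ) →ₗ[ℤ] ℤ)) ∘ₗ
        (Matrix.mulVecLin (Matrix.diagonal δ)) ∘ₗ Al = 0) :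
    (LinearMap.range Al).toAddSubgroup.relIndex
        (LinearMap.ker ((∑ i : Fin n, (LinearMap.proj i : (Fin n → ℤ) →ₗ[ℤ] ℤ)) ∘ₗ
          (Matrix.mulVecLin (Matrix.diagonal δ)))).toAddSubgroup * (∏ i, δ i).natAbs =
      (univ.gcd δ).natAbs *
        (LinearMap.range ((Matrix.mulVecLin (Matrix.diagonal δ)) ∘ₗ Al)).toAddSubgroup.relIndex
          (LinearMap.ker (∑ i : Fin n, (LinearMap.proj i : (Fin n → ℤ) →ₗ[ℤ] ℤ))).toAddSubgroup := by
  have key := index_calc (Matrix.mulVecLin (Matrix.diagonal δ)).toAddMonoidHom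
    (diag_injective n δ hδ)
    (∑ i : Fin n, (LinearMap.proj i : (Fin n → ℤ) →ₗ[ℤ] ℤ)).toAddMonoidHom (sum_surjective n hn)
    (LinearMap.range Al).toAddSubgroup (by
      rintro x ⟨y, rfl⟩
      have := LinearMap.congr_fun hSDA y
      exact this)
  rw [map_sum_range_diag, Int.index_zmultiples] at key
  have hidx : (Matrix.mulVecLin (Matrix.diagonal δ)).toAddMonoidHom.range.index =
      (∏ i, δ i).natAbs := index_range_diag n δ hδ
  rw [hidx] at key
  have hmap : (LinearMap.range Al).toAddSubgroup.map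
      (Matrix.mulVecLin (Matrix.diagonal δ)).toAddMonoidHom =
      (LinearMap.range ((Matrix.mulVecLin (Matrix.diagonal δ)) ∘ₗ Al)).toAddSubgroup := by
    ext x
    constructor
    · rintro ⟨y, ⟨z, rfl⟩, rfl⟩; exact ⟨z, rfl⟩
    · rintro ⟨z, rfl⟩; exact ⟨Al z, ⟨z, rfl⟩, rfl⟩
  rw [hmap] at key
  exact key

theorem gcd_nonneg' (n : ℕ) (δ : Fin n → ℤ) : ((univ.gcd δ).natAbs : ℤ) = univ.gcd δ := by
  rw [Int.natCast_natAbs, Int.abs_eq_normalize, Finset.normalize_gcd]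

/-- the statement of S14805 for a general linear map in place of `A` -/
theorem main (n : ℕ) (hn : 0 < n) (δ : Fin n → ℤ) (hδ : ∀ i, δ i ≠ 0)
    (A : Matrix (Fin n) (Fin n) ℤ)
    (hSDA : (∑ i : Fin n, (LinearMap.proj i : (Fin n → ℤ) →ₗ[ℤ] ℤ)) ∘ₗ
        (Matrix.mulVecLin (Matrix.diagonal δ)) ∘ₗ (Matrix.mulVecLin A) = 0) :
    (Nat.card (LinearMap.ker ((∑ i : Fin n, (LinearMap.proj i : (Fin n → ℤ) →ₗ[ℤ] ℤ)) ∘ₗ (Matrix.mulVecLin (Matrix.diagonal δ))) ⧸
          (LinearMap.range (Matrix.mulVecLin A)).comap (LinearMap.ker ((∑ i : Fin n, (LinearMap.proj i : (Fin n → ℤ) →ₗ[ℤ] ℤ)) ∘ₗ (Matrix.mulVecLin (Matrix.diagonal δ)))).subtype) : ℤ) * |∏ i, δ i| =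
      (univ.gcd δ) * Nat.card (LinearMap.ker (∑ i : Fin n, (LinearMap.proj i : (Fin n → ℤ) →ₗ[ℤ] ℤ)) ⧸ (LinearMap.range ((Matrix.mulVecLin (Matrix.diagonal δ)) ∘ₗ (Matrix.mulVecLin A))).comap (LinearMap.ker (∑ i : Fin n, (LinearMap.proj i : (Fin n → ℤ) →ₗ[ℤ] ℤ))).subtype) := by
  have key := main_nat n hn δ hδ (Matrix.mulVecLin A) hSDA
  have key' := congrArg (fun k : ℕ => (k : ℤ)) key
  simp only [Nat.cast_mul, Int.natCast_natAbs] at key'
  rw [← Int.natCast_natAbs (univ.gcd δ), gcd_nonneg'] at key'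
  exact key'

open Module in
theorem ker_rank_one (n : ℕ) (hn : 0 < n) (A : Matrix (Fin n) (Fin n) ℤ) (hA : A.rank = n - 1) :
    ∃ v : Fin n → ℤ, v ∈ LinearMap.ker (Matrix.mulVecLin A) ∧
      ∀ x ∈ LinearMap.ker (Matrix.mulVecLin A), ∃ k : ℤ, x = k • v := by
  have h1 := (LinearMap.ker (Matrix.mulVecLin A)).finrank_quotient_add_finrank
  rw [(Matrix.mulVecLin A).quotKerEquivRange.finrank_eq] at h1
  have h2 : finrank ℤ (LinearMap.range (Matrix.mulVecLin A)) = n - 1 := hA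
  have h3 : finrank ℤ (Fin n → ℤ) = n := by simp
  have hfr : finrank ℤ (LinearMap.ker (Matrix.mulVecLin A)) = 1 := by omega
  obtain ⟨b⟩ := (finrank_eq_one_iff Unit).mp hfr
  refine ⟨(b ()).1, (b ()).2, fun x hx => ?_⟩
  refine ⟨b.repr ⟨x, hx⟩ (), ?_⟩
  have := b.sum_repr ⟨x, hx⟩
  simp only [univ_unique, PUnit.default_eq_unit, sum_singleton] at this
  have h4 := congrArg Subtype.val this
  simp only [Submodule.coe_smul] at h4
  exact h4.symm

theorem relIndex_ker (n : ℕ) (hn : 0 < n) (δ' : Fin n → ℤ) (hδ' : ∀ i, δ' i ≠ 0)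
    (A : Matrix (Fin n) (Fin n) ℤ) (hA : A.rank = n - 1)
    (hmem : δ' ∈ LinearMap.ker (Matrix.mulVecLin A)) :
    (LinearMap.range (Matrix.mulVecLin (Matrix.diagonal δ'))).toAddSubgroup.relIndex
      (LinearMap.ker (Matrix.mulVecLin A)).toAddSubgroup = (univ.gcd δ').natAbs := by
  obtain ⟨v, hv, hgen⟩ := ker_rank_one n hn A hA
  obtain ⟨c, hc⟩ := hgen δ' hmem
  have hci : ∀ i, δ' i = c * v i := fun i => by rw [hc]; simp
  have hvi : ∀ i, v i ≠ 0 := fun i h0 => hδ' i (by rw [hci, h0, mul_zero])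
  have hc0 : c ≠ 0 := fun h0 => hδ' ⟨0, hn⟩ (by rw [hci, h0, zero_mul])
  -- v is primitive
  have hprim : univ.gcd v = 1 := by
    have hg0 : univ.gcd v ≠ 0 := by
      intro h
      exact hvi ⟨0, hn⟩ (Finset.gcd_eq_zero_iff.mp h ⟨0, hn⟩ (Finset.mem_univ _))
    have hw : v = (univ.gcd v) • (fun i => v i / univ.gcd v) := by
      funext i
      simp only [Pi.smul_apply, smul_eq_mul]
      exact (Int.mul_ediv_cancel' (Finset.gcd_dvd (Finset.mem_univ i))).symm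
    have hwker : (fun i => v i / univ.gcd v) ∈ LinearMap.ker (Matrix.mulVecLin A) := by
      rw [LinearMap.mem_ker] at hv ⊢
      rw [hw, map_smul] at hv
      exact (smul_eq_zero.mp hv).resolve_left hg0
    obtain ⟨k, hk⟩ := hgen _ hwker
    have h1 : v ⟨0, hn⟩ = univ.gcd v * (k * v ⟨0, hn⟩) := by
      have h2 := congrFun hw ⟨0, hn⟩
      have h3 := congrFun hk ⟨0, hn⟩
      simp only [Pi.smul_apply, smul_eq_mul] at h2 h3
      rw [h3] at h2
      exact h2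
    have h4 : univ.gcd v * k = 1 := by
      have : (univ.gcd v * k) * v ⟨0, hn⟩ = 1 * v ⟨0, hn⟩ := by rw [one_mul]; rw [mul_assoc]; exact h1.symm
      exact mul_right_cancel₀ (hvi ⟨0, hn⟩) this
    have h5 : IsUnit (univ.gcd v) := IsUnit.of_mul_eq_one _ h4
    have h6 := gcd_nonneg' n v
    rcases Int.isUnit_iff.mp h5 with h7 | h7
    · exact h7
    · rw [h7] at h6; norm_num at h6
  have hd' : (univ.gcd δ').natAbs = c.natAbs := by
    have : δ' = fun i => c * v i := funext hci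
    rw [this, Finset.gcd_mul_left, hprim, mul_one, ← Int.abs_eq_normalize, Int.natAbs_abs]
  -- the isomorphism ℤ ≅ ker A
  let φ : ℤ →+ (Fin n → ℤ) := (LinearMap.toSpanSingleton ℤ (Fin n → ℤ) v).toAddMonoidHom
  have hφ : ∀ k : ℤ, φ k = k • v := fun k => rfl
  have hrange : φ.range = (LinearMap.ker (Matrix.mulVecLin A)).toAddSubgroup := by
    ext x
    constructor
    · rintro ⟨k, rfl⟩
      rw [hφ]
      exact Submodule.smul_mem _ k hv
    · intro hx
      obtain ⟨k, hk⟩ := hgen x hx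
      exact ⟨k, by rw [hφ, hk]⟩
  rw [← hrange, ← AddSubgroup.index_comap]
  have hcomap : (LinearMap.range (Matrix.mulVecLin (Matrix.diagonal δ'))).toAddSubgroup.comap φ =
      AddSubgroup.zmultiples c := by
    ext k
    rw [Int.mem_zmultiples_iff, AddSubgroup.mem_comap, hφ]
    constructor
    · rintro ⟨y, hy⟩
      have h1 := congrFun hy ⟨0, hn⟩
      simp only [Matrix.mulVecLin_apply, Matrix.mulVec_diagonal, Pi.smul_apply, smul_eq_mul] at h1
      rw [hci] at h1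
      have h2 : c * v ⟨0, hn⟩ ∣ k * v ⟨0, hn⟩ := ⟨y ⟨0, hn⟩, h1.symm⟩
      exact (mul_dvd_mul_iff_right (hvi ⟨0, hn⟩)).mp h2
    · rintro ⟨t, rfl⟩
      refine ⟨fun _ => t, ?_⟩
      funext i
      simp only [Matrix.mulVecLin_apply, Matrix.mulVec_diagonal, Pi.smul_apply, smul_eq_mul]
      rw [hci]; ring
  rw [hcomap, Int.index_zmultiples, hd']

/-- `[im(DA) : im(DAD')] · d' = |det D'|` -/
theorem rel_calc (n : ℕ) (hn : 0 < n) (δ δ' : Fin n → ℤ) (hδ : ∀ i, δ i ≠ 0) (hδ' : ∀ i, δ' i ≠ 0)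
    (A : Matrix (Fin n) (Fin n) ℤ) (hA : A.rank = n - 1)
    (hADΔ : (Matrix.mulVecLin A) ∘ₗ (Matrix.mulVecLin (Matrix.diagonal δ')) ∘ₗ
        (LinearMap.pi fun _ : Fin n => (LinearMap.id : ℤ →ₗ[ℤ] ℤ)) = 0) :
    (univ.gcd δ').natAbs *
      (LinearMap.range ((Matrix.mulVecLin (Matrix.diagonal δ)) ∘ₗ (Matrix.mulVecLin A) ∘ₗ
        (Matrix.mulVecLin (Matrix.diagonal δ')))).toAddSubgroup.relIndex
        (LinearMap.range ((Matrix.mulVecLin (Matrix.diagonal δ)) ∘ₗ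
          (Matrix.mulVecLin A))).toAddSubgroup = (∏ i, δ' i).natAbs := by
  have hmem : δ' ∈ LinearMap.ker (Matrix.mulVecLin A) := by
    have h1 := LinearMap.congr_fun hADΔ 1
    simp only [LinearMap.comp_apply, LinearMap.zero_apply] at h1
    rw [LinearMap.mem_ker]
    convert h1 using 2
    funext i
    simp [Matrix.mulVec_diagonal]
  have hrel := relIndex_ker n hn δ' hδ' A hA hmem
  set g : (Fin n → ℤ) →+ (Fin n → ℤ) :=
    ((Matrix.mulVecLin (Matrix.diagonal δ)) ∘ₗ (Matrix.mulVecLin A)).toAddMonoidHom with hg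
  have h1 : (LinearMap.range ((Matrix.mulVecLin (Matrix.diagonal δ)) ∘ₗ (Matrix.mulVecLin A) ∘ₗ
        (Matrix.mulVecLin (Matrix.diagonal δ')))).toAddSubgroup =
      (LinearMap.range (Matrix.mulVecLin (Matrix.diagonal δ'))).toAddSubgroup.map g := by
    ext x
    constructor
    · rintro ⟨z, rfl⟩; exact ⟨_, ⟨z, rfl⟩, rfl⟩
    · rintro ⟨y, ⟨z, rfl⟩, rfl⟩; exact ⟨z, rfl⟩
  have h2 : (LinearMap.range ((Matrix.mulVecLin (Matrix.diagonal δ)) ∘ₗ
          (Matrix.mulVecLin A))).toAddSubgroup = (⊤ : AddSubgroup (Fin n → ℤ)).map g := by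
    ext x
    constructor
    · rintro ⟨z, rfl⟩; exact ⟨z, trivial, rfl⟩
    · rintro ⟨z, _, rfl⟩; exact ⟨z, rfl⟩
  have h3 : g.ker = (LinearMap.ker (Matrix.mulVecLin A)).toAddSubgroup := by
    ext x
    constructor
    · intro hx
      have hx' : Matrix.mulVecLin (Matrix.diagonal δ) (Matrix.mulVecLin A x) = 0 := hx
      have : Matrix.mulVecLin A x = 0 := diag_injective n δ hδ (by rw [hx', map_zero])
      exact this
    · intro hx
      have hx' : Matrix.mulVecLin A x = 0 := hx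
      change Matrix.mulVecLin (Matrix.diagonal δ) (Matrix.mulVecLin A x) = 0
      rw [hx', map_zero]
  rw [h1, h2, AddSubgroup.relIndex_map_map, top_sup_eq, AddSubgroup.relIndex_top_right, h3]
  have h4 := AddSubgroup.relIndex_sup_right (LinearMap.ker (Matrix.mulVecLin A)).toAddSubgroup
    (LinearMap.range (Matrix.mulVecLin (Matrix.diagonal δ'))).toAddSubgroup
  have h5 := AddSubgroup.relIndex_mul_index
    (show (LinearMap.range (Matrix.mulVecLin (Matrix.diagonal δ'))).toAddSubgroup ≤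
      (LinearMap.ker (Matrix.mulVecLin A)).toAddSubgroup ⊔
        (LinearMap.range (Matrix.mulVecLin (Matrix.diagonal δ'))).toAddSubgroup from le_sup_right)
  rw [h4, hrel, index_range_diag n δ' hδ', sup_comm] at h5
  exact h5

/-- the statement of S14806 -/
theorem main2 (n : ℕ) (hn : 0 < n) (δ δ' : Fin n → ℤ) (hδ : ∀ i, δ i ≠ 0) (hδ' : ∀ i, δ' i ≠ 0)
    (A : Matrix (Fin n) (Fin n) ℤ) (hA : A.rank = n - 1)
    (hSDA : (∑ i : Fin n, (LinearMap.proj i : (Fin n → ℤ) →ₗ[ℤ] ℤ)) ∘ₗ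
        (Matrix.mulVecLin (Matrix.diagonal δ)) ∘ₗ (Matrix.mulVecLin A) = 0)
    (hADΔ : (Matrix.mulVecLin A) ∘ₗ (Matrix.mulVecLin (Matrix.diagonal δ')) ∘ₗ
        (LinearMap.pi fun _ : Fin n => (LinearMap.id : ℤ →ₗ[ℤ] ℤ)) = 0) :
    (Nat.card (LinearMap.ker ((∑ i : Fin n, (LinearMap.proj i : (Fin n → ℤ) →ₗ[ℤ] ℤ)) ∘ₗ (Matrix.mulVecLin (Matrix.diagonal δ))) ⧸
          (LinearMap.range (Matrix.mulVecLin A)).comap (LinearMap.ker ((∑ i : Fin n, (LinearMap.proj i : (Fin n → ℤ) →ₗ[ℤ] ℤ)) ∘ₗ (Matrix.mulVecLin (Matrix.diagonal δ)))).subtype) : ℤ) * |∏ i, δ i| * |∏ i, δ' i| =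
      (univ.gcd δ) * (univ.gcd δ') * Nat.card (LinearMap.ker (∑ i : Fin n, (LinearMap.proj i : (Fin n → ℤ) →ₗ[ℤ] ℤ)) ⧸
          (LinearMap.range ((Matrix.mulVecLin (Matrix.diagonal δ)) ∘ₗ (Matrix.mulVecLin A) ∘ₗ (Matrix.mulVecLin (Matrix.diagonal δ')))).comap (LinearMap.ker (∑ i : Fin n, (LinearMap.proj i : (Fin n → ℤ) →ₗ[ℤ] ℤ))).subtype) := by
  have key := main_nat n hn δ hδ (Matrix.mulVecLin A) hSDA
  have hrel := rel_calc n hn δ δ' hδ hδ' A hA hADΔ
  -- [ker S : im DAD'] = [im DA : im DAD'] * [ker S : im DA]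
  have hle1 : (LinearMap.range ((Matrix.mulVecLin (Matrix.diagonal δ)) ∘ₗ (Matrix.mulVecLin A) ∘ₗ
        (Matrix.mulVecLin (Matrix.diagonal δ')))).toAddSubgroup ≤
      (LinearMap.range ((Matrix.mulVecLin (Matrix.diagonal δ)) ∘ₗ
          (Matrix.mulVecLin A))).toAddSubgroup := by
    rintro x ⟨z, rfl⟩
    exact ⟨Matrix.mulVecLin (Matrix.diagonal δ') z, rfl⟩
  have hle2 : (LinearMap.range ((Matrix.mulVecLin (Matrix.diagonal δ)) ∘ₗ
          (Matrix.mulVecLin A))).toAddSubgroup ≤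
      (LinearMap.ker (∑ i : Fin n, (LinearMap.proj i : (Fin n → ℤ) →ₗ[ℤ] ℤ))).toAddSubgroup := by
    rintro x ⟨z, rfl⟩
    exact LinearMap.congr_fun hSDA z
  have hmul := AddSubgroup.relIndex_mul_relIndex _ _ _ hle1 hle2
  have hcard1 : Nat.card (LinearMap.ker ((∑ i : Fin n, (LinearMap.proj i : (Fin n → ℤ) →ₗ[ℤ] ℤ)) ∘ₗ (Matrix.mulVecLin (Matrix.diagonal δ))) ⧸
          (LinearMap.range (Matrix.mulVecLin A)).comap (LinearMap.ker ((∑ i : Fin n, (LinearMap.proj i : (Fin n → ℤ) →ₗ[ℤ] ℤ)) ∘ₗ (Matrix.mulVecLin (Matrix.diagonal δ)))).subtype) =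
      (LinearMap.range (Matrix.mulVecLin A)).toAddSubgroup.relIndex
        (LinearMap.ker ((∑ i : Fin n, (LinearMap.proj i : (Fin n → ℤ) →ₗ[ℤ] ℤ)) ∘ₗ
          (Matrix.mulVecLin (Matrix.diagonal δ)))).toAddSubgroup := rfl
  have hcard2 : Nat.card (LinearMap.ker (∑ i : Fin n, (LinearMap.proj i : (Fin n → ℤ) →ₗ[ℤ] ℤ)) ⧸
          (LinearMap.range ((Matrix.mulVecLin (Matrix.diagonal δ)) ∘ₗ (Matrix.mulVecLin A) ∘ₗ (Matrix.mulVecLin (Matrix.diagonal δ')))).comap (LinearMap.ker (∑ i : Fin n, (LinearMap.proj i : (Fin n → ℤ) →ₗ[ℤ] ℤ))).subtype) =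
      (LinearMap.range ((Matrix.mulVecLin (Matrix.diagonal δ)) ∘ₗ (Matrix.mulVecLin A) ∘ₗ
        (Matrix.mulVecLin (Matrix.diagonal δ')))).toAddSubgroup.relIndex
        (LinearMap.ker (∑ i : Fin n, (LinearMap.proj i : (Fin n → ℤ) →ₗ[ℤ] ℤ))).toAddSubgroup := rfl
  have hd : |univ.gcd δ| = univ.gcd δ := by rw [← Int.natCast_natAbs]; exact gcd_nonneg' n δ
  have hd' : |univ.gcd δ'| = univ.gcd δ' := by rw [← Int.natCast_natAbs]; exact gcd_nonneg' n δ'
  rw [hcard1, hcard2, ← hmul]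
  have e1 := congrArg (fun k : ℕ => (k : ℤ)) key
  have e2 := congrArg (fun k : ℕ => (k : ℤ)) hrel
  push_cast at e1 e2 ⊢
  rw [hd] at e1
  rw [hd'] at e2
  linear_combination |∏ i, δ' i| * e1 - univ.gcd δ * ((LinearMap.range ((Matrix.mulVecLin (Matrix.diagonal δ)) ∘ₗ
          (Matrix.mulVecLin A))).toAddSubgroup.relIndex
        (LinearMap.ker (∑ i : Fin n, (LinearMap.proj i : (Fin n → ℤ) →ₗ[ℤ] ℤ))).toAddSubgroup : ℤ) * e2

end Groth.Agent.Lib.Helper7.IndexCalc
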