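import Mathlib
import Groth.Prelude
import Groth.Agent.S4787
import Groth.Agent.Lib.Helper36.ProConsScheme

set_option autoImplicit false
universe u
open CategoryTheory CategoryTheory.Limits AlgebraicGeometry
open scoped Set.Notation

namespace Groth.Agent.Lib.Helper7.LimIndCons

open Groth.Agent.Lib.Helper36

/-- A union of ind-constructible subsets of a scheme is ind-constructible. -/
theorem isIndConstructible_iUnion {X : Scheme.{u}} {ι : Sort*} {E : ι → Set X}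
    (h : ∀ i, ProCons.IsIndConstructible (E i)) : ProCons.IsIndConstructible (⋃ i, E i) := by
  apply isIndConstructible_of_forall_exists_isOpen_up
  intro x
  obtain ⟨W, hW, hxW⟩ := scheme_exists_isGoodOpen X x
  refine ⟨W, hW, hxW, ?_⟩
  have : W ↓∩ (⋃ i, E i) = ⋃ i, W ↓∩ E i := by
    ext w; simp
  rw [this, up_iUnion]
  exact isOpen_iUnion fun i => isOpen_up_of_isIndConstructible (h i) hW

theorem isProConstructible_univ {X : Type*} [TopologicalSpace X] :
    ProCons.IsProConstructible (Set.univ : Set X) := by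
  intro x
  refine ⟨Set.univ, isOpen_univ, Set.mem_univ x, ∅, fun T hT => (Set.notMem_empty T hT).elim, ?_⟩
  simp

theorem isIndConstructible_empty {X : Type*} [TopologicalSpace X] :
    ProCons.IsIndConstructible (∅ : Set X) := by
  intro x
  refine ⟨Set.univ, isOpen_univ, Set.mem_univ x, ∅, fun T hT => (Set.notMem_empty T hT).elim, ?_⟩
  simp

theorem exists_stage_preimage_eq_univ {I : Type u} [SmallCategory I] [IsCofiltered I]
    (D : I ⥤ Scheme.{u}) (c : Limits.Cone D) (hc : Limits.IsLimit c)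
    [∀ (i j : I) (f : i ⟶ j), IsAffineHom (D.map f)] [∀ i, CompactSpace (D.obj i)] (i₁ : I)
    (F : Set (D.obj i₁)) (hF : ProCons.IsIndConstructible F)
    (h : (c.π.app i₁).base ⁻¹' F = Set.univ) :
    ∃ (j : I) (θ : j ⟶ i₁), (D.map θ).base ⁻¹' F = Set.univ := by
  classical
  -- the two families
  let E : ∀ i : I, Set (D.obj i) := fun _ => Set.univ
  let F' : ∀ i : I, Set (D.obj i) := fun i => ⋃ (φ : i ⟶ i₁), (D.map φ).base ⁻¹' F
  have hE : ∀ i, ProCons.IsProConstructible (E i) := fun i => isProConstructible_univ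
  have hF' : ∀ i, ProCons.IsIndConstructible (F' i) := fun i =>
    isIndConstructible_iUnion fun φ => Groth.Agent.S15543.result (D.map φ) F hF
  have hEm : ∀ (i j : I) (φ : i ⟶ j), E i ⊆ ⇑(D.map φ) ⁻¹' E j := fun i j φ x _ => Set.mem_univ _
  have hFm : ∀ (i j : I) (φ : i ⟶ j), ⇑(D.map φ) ⁻¹' F' j ⊆ F' i := by
    intro i j φ x hx
    obtain ⟨ψ, hψ⟩ := Set.mem_iUnion.mp hx
    refine Set.mem_iUnion.mpr ⟨φ ≫ ψ, ?_⟩
    change (D.map (φ ≫ ψ)) x ∈ F
    rw [D.map_comp, Scheme.Hom.comp_apply]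
    exact hψ
  have hsub : (⋂ i, ⇑(c.π.app i) ⁻¹' E i : Set c.pt) ⊆ (⋃ i, ⇑(c.π.app i) ⁻¹' F' i : Set c.pt) := by
    intro s _
    refine Set.mem_iUnion.mpr ⟨i₁, ?_⟩
    change (c.π.app i₁) s ∈ F' i₁
    refine Set.mem_iUnion.mpr ⟨𝟙 i₁, ?_⟩
    change (D.map (𝟙 i₁)) ((c.π.app i₁) s) ∈ F
    rw [D.map_id]
    have hs : s ∈ (c.π.app i₁).base ⁻¹' F := by rw [h]; exact Set.mem_univ s
    exact hs
  obtain ⟨i, φ₀, hi⟩ := (Groth.Agent.S4787.result D c hc i₁ E F' hE hF' hEm hFm).mp hsub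
  have hcov : (Set.univ : Set (D.obj i)) ⊆ F' i := hi i (𝟙 i)
  -- compactness
  obtain ⟨J, hJ⟩ := scheme_exists_finset_iInter_subset (D.obj i) (E := ∅)
    isIndConstructible_empty (fun φ : (i ⟶ i₁) => ((D.map φ).base ⁻¹' F)ᶜ)
    (fun φ => isProConstructible_compl (Groth.Agent.S15543.result (D.map φ) F hF))
    (by
      intro y hy
      obtain ⟨φ, hφ⟩ := Set.mem_iUnion.mp (hcov (Set.mem_univ y))
      exact (Set.mem_iInter.mp hy φ hφ).elim)
  -- cofiltered
  let O : Finset I := {i, i₁}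
  have mi : i ∈ O := by simp [O]
  have mi₁ : i₁ ∈ O := by simp [O]
  let H : Finset (Σ' (X Y : I) (_ : X ∈ O) (_ : Y ∈ O), X ⟶ Y) :=
    J.image (fun φ => ⟨i, i₁, mi, mi₁, φ⟩)
  obtain ⟨j, T, hT⟩ := IsCofiltered.inf_exists O H
  refine ⟨j, T mi₁, Set.eq_univ_of_forall fun x => ?_⟩
  by_contra hx
  have hy : (D.map (T mi)) x ∈ ⋂ φ ∈ J, ((D.map φ).base ⁻¹' F)ᶜ := by
    refine Set.mem_iInter₂.mpr fun φ hφ hmem => hx ?_
    have hTφ : T mi ≫ φ = T mi₁ := hT mi mi₁ (Finset.mem_image.mpr ⟨φ, hφ, rfl⟩)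
    change (D.map (T mi₁)) x ∈ F
    rw [← hTφ, D.map_comp, Scheme.Hom.comp_apply]
    exact hmem
  exact hJ hy

end Groth.Agent.Lib.Helper7.LimIndCons
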