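import Groth.Agent.Lib.Helper50.MonoRes
import Mathlib.AlgebraicGeometry.PullbackCarrier
import Mathlib.AlgebraicGeometry.Properties
import Mathlib.AlgebraicGeometry.Limits

set_option autoImplicit false
set_option linter.style.haveILetI false
universe u

namespace Groth.Agent.Lib.Helper7.MonoField

open AlgebraicGeometry CategoryTheory CategoryTheory.Limits TopologicalSpace Opposite

lemma isIso_of_mono_of_field {Z : Scheme.{u}} (K : Type u) [Field K]
    (g : Z ⟶ Spec (CommRingCat.of K)) [Mono g] [Nonempty Z] : IsIso g := by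
  obtain ⟨z⟩ := ‹Nonempty Z›
  obtain ⟨U, hU, hzU, -⟩ := exists_isAffineOpen_mem_and_subset (x := z) (U := ⊤) trivial
  obtain ⟨φ, hφ⟩ : ∃ φ : CommRingCat.of K ⟶ Γ(Z, U), Spec.map φ = hU.fromSpec ≫ g :=
    ⟨Spec.preimage (hU.fromSpec ≫ g), Spec.map_preimage _⟩
  haveI : Mono (Spec.map φ) := by rw [hφ]; infer_instance
  haveI : Epi φ := by
    refine ⟨fun {T} α β h => ?_⟩
    apply Spec.map_injective
    rw [← cancel_mono (Spec.map φ), ← Spec.map_comp, ← Spec.map_comp, h]
  haveI : Nontrivial Γ(Z, U) := by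
    haveI : Nonempty U := ⟨⟨z, hzU⟩⟩
    infer_instance
  algebraize [φ.hom]
  haveI : Algebra.IsEpi K Γ(Z, U) :=
    CommRingCat.epi_iff_epi.mp (by
      have : CommRingCat.ofHom (algebraMap K Γ(Z, U)) = φ := rfl
      rw [this]; infer_instance)
  have hsurj := Groth.Agent.Lib.Helper50.surjective_algebraMap_of_isEpi_of_field K Γ(Z, U)
  have hbij : Function.Bijective φ.hom := ⟨φ.hom.injective, hsurj⟩
  haveI : IsIso φ := by
    rw [ConcreteCategory.isIso_iff_bijective]
    exact hbij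
  let s : Spec (CommRingCat.of K) ⟶ Z := inv (Spec.map φ) ≫ hU.fromSpec
  have hs : s ≫ g = 𝟙 _ := by
    simp only [s, Category.assoc, ← hφ, IsIso.inv_hom_id]
  refine ⟨s, ?_, hs⟩
  rw [← cancel_mono g, Category.assoc, hs, Category.comp_id, Category.id_comp]

lemma exists_sigmaι_eq {σ : Type u} (g : σ → Scheme.{u}) (x : ↥(∐ g)) :
    ∃ (i : σ) (a : g i), Sigma.ι g i a = x := by
  obtain ⟨⟨i, a⟩, rfl⟩ := (sigmaMk g).surjective x
  exact ⟨i, a, (sigmaMk_mk g i a).symm⟩

theorem mono_sigma_field {ι : Type u} (k : ι → Type u) [∀ i, Field (k i)]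
    {Y : Scheme.{u}} (f : Y ⟶ ∐ fun i => Spec (CommRingCat.of (k i))) [Mono f] :
    ∃ (J : Set ι) (e : Y ≅ ∐ fun j : J => Spec (CommRingCat.of (k j.1))),
      e.hom ≫ Sigma.desc (fun j : J => Sigma.ι (fun i => Spec (CommRingCat.of (k i))) j.1) = f := by
  classical
  let g : ι → Scheme.{u} := fun i => Spec (CommRingCat.of (k i))
  let J : Set ι := {i | Nonempty ↥(pullback f (Sigma.ι g i))}
  have hiso : ∀ j : J, IsIso (pullback.snd f (Sigma.ι g j.1)) := fun j => by
    haveI : Nonempty ↥(pullback f (Sigma.ι g j.1)) := j.2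
    exact isIso_of_mono_of_field (k j.1) _
  let s : ∀ j : J, g j.1 ⟶ Y := fun j =>
    inv (pullback.snd f (Sigma.ι g j.1)) ≫ pullback.fst f (Sigma.ι g j.1)
  have hs : ∀ j, s j ≫ f = Sigma.ι g j.1 := by
    intro j
    simp only [s, Category.assoc, pullback.condition, IsIso.inv_hom_id_assoc]
  haveI : ∀ j, IsOpenImmersion (s j) := fun j => by
    show IsOpenImmersion (inv (pullback.snd f (Sigma.ι g j.1)) ≫ pullback.fst f (Sigma.ι g j.1))
    infer_instance
  have hcov : ⨆ j, (s j).opensRange = ⊤ := by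
    rw [eq_top_iff]
    intro y _
    obtain ⟨i, a, ha⟩ := exists_sigmaι_eq g (f y)
    obtain ⟨p, hp1, hp2⟩ := Scheme.Pullback.exists_preimage_pullback (f := f) (g := Sigma.ι g i)
      y a ha.symm
    have hi : i ∈ J := ⟨p⟩
    simp only [Opens.iSup_mk, Opens.mem_mk, Set.mem_iUnion]
    refine ⟨⟨i, hi⟩, pullback.snd f (Sigma.ι g i) p, ?_⟩
    show (s ⟨i, hi⟩) (pullback.snd f (Sigma.ι g i) p) = y
    rw [← Scheme.Hom.comp_apply]
    simp only [s, IsIso.hom_inv_id_assoc]
    exact hp1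
  have hdisj : Pairwise (Function.onFun Disjoint (fun j => (s j).opensRange)) := by
    intro j j' hjj'
    rw [Function.onFun_apply, disjoint_iff, eq_bot_iff]
    rintro y ⟨⟨a, ha⟩, ⟨b, hb⟩⟩
    have h1 : Sigma.ι g j.1 a = Sigma.ι g j'.1 b := by
      have h0 : (s j ≫ f) a = (s j' ≫ f) b := congrArg (fun y => f y) (ha.trans hb.symm)
      rwa [hs, hs] at h0
    have h2 := (sigmaι_eq_iff g _ _ _ _).mp h1
    exact hjj' (Subtype.ext (congrArg Sigma.fst h2))
  obtain ⟨hc⟩ := nonempty_isColimit_cofanMk_of s hcov hdisj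
  let e : (∐ fun j : J => g j.1) ≅ Y :=
    (colimit.isColimit _).coconePointUniqueUpToIso hc
  have he : ∀ j : J, Sigma.ι (fun j : J => g j.1) j ≫ e.hom = s j := fun j =>
    (colimit.isColimit _).comp_coconePointUniqueUpToIso_hom hc ⟨j⟩
  refine ⟨J, e.symm, ?_⟩
  rw [Iso.symm_hom, Iso.inv_comp_eq]
  apply Sigma.hom_ext
  intro j
  rw [Sigma.ι_desc, ← Category.assoc, he, hs]

end Groth.Agent.Lib.Helper7.MonoField
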