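import Mathlib
set_option autoImplicit false
universe u

namespace Groth.Agent.Lib.Helper7.MovH

open MvPolynomial

attribute [local instance] MvPolynomial.algebraMvPolynomial

/-- `map f` is a non-zero-divisor of `W[g]` for `f ≠ 0` in `k[g]`. -/
theorem map_mem_nonZeroDivisors {k : Type u} [Field k] {r : ℕ} (W : Type u) [CommRing W]
    [Algebra k W] (f : MvPolynomial (Fin r) k) (hf : f ≠ 0) :
    MvPolynomial.map (algebraMap k W) f ∈ nonZeroDivisors (MvPolynomial (Fin r) W) := by
  have hpo : Algebra.IsPushout k (MvPolynomial (Fin r) k) W (MvPolynomial (Fin r) W) :=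
    inferInstance
  have hbc := hpo.out
  have : Module.Flat (MvPolynomial (Fin r) k) (MvPolynomial (Fin r) W) :=
    Module.Flat.isBaseChange (R := k) (S := MvPolynomial (Fin r) k) (M := W) _ hbc
  have hreg : IsSMulRegular (MvPolynomial (Fin r) W) f :=
    Module.Flat.isSMulRegular_of_nonZeroDivisors (mem_nonZeroDivisors_of_ne_zero hf)
  rw [mem_nonZeroDivisors_iff_right]
  intro y hy
  apply hreg
  show f • y = f • 0
  rw [smul_zero, Algebra.smul_def, mul_comm]
  exact hy

theorem exists_mul_eq_map {k : Type u} [Field k] {r : ℕ} (W : Type u) [CommRing W] [Algebra k W]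
    [Module.Finite k W] (ξ : Fin r → W) (c : W) (hc : IsUnit c)
    (f : MvPolynomial (Fin r) k) (hf : f ≠ 0) :
    ∃ (h : MvPolynomial (Fin r) k) (G : MvPolynomial (Fin r) W), h ≠ 0 ∧
      MvPolynomial.aeval (fun i => MvPolynomial.C (ξ i) + MvPolynomial.C c * MvPolynomial.X i) f * G
        = MvPolynomial.map (algebraMap k W) h := by
  obtain ⟨d, hcd⟩ := hc.exists_right_inv
  have hdc : d * c = 1 := by rw [mul_comm]; exact hcd
  set F := MvPolynomial.aeval (R := k)
    (fun i => (MvPolynomial.C (ξ i) + MvPolynomial.C c * MvPolynomial.X i :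
      MvPolynomial (Fin r) W)) f with hF
  -- the inverse substitution
  let Θ : MvPolynomial (Fin r) W →ₐ[W] MvPolynomial (Fin r) W :=
    MvPolynomial.aeval (fun i => MvPolynomial.C d * (MvPolynomial.X i - MvPolynomial.C (ξ i)))
  let Θ' : MvPolynomial (Fin r) W →ₐ[W] MvPolynomial (Fin r) W :=
    MvPolynomial.aeval (fun i => MvPolynomial.C (ξ i) + MvPolynomial.C c * MvPolynomial.X i)
  have h1 : Θ'.comp Θ = AlgHom.id W _ := by
    apply MvPolynomial.algHom_ext
    intro i
    simp only [Θ, Θ', AlgHom.comp_apply, aeval_X, map_mul, map_sub, AlgHom.id_apply,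
      MvPolynomial.algHom_C, algebraMap_eq]
    rw [add_sub_cancel_left, ← mul_assoc, ← C_mul, hdc, C_1, one_mul]
  have h2 : Θ.comp Θ' = AlgHom.id W _ := by
    apply MvPolynomial.algHom_ext
    intro i
    simp only [Θ, Θ', AlgHom.comp_apply, aeval_X, map_mul, map_add, AlgHom.id_apply,
      MvPolynomial.algHom_C, algebraMap_eq]
    rw [← mul_assoc, ← C_mul, hcd, C_1, one_mul, add_sub_cancel]
  have hΘF : Θ F = MvPolynomial.map (algebraMap k W) f := by
    rw [hF]
    have : ∀ p : MvPolynomial (Fin r) k,
        Θ (MvPolynomial.aeval (R := k)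
          (fun i => (MvPolynomial.C (ξ i) + MvPolynomial.C c * MvPolynomial.X i :
            MvPolynomial (Fin r) W)) p) = MvPolynomial.map (algebraMap k W) p := by
      intro p
      induction p using MvPolynomial.induction_on with
      | C a =>
        simp only [aeval_C, map_C]
        rw [IsScalarTower.algebraMap_apply k W (MvPolynomial (Fin r) W), AlgHom.commutes]
        rfl
      | add p q hp hq => rw [map_add, map_add, hp, hq, map_add]
      | mul_X p i hp =>
        rw [map_mul, map_mul, hp, map_mul, aeval_X, map_X]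
        congr 1
        have h2i := congrArg (fun φ : MvPolynomial (Fin r) W →ₐ[W] MvPolynomial (Fin r) W =>
          φ (X i)) h2
        simp only [AlgHom.comp_apply, AlgHom.id_apply, Θ', aeval_X] at h2i
        exact h2i
    exact this f
  have hFreg : F ∈ nonZeroDivisors (MvPolynomial (Fin r) W) := by
    rw [mem_nonZeroDivisors_iff_right]
    intro y hy
    have h3 : Θ y * MvPolynomial.map (algebraMap k W) f = 0 := by
      rw [← hΘF, ← map_mul, hy, map_zero]
    have h4 : Θ y = 0 :=
      (mem_nonZeroDivisors_iff_right.mp (map_mem_nonZeroDivisors W f hf)) _ h3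
    have h5 : Θ' (Θ y) = y := congrArg (fun φ : MvPolynomial (Fin r) W →ₐ[W]
      MvPolynomial (Fin r) W => φ y) h1
    rw [← h5, h4, map_zero]
  have : Algebra.IsAlgebraic k W := Algebra.IsAlgebraic.of_finite k W
  have halg : IsAlgebraic (MvPolynomial (Fin r) k) F := Algebra.IsAlgebraic.isAlgebraic F
  obtain ⟨h, hh0, G, hG⟩ := halg.exists_nonzero_dvd hFreg
  exact ⟨h, G, hh0, hG.symm⟩

end Groth.Agent.Lib.Helper7.MovH
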