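import Mathlib
import Groth.Agent.Lib.Helper7.ContrFIB
set_option autoImplicit false
universe u
open CategoryTheory CategoryTheory.Limits AlgebraicGeometry

namespace Groth.Agent.Lib.Helper7.NeronUnqFC

/-- residue field maps of morphisms surjective on stalks are surjective. -/
theorem residueFieldMap_surjective {X Y : Scheme.{u}} (f : X ⟶ Y) [SurjectiveOnStalks f] (x : X) :
    Function.Surjective (f.residueFieldMap x).hom := by
  intro y
  obtain ⟨b, rfl⟩ := IsLocalRing.residue_surjective (R := X.presheaf.stalk x) y
  obtain ⟨a, rfl⟩ := f.stalkMap_surjective x b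
  refine ⟨(Y.residue (f x)).hom a, ?_⟩
  have := congrArg (fun φ => φ.hom a) (Scheme.residue_residueFieldMap f x)
  exact this

theorem finite_of_comp_finite_field {K1 K2 K3 : Type u} [Field K1] [Field K2] [Field K3]
    (f : K1 →+* K2) (g : K2 →+* K3) (h : (g.comp f).Finite) : f.Finite := by
  algebraize [f, g, g.comp f]
  have h' : Module.Finite K1 K3 := h
  exact Module.Finite.of_injective (IsScalarTower.toAlgHom K1 K2 K3).toLinearMap g.injective

theorem finite_comp3 {A B C D : CommRingCat.{u}} (a : A ⟶ B) (b : B ⟶ C) (c : C ⟶ D)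
    (ha : a.hom.Finite) (hb : b.hom.Finite) (hc : c.hom.Finite) : (a ≫ b ≫ c).hom.Finite := by
  rw [CommRingCat.hom_comp, CommRingCat.hom_comp]
  exact RingHom.Finite.comp (RingHom.Finite.comp hc hb) ha

theorem exists_mem_finite_residueFieldMap {Z S : Scheme.{u}} (q : Z ⟶ S) [LocallyOfFiniteType q]
    (C : Set Z) (hC : IsClosed C) (hne : C.Nonempty) :
    ∃ c ∈ C, (q.residueFieldMap c).hom.Finite := by
  obtain ⟨z, hz⟩ := hne
  set j := S.fromSpecResidueField (q z) with hj
  have : JacobsonSpace (Spec (S.residueField (q z))) :=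
    PrimeSpectrum.isJacobsonRing_iff_jacobsonSpace.mp inferInstance
  have : JacobsonSpace ↥(pullback q j) := LocallyOfFiniteType.jacobsonSpace (pullback.snd q j)
  obtain ⟨z', hz'1, -⟩ := Scheme.Pullback.exists_preimage_pullback (f := q) (g := j) z
    (show ↥(Spec (S.residueField (q z))) from IsLocalRing.closedPoint _)
    (Scheme.fromSpecResidueField_apply _ _).symm
  have hne' : ((pullback.fst q j) ⁻¹' C).Nonempty := ⟨z', by simpa [hz'1] using hz⟩
  have hcl' : IsClosed ((pullback.fst q j) ⁻¹' C) := hC.preimage (pullback.fst q j).continuous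
  obtain ⟨c', hc'C, hc'cl⟩ := nonempty_inter_closedPoints hne' hcl'.isLocallyClosed
  have hc'closed : IsClosed ({c'} : Set ↥(pullback q j)) := hc'cl
  refine ⟨(pullback.fst q j) c', hc'C, ?_⟩
  have hsnd : ((pullback.snd q j).residueFieldMap c').hom.Finite :=
    Groth.Agent.Lib.Helper7.ContrFIB.residueFieldMap_finite (pullback.snd q j) c' hc'closed
  have hjs : (j.residueFieldMap ((pullback.snd q j) c')).hom.Finite :=
    RingHom.Finite.of_surjective _ (residueFieldMap_surjective j _)
  have hcongr := Scheme.Hom.residueFieldMap_congr (pullback.condition (f := q) (g := j)) c'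
  rw [Scheme.residueFieldMap_comp, Scheme.residueFieldMap_comp] at hcongr
  apply finite_of_comp_finite_field _ ((pullback.fst q j).residueFieldMap c').hom
  rw [← CommRingCat.hom_comp, hcongr]
  refine finite_comp3 _ _ _ ?_ hjs hsnd
  exact RingHom.Finite.of_surjective _
    (ConcreteCategory.bijective_of_isIso (S.residueFieldCongr _).hom).surjective

end Groth.Agent.Lib.Helper7.NeronUnqFC
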