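import Mathlib
set_option autoImplicit false
universe u
open CategoryTheory CategoryTheory.Limits AlgebraicGeometry TensorProduct

namespace Groth.Agent.Lib.Helper7.SDFISOF

theorem app_eq_zero_of_eq_comp {X Y Z : Scheme.{u}} (g : X ⟶ Y) (m : Y ⟶ Z) (f : X ⟶ Z)
    (hf : f = g ≫ m) (V : Z.Opens) (t : Γ(Z, V)) (h : m.app V t = 0) : f.app V t = 0 := by
  subst hf
  change (ConcreteCategory.hom (g.app (m ⁻¹ᵁ V))) ((ConcreteCategory.hom (m.app V)) t) = 0
  rw [h, map_zero]

theorem ISOF {X S' B Zi : Scheme.{u}} (p : X ⟶ B) (q : S' ⟶ B) (fi : Zi ⟶ X)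
    (V : (pullback p q).Opens) (t : Γ(pullback p q, V))
    (h : (pullback.map (fi ≫ p) q p q fi (𝟙 S') (𝟙 _) (Category.comp_id _)
      ((Category.comp_id _).trans (Category.id_comp _).symm)).app V t = 0) :
    (pullback.snd fi (pullback.fst p q)).app V t = 0 := by
  have key : pullback.snd fi (pullback.fst p q) =
      (pullbackRightPullbackFstIso p q fi).hom ≫
        pullback.map (fi ≫ p) q p q fi (𝟙 S') (𝟙 _) (Category.comp_id _)
          ((Category.comp_id _).trans (Category.id_comp _).symm) := by
    apply pullback.hom_ext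
    · rw [Category.assoc, pullback.lift_fst, ← Category.assoc,
        pullbackRightPullbackFstIso_hom_fst, pullback.condition]
    · rw [Category.assoc, pullback.lift_snd, Category.comp_id,
        pullbackRightPullbackFstIso_hom_snd]
  exact app_eq_zero_of_eq_comp _ _ _ key V t h

end Groth.Agent.Lib.Helper7.SDFISOF
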