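import Mathlib.AlgebraicGeometry.Stalk
import Mathlib.AlgebraicGeometry.Properties
import Mathlib.CategoryTheory.Limits.Shapes.Pullback.IsPullback.Basic

set_option autoImplicit false
set_option linter.style.haveILetI false
universe u

/-!
# Kernels of stalk maps via morphisms from spectra of local rings

`ker_stalkMap_le`: if `gs : P ⟶ X` is injective on points, `R'` is a local ring with a local hom
`q : O_{X, gs ξ} ⟶ R'` and `Spec R' ⟶ X` (induced by `q`) factors through `gs`, then
`ker (gs.stalkMap ξ) ≤ ker q`.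
-/

namespace Groth.Agent.Lib.Helper7.StalkKer

open AlgebraicGeometry CategoryTheory CategoryTheory.Limits TopologicalSpace Opposite

set_option backward.isDefEq.respectTransparency false in
lemma aux {X Y : Scheme.{u}} (ι : Y ⟶ X) (R : CommRingCat.{u}) [IsLocalRing R]
    (g : Spec R ⟶ Y) (y : Y) (hgc : g (IsLocalRing.closedPoint R) = y) (U : X.Opens)
    (hxU : ι y ∈ U) (a' : Γ(X, U))
    (ha : (ι.stalkMap y).hom (X.presheaf.germ U (ι y) hxU a') = 0)
    (h : Spec R ⟶ X) (hg : g ≫ ι = h) (hU : h (IsLocalRing.closedPoint R) ∈ U) :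
    (Scheme.stalkClosedPointTo h).hom (X.presheaf.germ U (h (IsLocalRing.closedPoint R)) hU a') = 0 := by
  subst hg
  subst hgc
  rw [Scheme.stalkClosedPointTo_comp]
  exact (congrArg (ConcreteCategory.hom (Scheme.stalkClosedPointTo g)) ha).trans (map_zero _)

set_option backward.isDefEq.respectTransparency false in
/-- If `Spec R' ⟶ X` (given by a local hom `q : O_{X, gs ξ} ⟶ R'`) factors through `gs : P ⟶ X`
(injective on points), then `ker (gs.stalkMap ξ) ≤ ker q`. -/
lemma ker_stalkMap_le {X P : Scheme.{u}} (gs : P ⟶ X) (hinj : Function.Injective gs) (ξ : P)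
    (R' : CommRingCat.{u}) [IsLocalRing R'] (q : X.presheaf.stalk (gs ξ) ⟶ R') [IsLocalHom q.hom]
    (g : Spec R' ⟶ P) (hg : g ≫ gs = Spec.map q ≫ X.fromSpecStalk (gs ξ)) :
    RingHom.ker (gs.stalkMap ξ).hom ≤ RingHom.ker q.hom := by
  intro a ha
  rw [RingHom.mem_ker] at ha ⊢
  have hc : (Spec.map q ≫ X.fromSpecStalk (gs ξ)) (IsLocalRing.closedPoint R') = gs ξ := by
    rw [Scheme.Hom.comp_apply, Spec_closedPoint, Scheme.fromSpecStalk_closedPoint]
  have hgc : g (IsLocalRing.closedPoint R') = ξ := by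
    apply hinj
    have h0 : (g ≫ gs) (IsLocalRing.closedPoint R') =
        (Spec.map q ≫ X.fromSpecStalk (gs ξ)) (IsLocalRing.closedPoint R') := by rw [hg]
    rw [hc] at h0
    exact h0
  obtain ⟨U, hxU, a', ha'⟩ := TopCat.Presheaf.exists_germ_eq X.presheaf a
  rw [← ha'] at ha
  have hU : (Spec.map q ≫ X.fromSpecStalk (gs ξ)) (IsLocalRing.closedPoint R') ∈ U := by
    rw [hc]; exact hxU
  have e1 := Scheme.germ_stalkClosedPointTo_Spec_fromSpecStalk q U hU
  have e3 := aux gs R' g ξ hgc U hxU a' ha _ hg hU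
  have e4 : (X.presheaf.germ U _ hU ≫ Scheme.stalkClosedPointTo
      (Spec.map q ≫ X.fromSpecStalk (gs ξ))) a' = 0 := e3
  rw [e1] at e4
  rw [← ha']
  exact e4

/-- `Spec O_{X,x} ⟶ X ⟶ Spec A` is `Spec` of `A → Γ(X) → O_{X,x}`. -/
lemma fromSpecStalk_comp {A : Type u} [CommRing A] {X : Scheme.{u}}
    (f : X ⟶ Spec (CommRingCat.of A)) (x : X) :
    X.fromSpecStalk x ≫ f =
      Spec.map ((Scheme.ΓSpecIso (CommRingCat.of A)).inv ≫ f.appTop ≫
        X.presheaf.germ ⊤ x trivial) := by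
  apply ext_of_isAffine
  have h1 : ∀ φ : CommRingCat.of A ⟶ X.presheaf.stalk x, (Spec.map φ).appTop =
      (Scheme.ΓSpecIso _).hom ≫ φ ≫ (Scheme.ΓSpecIso _).inv := by
    intro φ
    rw [← Category.assoc, ← Scheme.ΓSpecIso_naturality, Category.assoc, Iso.hom_inv_id,
      Category.comp_id]
  rw [h1, Scheme.Hom.comp_appTop, Scheme.fromSpecStalk_appTop]
  simp only [Category.assoc, Iso.hom_inv_id_assoc]
  congr 2

end Groth.Agent.Lib.Helper7.StalkKer
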