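import Mathlib
import Groth.Agent.Lib.Helper6.ThickIsAffine

set_option autoImplicit false
set_option linter.style.haveILetI false
universe u
open CategoryTheory AlgebraicGeometry TopologicalSpace Opposite

namespace Groth.Agent.Lib.Helper7.ThickQAff

/-- binomial trick: if `ε` is nilpotent and `x ^ M * ε` lies in the subring `S ∋ x`, then a power
of `x + ε` lies in `S`. -/
theorem exists_pow_mem_subring {T : Type*} [CommRing T] (S : Subring T) (x ε : T) (hx : x ∈ S)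
    (N : ℕ) (hε : ε ^ N = 0) (M : ℕ) (hM : x ^ M * ε ∈ S) :
    ∃ n : ℕ, 0 < n ∧ (x + ε) ^ n ∈ S := by
  refine ⟨M * N + N + 1, Nat.succ_pos _, ?_⟩
  rw [add_pow]
  refine Subring.sum_mem _ fun m hm => ?_
  refine S.mul_mem ?_ (natCast_mem S _)
  have hmn : m ≤ M * N + N + 1 := Nat.lt_succ_iff.mp (Finset.mem_range.mp hm)
  by_cases h : N ≤ M * N + N + 1 - m
  · have : ε ^ (M * N + N + 1 - m) = 0 := by
      rw [← Nat.sub_add_cancel h, pow_add, hε, mul_zero]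
    rw [this, mul_zero]
    exact S.zero_mem
  · push Not at h
    have h1 : M * (M * N + N + 1 - m) ≤ M * N := Nat.mul_le_mul_left M (le_of_lt h)
    have h2 : M * (M * N + N + 1 - m) ≤ m := by
      generalize M * (M * N + N + 1 - m) = q at h1
      generalize M * N = p at *
      omega
    have hxm : x ^ m = x ^ (m - M * (M * N + N + 1 - m)) * (x ^ M) ^ (M * N + N + 1 - m) := by
      rw [← pow_mul, ← pow_add, Nat.sub_add_cancel h2]
    rw [hxm, mul_assoc, ← mul_pow]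
    exact S.mul_mem (S.pow_mem hx _) (S.pow_mem hM _)

/-- restriction of sections as a ring homomorphism. -/
abbrev res {X : Scheme.{u}} {U V : X.Opens} (h : V ≤ U) : Γ(X, U) →+* Γ(X, V) :=
  (X.presheaf.map (homOfLE h).op).hom

theorem res_res {X : Scheme.{u}} {U V W : X.Opens} (h₁ : V ≤ U) (h₂ : W ≤ V) (s : Γ(X, U)) :
    res h₂ (res h₁ s) = res (h₂.trans h₁) s := by
  change (X.presheaf.map (homOfLE h₁).op ≫ X.presheaf.map (homOfLE h₂).op).hom s = _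
  rw [← Functor.map_comp]
  rfl

theorem app_res {Z X : Scheme.{u}} (i : Z ⟶ X) {U V : X.Opens} (h : V ≤ U) (s : Γ(X, U)) :
    (i.app V).hom (res h s) = res (i.preimage_mono h) ((i.app U).hom s) := by
  have := ConcreteCategory.congr_hom (i.naturality (homOfLE h).op) s
  exact this

theorem exists_extension {Z X : Scheme.{u}} (i : Z ⟶ X) [IsClosedImmersion i]
    (W₂ : X.Opens) (hW₂ : IsAffineOpen W₂) (Y : X.Opens) (hYW : Y ≤ W₂)
    (hY : IsCompact (Y : Set X)) (α : Γ(X, W₂)) (hD : X.basicOpen α ≤ Y) (ε : Γ(X, Y))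
    (hε : (i.app Y).hom ε = 0) :
    ∃ (M : ℕ) (e : Γ(X, W₂)), (i.app W₂).hom e = 0 ∧ res hYW e = (res hYW α) ^ M * ε := by
  have hDW : X.basicOpen α ≤ W₂ := X.basicOpen_le α
  obtain ⟨M₁, e₁, he₁⟩ := exists_eq_pow_mul_of_isAffineOpen X W₂ hW₂ α (res hD ε)
  replace he₁ : res hDW e₁ = (res hDW α) ^ M₁ * res hD ε := he₁
  have hᾱ : Z.basicOpen ((i.app W₂).hom α) = i ⁻¹ᵁ X.basicOpen α :=
    (Scheme.preimage_basicOpen i α).symm
  have H : res (Z.basicOpen_le ((i.app W₂).hom α)) ((i.app W₂).hom e₁) = 0 := by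
    have h1 : res (Z.basicOpen_le ((i.app W₂).hom α)) ((i.app W₂).hom e₁) =
        res hᾱ.le ((i.app (X.basicOpen α)).hom (res hDW e₁)) := by
      rw [app_res, res_res]
    rw [h1, he₁, map_mul, app_res i hD, hε, map_zero, mul_zero, map_zero]
  obtain ⟨M₂, hM₂⟩ := exists_pow_mul_eq_zero_of_res_basicOpen_eq_zero_of_isAffineOpen Z
    (hW₂.preimage i) ((i.app W₂).hom e₁) ((i.app W₂).hom α) H
  have h₂ : (i.app W₂).hom (α ^ M₂ * e₁) = 0 := by
    rw [map_mul, map_pow]; exact hM₂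
  have hD'Y : X.basicOpen (res hYW α) ≤ Y := X.basicOpen_le _
  have hD'D : X.basicOpen (res hYW α) ≤ X.basicOpen α := by
    rw [Scheme.basicOpen_res]; exact inf_le_right
  have Hδ : res hD'Y (res hYW (α ^ M₂ * e₁) - (res hYW α) ^ (M₁ + M₂) * ε) = 0 := by
    have h3 : res hD'Y (res hYW e₁) = res hD'D (res hDW e₁) := by rw [res_res, res_res]
    have h4 : res hD'D (res hDW α) = res hD'Y (res hYW α) := by rw [res_res, res_res]
    have h5 : res hD'D (res hD ε) = res hD'Y ε := by rw [res_res]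
    rw [map_sub, map_mul, map_mul, map_pow, map_mul, map_pow, map_pow, h3, he₁, map_mul, map_pow,
      h4, h5]
    ring
  obtain ⟨M₃, hM₃⟩ := exists_pow_mul_eq_zero_of_res_basicOpen_eq_zero_of_isCompact X hY _
    (res hYW α) Hδ
  refine ⟨M₁ + M₂ + M₃, α ^ M₃ * (α ^ M₂ * e₁), ?_, ?_⟩
  · rw [map_mul, h₂, mul_zero]
  · have h6 : res hYW (α ^ M₂ * e₁) = (res hYW (α ^ M₂ * e₁) - (res hYW α) ^ (M₁ + M₂) * ε) +
        (res hYW α) ^ (M₁ + M₂) * ε := by ring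
    rw [map_mul, map_pow, h6, mul_add, hM₃, zero_add, ← mul_assoc, ← pow_add]
    congr 2
    omega

theorem isNilpotent_of_app_eq_zero {Z X : Scheme.{u}} (i : Z ⟶ X)
    (hsurj : Function.Surjective i) (Y : X.Opens) (hY : IsCompact (Y : Set X)) (ε : Γ(X, Y))
    (hε : (i.app Y).hom ε = 0) : IsNilpotent ε := by
  rw [Scheme.isNilpotent_iff_basicOpen_eq_bot_of_isCompact hY, eq_bot_iff]
  intro x hx
  obtain ⟨z, rfl⟩ := hsurj x
  have : z ∈ i ⁻¹ᵁ X.basicOpen ε := hx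
  rw [Scheme.preimage_basicOpen] at this
  have h0 : i.app Y ε = 0 := hε
  rw [h0, Scheme.basicOpen_zero] at this
  exact this.elim

/-- **Step lemma**: extend a lift of a power of `a` from `W₁` to `W₁ ⊔ W₂`, `W₂` affine. -/
theorem step {Z X : Scheme.{u}} (i : Z ⟶ X) [IsClosedImmersion i]
    (hsurj : Function.Surjective i) (a : Γ(Z, ⊤)) (W₁ W₂ : X.Opens) (hW₂ : IsAffineOpen W₂)
    (hY : IsCompact ((W₁ ⊓ W₂ : X.Opens) : Set X))
    (hle : ∀ z : Z, z ∈ Z.basicOpen a → i z ∈ W₂ → i z ∈ W₁)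
    (n₁ : ℕ) (hn₁ : 0 < n₁) (r₁ : Γ(X, W₁))
    (hr₁ : (i.app W₁).hom r₁ = res le_top (a ^ n₁)) :
    ∃ n : ℕ, 0 < n ∧ ∃ r : Γ(X, W₁ ⊔ W₂), (i.app (W₁ ⊔ W₂)).hom r = res le_top (a ^ n) := by
  obtain ⟨α, hα⟩ := i.app_surjective W₂ hW₂ (res le_top a)
  replace hα : (i.app W₂).hom α = res le_top a := hα
  have hYW₁ : W₁ ⊓ W₂ ≤ W₁ := inf_le_left
  have hYW₂ : W₁ ⊓ W₂ ≤ W₂ := inf_le_right
  -- the basic open of α lies in W₁ ⊓ W₂
  have hD : X.basicOpen α ≤ W₁ ⊓ W₂ := by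
    intro x hx
    have hx₂ : x ∈ W₂ := X.basicOpen_le α hx
    obtain ⟨z, rfl⟩ := hsurj x
    have hz : z ∈ i ⁻¹ᵁ X.basicOpen α := hx
    rw [Scheme.preimage_basicOpen] at hz
    have h0 : i.app W₂ α = res le_top a := hα
    rw [h0] at hz
    have hz' : z ∈ i ⁻¹ᵁ W₂ ⊓ Z.basicOpen a := by
      have := Z.basicOpen_res a (homOfLE (le_top : i ⁻¹ᵁ W₂ ≤ ⊤)).op
      rw [← this]; exact hz
    exact ⟨hle z hz'.2 hx₂, hx₂⟩
  -- ε
  have hε : (i.app (W₁ ⊓ W₂)).hom (res hYW₁ r₁ - (res hYW₂ α) ^ n₁) = 0 := by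
    rw [map_sub, map_pow, app_res, app_res, hr₁, hα, res_res, res_res, ← map_pow, sub_self]
  obtain ⟨N, hN⟩ := isNilpotent_of_app_eq_zero i hsurj _ hY _ hε
  obtain ⟨M, e, he0, he⟩ := exists_extension i W₂ hW₂ (W₁ ⊓ W₂) hYW₂ hY α hD _ hε
  -- product ring
  let Φ : Γ(X, W₂) →+* Γ(X, W₁ ⊓ W₂) × Γ(Z, i ⁻¹ᵁ W₂) := RingHom.prod (res hYW₂) (i.app W₂).hom
  obtain ⟨n, hn, hmem⟩ := exists_pow_mem_subring Φ.range
    (Φ (α ^ n₁)) ((res hYW₁ r₁ - (res hYW₂ α) ^ n₁, 0) : Γ(X, W₁ ⊓ W₂) × Γ(Z, i ⁻¹ᵁ W₂))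
    ⟨_, rfl⟩ (N + 1)
    (by
      ext
      · change (res hYW₁ r₁ - (res hYW₂ α) ^ n₁) ^ (N + 1) = 0
        rw [pow_succ, hN, zero_mul]
      · change (0 : Γ(Z, i ⁻¹ᵁ W₂)) ^ (N + 1) = 0
        rw [pow_succ, mul_zero]) M
    ⟨α ^ ((n₁ - 1) * M) * e, by
      ext
      · change res hYW₂ (α ^ ((n₁ - 1) * M) * e) =
          (res hYW₂ (α ^ n₁)) ^ M * (res hYW₁ r₁ - (res hYW₂ α) ^ n₁)
        rw [map_mul, he, map_pow, map_pow, ← pow_mul, ← mul_assoc, ← pow_add]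
        congr 2
        obtain ⟨k, rfl⟩ : ∃ k, n₁ = k + 1 := ⟨n₁ - 1, by omega⟩
        simp only [Nat.add_sub_cancel]
        ring
      · change (i.app W₂).hom (α ^ ((n₁ - 1) * M) * e) = ((i.app W₂).hom (α ^ n₁)) ^ M * 0
        rw [map_mul, he0, mul_zero, mul_zero]⟩
  obtain ⟨ρ, hρ⟩ := hmem
  have hρ₁ : res hYW₂ ρ = res hYW₁ (r₁ ^ n) := by
    have := congrArg Prod.fst hρ
    change res hYW₂ ρ = (res hYW₂ (α ^ n₁) + (res hYW₁ r₁ - (res hYW₂ α) ^ n₁)) ^ n at this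
    rw [this, map_pow, map_pow]
    congr 1
    ring
  have hρ₂ : (i.app W₂).hom ρ = res le_top (a ^ (n₁ * n)) := by
    have := congrArg Prod.snd hρ
    change (i.app W₂).hom ρ = ((i.app W₂).hom (α ^ n₁) + 0) ^ n at this
    rw [this, add_zero, map_pow, hα, ← pow_mul, ← map_pow]
  refine ⟨n₁ * n, Nat.mul_pos hn₁ hn, ?_⟩
  -- glue
  let r : Γ(X, W₁ ⊔ W₂) := (X.sheaf.objSupIsoProdEqLocus W₁ W₂).inv ⟨(r₁ ^ n, ρ), hρ₁.symm⟩
  have hf₁ : res le_sup_left r = r₁ ^ n := X.sheaf.objSupIsoProdEqLocus_inv_fst W₁ W₂ _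
  have hf₂ : res le_sup_right r = ρ := X.sheaf.objSupIsoProdEqLocus_inv_snd W₁ W₂ _
  refine ⟨r, ?_⟩
  refine Z.sheaf.eq_of_locally_eq₂ (homOfLE (i.preimage_mono (le_sup_left : W₁ ≤ W₁ ⊔ W₂)))
    (homOfLE (i.preimage_mono (le_sup_right : W₂ ≤ W₁ ⊔ W₂))) (le_of_eq rfl) _ _ ?_ ?_
  · change res (i.preimage_mono (le_sup_left : W₁ ≤ W₁ ⊔ W₂)) ((i.app (W₁ ⊔ W₂)).hom r) =
      res (i.preimage_mono (le_sup_left : W₁ ≤ W₁ ⊔ W₂)) (res le_top (a ^ (n₁ * n)))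
    rw [← app_res i (le_sup_left : W₁ ≤ W₁ ⊔ W₂), hf₁, map_pow, hr₁, ← map_pow, ← pow_mul, res_res]
  · change res (i.preimage_mono (le_sup_right : W₂ ≤ W₁ ⊔ W₂)) ((i.app (W₁ ⊔ W₂)).hom r) =
      res (i.preimage_mono (le_sup_right : W₂ ≤ W₁ ⊔ W₂)) (res le_top (a ^ (n₁ * n)))
    rw [← app_res i (le_sup_right : W₂ ≤ W₁ ⊔ W₂), hf₂, hρ₂, res_res]

/-- A thickening of a quasi-affine scheme is quasi-affine (no Noetherian hypothesis). -/
theorem isQuasiAffine_of_thickening {Z X : Scheme.{u}} (i : Z ⟶ X) [IsClosedImmersion i]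
    (hi : IsHomeomorph i.base) [Z.IsQuasiAffine] : X.IsQuasiAffine := by
  classical
  have hsurj : Function.Surjective i := hi.surjective
  have hinj : Function.Injective i := hi.injective
  haveI : CompactSpace X := hi.homeomorph.compactSpace
  haveI : QuasiSeparatedSpace X :=
    QuasiSeparatedSpace.of_isOpenEmbedding hi.homeomorph.symm.isOpenEmbedding
  refine Scheme.IsQuasiAffine.of_forall_exists_mem_basicOpen X fun x => ?_
  obtain ⟨z, rfl⟩ := hsurj x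
  obtain ⟨_, ⟨a, ha, rfl⟩, hza, -⟩ := Opens.isBasis_iff_nbhd.mp
    (Scheme.IsQuasiAffine.isBasis_basicOpen Z) (Opens.mem_top z)
  -- the thick version of `Z_a`
  let W₀ : X.Opens := ⟨i '' (Z.basicOpen a : Set Z), hi.isOpenMap _ (Z.basicOpen a).isOpen⟩
  have hW₀pre : i ⁻¹ᵁ W₀ = Z.basicOpen a := by
    ext w
    change i w ∈ i '' (Z.basicOpen a : Set Z) ↔ _
    rw [hinj.mem_set_image]
  have hW₀ : IsAffineOpen W₀ :=
    Groth.Agent.Lib.Helper6.ThickIsAffine.isAffineOpen_of_thickening i hsurj W₀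
      (by rw [hW₀pre]; exact ha)
  -- a finite affine cover
  choose U hU hxU using fun x : X => Opens.isBasis_iff_nbhd.mp X.isBasis_affineOpens
    (Opens.mem_top x)
  obtain ⟨t, ht⟩ := isCompact_univ.elim_finite_subcover (fun x : X => ((U x : X.Opens) : Set X))
    (fun x => (U x).isOpen) (fun x _ => Set.mem_iUnion.mpr ⟨x, (hxU x).1⟩)
  have key : ∀ t : Finset X, IsCompact ((W₀ ⊔ t.sup U : X.Opens) : Set X) ∧
      ∃ n : ℕ, 0 < n ∧ ∃ r : Γ(X, W₀ ⊔ t.sup U),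
        (i.app (W₀ ⊔ t.sup U)).hom r = res le_top (a ^ n) := by
    intro t
    induction t using Finset.induction_on with
    | empty =>
      rw [Finset.sup_empty, sup_bot_eq]
      refine ⟨hW₀.isCompact, 1, Nat.one_pos, ?_⟩
      obtain ⟨r, hr⟩ := i.app_surjective W₀ hW₀ (res le_top (a ^ 1))
      exact ⟨r, hr⟩
    | insert b t _ ih =>
      obtain ⟨hc, n₁, hn₁, r₁, hr₁⟩ := ih
      have e : W₀ ⊔ (insert b t).sup U = (W₀ ⊔ t.sup U) ⊔ U b := by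
        rw [Finset.sup_insert, sup_comm (U b), sup_assoc]
      rw [e]
      refine ⟨?_, ?_⟩
      · rw [Opens.coe_sup]
        exact hc.union (hU b).isCompact
      · exact step i hsurj a _ _ (hU b)
          (QuasiSeparatedSpace.inter_isCompact _ _ (W₀ ⊔ t.sup U).isOpen hc (U b).isOpen
            (hU b).isCompact)
          (fun w hw _ => Or.inl ⟨w, hw, rfl⟩) n₁ hn₁ r₁ hr₁
  obtain ⟨-, n, hn, r, hr⟩ := key t
  have htop : (⊤ : X.Opens) ≤ W₀ ⊔ t.sup U := by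
    intro y _
    right
    obtain ⟨b, hb⟩ := Set.mem_iUnion.mp (ht (Set.mem_univ y))
    obtain ⟨hbt, hyb⟩ := Set.mem_iUnion.mp hb
    exact (Finset.le_sup (f := U) hbt) hyb
  have h1 : i.appTop (res htop r) = a ^ n := by
    change (i.app ⊤).hom (res htop r) = a ^ n
    rw [app_res, hr, res_res]
    change (Z.presheaf.map (𝟙 _)).hom (a ^ n) = a ^ n
    rw [Z.presheaf.map_id]
    rfl
  have hb : i ⁻¹ᵁ X.basicOpen (res htop r) = Z.basicOpen a := by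
    rw [Scheme.preimage_basicOpen_top, h1, Z.basicOpen_pow a hn]
  refine ⟨res htop r, ?_, ?_⟩
  · refine Groth.Agent.Lib.Helper6.ThickIsAffine.isAffineOpen_of_thickening i hsurj _ ?_
    rw [hb]
    exact ha
  · change z ∈ i ⁻¹ᵁ X.basicOpen (res htop r)
    rw [hb]
    exact hza

end Groth.Agent.Lib.Helper7.ThickQAff
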